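import Mathlib
import Cfsg.Agent.H337.HT.NumP
import Cfsg.Agent.H659.J1Not11
import Cfsg.Agent.H871.Par8
import Cfsg.Agent.H578.HT.Cov_m3
import Cfsg.Agent.H906.Cover_m3
import Cfsg.Agent.H960.HT.Her
import Cfsg.Agent.LieRecognition.FieldSemilinear
import Cfsg.Agent.H65.CN.Grp
import Cfsg.Agent.Lib.PermCode
import Cfsg.Agent.PermutationGroups.ZassReduction
import Cfsg.Agent.H333.QS6.Lift
import Cfsg.Agent.H308.AltFive
import Cfsg.Agent.H981.CentAlt5
import Cfsg.Agent.Lib.MatDec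
import Cfsg.Agent.Lib.FastPerm
import Cfsg.Agent.H19.RP.Dick
import Cfsg.Agent.FastGrp
import Cfsg.Agent.Prune
set_option linter.all false

section
prune_inst 0x7f00000000000000000000000000000000000000000000000000000000000000000000000000000000000000000000000000000000000000000000000000000000000000000000000000000000000000003fffffffffffffffffffffffffffbeffbdfffffffd

section
prune_inst 0xfeecf9abbcb9dfffff7e7fa7d8cffc3b949fffe6dff94bbfe029cfabdfa38209e52bad0de050fe1ec2603408b87853f97ec67fe26bd87ffffd1df41ffbee0fb5e7b508119488340f382ff683f0778e7f000000000000000000000000000000000000000000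

-- part: H19/HT/Semi
section
prune_inst 0x11306544206200000018000062001c4692000002004b00004920050205c18e4120010e21baf00612803004440038006813980110426000000e000400411c048100811406a0080000000000000880000000000000000000000000000000000000200000002
set_option linter.all false
open scoped Cfsg.Agent.FastGrp

/-!
# Semilinear groups: the field generated by a normal abelian subgroup (S3512, S3577)

`Semi G`: conclusion (ii) of S3512.  `semi_of_irr_comm`: an irreducible abelian normal subgroup makes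
`G` semilinear of dimension one.  `semi_of_self_cent`: the same if `A` is abelian, normal,
self-centralising, homogeneous, and `G` is irreducible.
-/

set_option autoImplicit false
set_option linter.style.haveILetI false

open scoped Classical

namespace Cfsg.Agent.H19.HT

universe u

variable {p : ℕ} [Fact p.Prime] {V : Type u} [AddCommGroup V] [Module (ZMod p) V]

/-- conclusion (ii) of S3512 -/
def Semi (G : Subgroup (V ≃ₗ[ZMod p] V)) : Prop :=
  ∃ (F : Type) (_ : Field F) (_ : Fintype F) (e : V ≃+ F), ∀ g ∈ G,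
    ∃ (a : F) (φ : F ≃+* F), ∀ v : V, e (g v) = a * φ (e v)

/-- the algebra generated by `A` -/
def alg (A : Subgroup (V ≃ₗ[ZMod p] V)) : Subalgebra (ZMod p) (Module.End (ZMod p) V) :=
  Algebra.adjoin (ZMod p) {f | ∃ a ∈ A, (a : V →ₗ[ZMod p] V) = f}

variable {A : Subgroup (V ≃ₗ[ZMod p] V)}

theorem mem_alg {a : V ≃ₗ[ZMod p] V} (ha : a ∈ A) :
    (a : Module.End (ZMod p) V) ∈ alg A :=
  Algebra.subset_adjoin ⟨a, ha, rfl⟩

theorem alg_comm_of {f : Module.End (ZMod p) V}
    (hf : ∀ a ∈ A, f * (a : Module.End (ZMod p) V) = (a : Module.End (ZMod p) V) * f)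
    {k : Module.End (ZMod p) V} (hk : k ∈ alg A) : f * k = k * f := by
  unfold alg at hk
  induction hk using Algebra.adjoin_induction with
  | mem g hg =>
    obtain ⟨a, ha, rfl⟩ := hg
    exact hf a ha
  | algebraMap r => exact (Algebra.commutes r f).symm
  | add g k _ _ hg hk => rw [mul_add, add_mul, hg, hk]
  | mul g k _ _ hg hk => rw [← mul_assoc, hg, mul_assoc, hk, mul_assoc]

theorem coe_mul' (a b : V ≃ₗ[ZMod p] V) :
    ((a * b : V ≃ₗ[ZMod p] V) : Module.End (ZMod p) V) =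
      (a : Module.End (ZMod p) V) * (b : Module.End (ZMod p) V) := rfl

theorem alg_mul_comm (hA : ∀ a ∈ A, ∀ b ∈ A, a * b = b * a) {k l : Module.End (ZMod p) V}
    (hk : k ∈ alg A) (hl : l ∈ alg A) : k * l = l * k := by
  refine alg_comm_of ?_ hl
  intro a ha
  refine (alg_comm_of ?_ hk).symm
  intro b hb
  rw [← coe_mul', ← coe_mul', hA a ha b hb]

theorem alg_conj {g : V ≃ₗ[ZMod p] V} (hg : ∀ a ∈ A, g * a * g⁻¹ ∈ A)
    {k : Module.End (ZMod p) V} (hk : k ∈ alg A) :
    (g : Module.End (ZMod p) V) * k * ((g⁻¹ : V ≃ₗ[ZMod p] V) : Module.End (ZMod p) V) ∈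
      alg A := by
  have h1 : ((g⁻¹ : V ≃ₗ[ZMod p] V) : Module.End (ZMod p) V) * (g : Module.End (ZMod p) V) = 1 := by
    rw [← coe_mul', inv_mul_cancel]; rfl
  have h2 : (g : Module.End (ZMod p) V) * ((g⁻¹ : V ≃ₗ[ZMod p] V) : Module.End (ZMod p) V) = 1 := by
    rw [← coe_mul', mul_inv_cancel]; rfl
  unfold alg at hk
  induction hk using Algebra.adjoin_induction with
  | mem f hf =>
    obtain ⟨a, ha, rfl⟩ := hf
    rw [← coe_mul', ← coe_mul']
    exact mem_alg (hg a ha)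
  | algebraMap r =>
    rw [← Algebra.commutes r (g : Module.End (ZMod p) V), mul_assoc, h2, mul_one]
    exact (alg A).algebraMap_mem r
  | add f k _ _ hf hk =>
    rw [mul_add, add_mul]
    exact (alg A).add_mem hf hk
  | mul f k _ _ hf hk =>
    have : (g : Module.End (ZMod p) V) * (f * k) *
        ((g⁻¹ : V ≃ₗ[ZMod p] V) : Module.End (ZMod p) V) =
        ((g : Module.End (ZMod p) V) * f * ((g⁻¹ : V ≃ₗ[ZMod p] V) : Module.End (ZMod p) V)) *
        ((g : Module.End (ZMod p) V) * k * ((g⁻¹ : V ≃ₗ[ZMod p] V) : Module.End (ZMod p) V)) := by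
      calc _ = (g : Module.End (ZMod p) V) * f * 1 * k *
            ((g⁻¹ : V ≃ₗ[ZMod p] V) : Module.End (ZMod p) V) := by rw [mul_one]; noncomm_ring
        _ = _ := by rw [← h1]; noncomm_ring
    rw [this]
    exact (alg A).mul_mem hf hk

/-- the ring automorphism induced by `g` -/
noncomputable def cj (g : V ≃ₗ[ZMod p] V) (hg : ∀ a ∈ A, g * a * g⁻¹ ∈ A) :
    alg A →+* alg A where
  toFun k := ⟨(g : Module.End (ZMod p) V) * k.1 *
    ((g⁻¹ : V ≃ₗ[ZMod p] V) : Module.End (ZMod p) V), alg_conj hg k.2⟩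
  map_one' := by
    apply Subtype.ext
    change (g : Module.End (ZMod p) V) * 1 * ((g⁻¹ : V ≃ₗ[ZMod p] V) : Module.End (ZMod p) V) = 1
    rw [mul_one, ← coe_mul', mul_inv_cancel]; rfl
  map_zero' := by
    apply Subtype.ext
    change (g : Module.End (ZMod p) V) * 0 * ((g⁻¹ : V ≃ₗ[ZMod p] V) : Module.End (ZMod p) V) = 0
    rw [mul_zero, zero_mul]
  map_add' := by
    intro a b
    apply Subtype.ext
    change (g : Module.End (ZMod p) V) * (a.1 + b.1) *
      ((g⁻¹ : V ≃ₗ[ZMod p] V) : Module.End (ZMod p) V) = _ + _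
    rw [mul_add, add_mul]
  map_mul' := by
    intro a b
    apply Subtype.ext
    apply LinearMap.ext
    intro v
    change g (a.1 (b.1 (g⁻¹ v))) = g (a.1 (g⁻¹ (g (b.1 (g⁻¹ v)))))
    congr 2
    change _ = (g⁻¹ * g) _
    rw [inv_mul_cancel]; rfl

theorem cj_apply (g : V ≃ₗ[ZMod p] V) (hg : ∀ a ∈ A, g * a * g⁻¹ ∈ A) (k : alg A) (v : V) :
    (cj g hg k).1 (g v) = g (k.1 v) := by
  change g (k.1 ((g⁻¹ * g) v)) = _
  rw [inv_mul_cancel]; rfl

/-- a model of the field generated by `A`, in `Type` -/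
theorem exists_model [Finite V] [Nontrivial V] (hA : ∀ a ∈ A, ∀ b ∈ A, a * b = b * a)
    (hinj : ∀ k ∈ alg A, k ≠ 0 → Function.Injective k) :
    ∃ (K : Type) (_ : Field K) (_ : Fintype K) (_ : Module K V) (ι : K ≃+* alg A),
      ∀ (k : K) (v : V), (ι k).1 v = k • v := by
  haveI : Finite (Module.End (ZMod p) V) :=
    Finite.of_injective (fun f : Module.End (ZMod p) V => (f : V → V)) DFunLike.coe_injective
  haveI : Finite (alg A) := Subtype.finite
  haveI : Small.{0} (alg A) := Countable.toSmall _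
  letI i1 : CommRing (alg A) := { (alg A).toRing with
    mul_comm := fun a b => Subtype.ext (alg_mul_comm hA a.2 b.2) }
  haveI : Nontrivial (alg A) := by
    refine ⟨⟨0, 1, ?_⟩⟩
    intro h
    obtain ⟨v, hv⟩ := exists_ne (0 : V)
    have h1 : (0 : Module.End (ZMod p) V) = 1 := congrArg Subtype.val h
    have h2 := LinearMap.congr_fun h1 v
    exact hv h2.symm
  haveI : NoZeroDivisors (alg A) := by
    refine ⟨?_⟩
    intro a b hab
    by_contra hcon
    push Not at hcon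
    obtain ⟨ha, hb⟩ := hcon
    apply hb
    apply Subtype.ext
    apply LinearMap.ext
    intro v
    have h1 := hinj a.1 a.2 (fun h => ha (Subtype.ext h))
    apply h1
    have h2 : a.1 * b.1 = 0 := congrArg Subtype.val hab
    change (a.1 * b.1) v = a.1 0
    rw [h2, map_zero]; rfl
  haveI : IsDomain (alg A) := NoZeroDivisors.to_isDomain _
  letI i2 : Fintype (alg A) := Fintype.ofFinite _
  letI i3 : Field (alg A) := Fintype.fieldOfDomain _
  let ι : Shrink.{0} (alg A) ≃+* alg A := Shrink.ringEquiv (alg A)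
  letI i4 : Fintype (Shrink.{0} (alg A)) := Fintype.ofFinite _
  letI i5 : Module (Shrink.{0} (alg A)) V :=
    { smul := fun k v => (ι k).1 v
      one_smul := by
        intro v
        change (ι 1).1 v = v
        rw [map_one]; rfl
      mul_smul := by
        intro a b v
        change (ι (a * b)).1 v = (ι a).1 ((ι b).1 v)
        rw [map_mul]; rfl
      smul_zero := by
        intro a
        change (ι a).1 0 = 0
        rw [map_zero]
      smul_add := by
        intro a v w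
        change (ι a).1 (v + w) = (ι a).1 v + (ι a).1 w
        rw [map_add]
      add_smul := by
        intro a b v
        change (ι (a + b)).1 v = (ι a).1 v + (ι b).1 v
        rw [map_add]; rfl
      zero_smul := by
        intro v
        change (ι 0).1 v = 0
        rw [map_zero]; rfl }
  exact ⟨Shrink.{0} (alg A), inferInstance, i4, i5, ι, fun k v => rfl⟩

/-- the automorphism of the model field induced by `g` -/
theorem exists_aut {K : Type*} [Field K] [Fintype K] [Module K V] (ι : K ≃+* alg A)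
    (hι : ∀ (k : K) (v : V), (ι k).1 v = k • v) {g : V ≃ₗ[ZMod p] V}
    (hg : ∀ a ∈ A, g * a * g⁻¹ ∈ A) :
    ∃ σ : K ≃+* K, ∀ (k : K) (v : V), g (k • v) = σ k • g v := by
  let f : K →+* K := (ι.symm : alg A →+* K).comp ((cj g hg).comp (ι : K →+* alg A))
  refine ⟨RingEquiv.ofBijective f (Finite.injective_iff_bijective.1 f.injective), ?_⟩
  intro k v
  change _ = f k • g v
  rw [← hι, ← hι]
  change _ = (ι (ι.symm (cj g hg (ι k)))).1 (g v)
  rw [RingEquiv.apply_symm_apply, cj_apply]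

/-- one-dimensional over a field normalised by `G` -/
theorem semi_of_line {K : Type} [Field K] [Fintype K] [Module K V]
    {G : Subgroup (V ≃ₗ[ZMod p] V)} {v₀ : V} (hv₀ : v₀ ≠ 0) (hsp : ∀ v : V, ∃ k : K, k • v₀ = v)
    (hG : ∀ g ∈ G, ∃ σ : K ≃+* K, ∀ (k : K) (v : V), g (k • v) = σ k • g v) : Semi G := by
  let f : K →+ V :=
    { toFun := fun k => k • v₀
      map_zero' := zero_smul K v₀
      map_add' := fun a b => add_smul a b v₀ }
  have hf : Function.Bijective f := by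
    refine ⟨?_, hsp⟩
    intro a b hab
    have h1 : a • v₀ = b • v₀ := hab
    exact smul_left_injective K hv₀ h1
  let e : V ≃+ K := (AddEquiv.ofBijective f hf).symm
  have he : ∀ v, e v • v₀ = v := fun v => (AddEquiv.ofBijective f hf).apply_symm_apply v
  have he' : ∀ k : K, e (k • v₀) = k := fun k => (AddEquiv.ofBijective f hf).symm_apply_apply k
  refine ⟨K, inferInstance, inferInstance, e, ?_⟩
  intro g hg
  obtain ⟨σ, hσ⟩ := hG g hg
  refine ⟨e (g v₀), σ, ?_⟩
  intro v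
  have h1 : g v = (e (g v₀) * σ (e v)) • v₀ := by
    conv_lhs => rw [← he v, hσ, ← he (g v₀)]
    rw [smul_smul, mul_comm]
  rw [h1, he']

/-- **R2.** An irreducible commutative subgroup normalised by `G` makes `G` semilinear. -/
theorem semi_of_irr_comm [Finite V] [Nontrivial V] {G : Subgroup (V ≃ₗ[ZMod p] V)}
    (A : Subgroup (V ≃ₗ[ZMod p] V)) (hA : ∀ a ∈ A, ∀ b ∈ A, a * b = b * a)
    (hirr : ∀ W : Submodule (ZMod p) V, (∀ a ∈ A, ∀ w ∈ W, a w ∈ W) → W = ⊥ ∨ W = ⊤)
    (hn : ∀ g ∈ G, ∀ a ∈ A, g * a * g⁻¹ ∈ A) : Semi G := by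
  have hinj : ∀ k ∈ alg A, k ≠ 0 → Function.Injective k := by
    intro k hk hk0
    rcases hirr (LinearMap.ker k) (by
      intro a ha w hw
      rw [LinearMap.mem_ker] at hw ⊢
      have h1 := LinearMap.congr_fun (alg_mul_comm hA hk (mem_alg ha)) w
      change k (a w) = a (k w) at h1
      rw [h1, hw, map_zero]) with h | h
    · exact LinearMap.ker_eq_bot.1 h
    · exact absurd (LinearMap.ker_eq_top.1 h) hk0
  obtain ⟨K, i1, i2, i3, ι, hι⟩ := exists_model hA hinj
  obtain ⟨v₀, hv₀⟩ := exists_ne (0 : V)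
  refine semi_of_line (K := K) hv₀ ?_ (fun g hg => exists_aut ι hι (hn g hg))
  -- the line through `v₀` is `A`-invariant
  let W : Submodule (ZMod p) V :=
    { carrier := {v | ∃ k : K, k • v₀ = v}
      zero_mem' := ⟨0, zero_smul K v₀⟩
      add_mem' := by
        rintro a b ⟨k, rfl⟩ ⟨l, rfl⟩
        exact ⟨k + l, add_smul k l v₀⟩
      smul_mem' := by
        rintro c a ⟨k, rfl⟩
        refine ⟨ι.symm (c • ι k), ?_⟩
        rw [← hι, RingEquiv.apply_symm_apply, ← hι]
        rfl }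
  rcases hirr W (by
    rintro a ha w ⟨k, rfl⟩
    refine ⟨ι.symm ⟨_, mem_alg ha⟩ * k, ?_⟩
    rw [mul_smul, ← hι, RingEquiv.apply_symm_apply]
    rfl) with h | h
  · exfalso
    have h1 : v₀ ∈ W := ⟨1, one_smul K v₀⟩
    rw [h, Submodule.mem_bot] at h1
    exact hv₀ h1
  · intro v
    have : v ∈ W := by rw [h]; trivial
    exact this

theorem exists_norm {K : Type*} [Field K] [Fintype K] (σ : RingAut K) {c : K} (hc : σ c = c) :
    ∃ b : K, ∏ i ∈ Finset.range (orderOf σ), (σ ^ i) b = c := by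
  haveI hfin : Finite (RingAut K) :=
    Finite.of_injective (fun g : RingAut K => (g : K → K)) DFunLike.coe_injective
  let H : Subgroup (RingAut K) := Subgroup.zpowers σ
  have hc' : c ∈ FixedPoints.subfield H K := by
    intro s
    obtain ⟨s, hs⟩ := s
    obtain ⟨i, rfl⟩ := (isOfFinOrder_of_finite σ).mem_powers_iff_mem_zpowers.2 hs
    change (σ ^ i) c = c
    induction i with
    | zero => rfl
    | succ n ih => 
      rw [pow_succ]
      change (σ ^ n) (σ c) = c
      rw [hc]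
      exact ih ((isOfFinOrder_of_finite σ).mem_powers_iff_mem_zpowers.1 ⟨n, rfl⟩)
  haveI : Finite K := inferInstance
  haveI hgal : IsGalois (FixedPoints.subfield H K) K := IsGalois.of_fixed_field K H
  obtain ⟨b, hb⟩ := FiniteField.norm_surjective (FixedPoints.subfield H K) K ⟨c, hc'⟩
  refine ⟨b, ?_⟩
  have h1 := Algebra.norm_eq_prod_automorphisms (FixedPoints.subfield H K) (L := K) b
  rw [hb] at h1
  have h2 : algebraMap (FixedPoints.subfield H K) K ⟨c, hc'⟩ = c := rfl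
  rw [h2] at h1
  letI : Fintype H := Fintype.ofFinite _
  rw [h1, ← (Equiv.ofBijective _ (FixedPoints.toAlgAut_bijective H K)).prod_comp
    (fun s => s b), ← Fin.prod_univ_eq_prod_range (fun i => (σ ^ i) b),
    ← (finEquivZPowers (isOfFinOrder_of_finite σ)).prod_comp]
  rfl

/-- **Hilbert 90** for vector spaces over a finite field -/
theorem exists_fixed_semi {K : Type*} [Field K] {V : Type*} [AddCommGroup V] [Module K V]
    (σ : RingAut K) (ho : 0 < orderOf σ) (τ : V →+ V) (hτ : ∀ (k : K) (v : V), τ (k • v) = σ k • τ v)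
    (he : ∀ v, τ^[orderOf σ] v = v) {v : V} (hv : v ≠ 0) : ∃ w : V, w ≠ 0 ∧ τ w = w := by
  -- `τ^i (k v) = σ^i k τ^i v`
  have hit : ∀ (i : ℕ) (k : K) (v : V), τ^[i] (k • v) = (σ ^ i) k • τ^[i] v := by
    intro i
    induction i with
    | zero => intro k v; rfl
    | succ n ih =>
      intro k v
      rw [Function.iterate_succ_apply', ih, hτ, Function.iterate_succ_apply', pow_succ']
      rfl
  by_contra hcon
  push Not at hcon
  have hS : ∀ k : K, ∑ i ∈ Finset.range (orderOf σ), τ^[i] (k • v) = 0 := by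
    intro k
    by_contra hne
    apply hcon _ hne
    rw [map_sum]
    obtain ⟨n, hn⟩ : ∃ n, orderOf σ = n + 1 := ⟨orderOf σ - 1, by omega⟩
    have he' : τ (τ^[n] (k • v)) = k • v := by
      rw [← Function.iterate_succ_apply' τ n]
      have := he (k • v)
      rw [hn] at this
      exact this
    rw [hn, Finset.sum_range_succ, Finset.sum_range_succ', he']
    congr 1
    refine Finset.sum_congr rfl ?_
    intro i _
    exact (Function.iterate_succ_apply' τ i _).symm
  obtain ⟨f, hf⟩ : ∃ f : Module.Dual K V, f v ≠ 0 := by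
    by_contra hc
    push Not at hc
    exact hv ((Module.forall_dual_apply_eq_zero_iff K v).1 hc)
  have hli := (linearIndependent_monoidHom K K).comp
    (fun i : Fin (orderOf σ) => ((σ ^ (i : ℕ) : RingAut K) : K →* K)) (by
      intro i j hij
      apply Fin.ext
      have h1 : σ ^ (i : ℕ) = σ ^ (j : ℕ) := by
        apply RingEquiv.ext
        intro k
        exact DFunLike.congr_fun hij k
      exact pow_injOn_Iio_orderOf (Set.mem_Iio.2 i.2) (Set.mem_Iio.2 j.2) h1)
  rw [Fintype.linearIndependent_iff] at hli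
  have h0 := hli (fun i => f (τ^[(i : ℕ)] v)) (by
    funext k
    have h1 := congrArg f (hS k)
    rw [map_sum, map_zero, ← Fin.sum_univ_eq_sum_range (fun i => f (τ^[i] (k • v)))] at h1
    rw [Finset.sum_apply]
    refine Eq.trans ?_ h1
    refine Finset.sum_congr rfl ?_
    intro i _
    rw [hit, map_smul]
    change f (τ^[(i : ℕ)] v) * (σ ^ (i : ℕ)) k = _
    rw [smul_eq_mul, mul_comm]) ⟨0, ho⟩
  exact hf h0

/-- a semilinear map whose `orderOf σ`-th power is scalar has an invariant line -/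
theorem exists_line {K : Type*} [Field K] [Fintype K] {V : Type*} [AddCommGroup V] [Module K V]
    [Nontrivial V] (σ : RingAut K) (τ : V →+ V) (hτ : ∀ (k : K) (v : V), τ (k • v) = σ k • τ v)
    (hinj : Function.Injective τ) {c : K} (hc0 : c ≠ 0)
    (hc : ∀ v, τ^[orderOf σ] v = c • v) : ∃ w : V, w ≠ 0 ∧ ∃ k : K, τ w = k • w := by
  haveI hfin : Finite (RingAut K) :=
    Finite.of_injective (fun g : RingAut K => (g : K → K)) DFunLike.coe_injective
  obtain ⟨v, hv⟩ := exists_ne (0 : V)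
  have hσc : σ c = c := by
    have h1 : τ^[orderOf σ] (τ v) = τ (τ^[orderOf σ] v) := by
      rw [← Function.iterate_succ_apply, Function.iterate_succ_apply']
    rw [hc, hc, hτ] at h1
    have h2 : τ v ≠ 0 := fun h => hv (hinj (by rw [h, map_zero]))
    exact (smul_left_injective K h2 h1).symm
  obtain ⟨b, hb⟩ := exists_norm σ (c := c⁻¹) (by rw [map_inv₀, hσc])
  have hb0 : b ≠ 0 := by
    rintro rfl
    have : (∏ i ∈ Finset.range (orderOf σ), (σ ^ i) (0 : K)) = 0 :=
      Finset.prod_eq_zero (Finset.mem_range.2 (orderOf_pos σ)) (map_zero _)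
    rw [this] at hb
    exact inv_ne_zero hc0 hb.symm
  let τ' : V →+ V :=
    { toFun := fun v => b • τ v
      map_zero' := by rw [map_zero, smul_zero]
      map_add' := fun a b => by rw [map_add, smul_add] }
  have hτ' : ∀ v, τ' v = b • τ v := fun v => rfl
  have hit : ∀ (n : ℕ) (v : V), τ'^[n] v = (∏ i ∈ Finset.range n, (σ ^ i) b) • τ^[n] v := by
    intro n
    induction n with
    | zero => intro v; rw [Finset.prod_range_zero, one_smul]; rfl
    | succ n ih =>
      intro v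
      rw [Function.iterate_succ_apply', ih, hτ', hτ, smul_smul, Function.iterate_succ_apply',
        Finset.prod_range_succ', map_prod, mul_comm]
      congr 2
      refine Finset.prod_congr rfl ?_
      intro i _
      rw [pow_succ']
      rfl
  obtain ⟨w, hw, hw'⟩ := exists_fixed_semi σ (orderOf_pos σ) τ' (by
    intro k v
    rw [hτ', hτ, hτ', smul_smul, smul_smul, mul_comm]) (by
    intro v
    rw [hit, hb, hc, smul_smul, inv_mul_cancel₀ hc0, one_smul]) hv
  refine ⟨w, hw, b⁻¹, ?_⟩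
  rw [hτ'] at hw'
  rw [eq_inv_smul_iff₀ hb0]
  exact hw'

/-- The automorphism group of a finite field is cyclic. -/
theorem isCyclic_ringAut' (F : Type*) [Field F] [Finite F] : IsCyclic (RingAut F) := by
  obtain ⟨p, hp⟩ := CharP.exists F
  have hpp : Fact p.Prime := ⟨CharP.char_is_prime F p⟩
  let _ : Algebra (ZMod p) F := ZMod.algebra F p
  let φ : (F ≃ₐ[ZMod p] F) →* (RingAut F) :=
    { toFun := fun σ => σ.toRingEquiv
      map_one' := rfl
      map_mul' := fun _ _ => rfl }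
  have hφ : Function.Surjective φ := by
    intro σ
    refine ⟨AlgEquiv.ofRingEquiv (f := σ) ?_, ?_⟩
    · intro x
      have : (σ : F →+* F).comp (algebraMap (ZMod p) F) = algebraMap (ZMod p) F :=
        Subsingleton.elim _ _
      exact RingHom.congr_fun this x
    · ext x
      rfl
  exact isCyclic_of_surjective φ hφ

/-- **R3.** If `G` is irreducible, `A ≤ G` is normal, abelian, self-centralising and homogeneous
(all non-zero elements of the algebra it generates are injective), then `G` is semilinear of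
dimension one. -/
theorem semi_of_self_cent [Finite V] [Nontrivial V] {G : Subgroup (V ≃ₗ[ZMod p] V)}
    (hG : ∀ W : Submodule (ZMod p) V, (∀ g ∈ G, ∀ w ∈ W, g w ∈ W) → W = ⊥ ∨ W = ⊤)
    (A : Subgroup (V ≃ₗ[ZMod p] V)) (hA : ∀ a ∈ A, ∀ b ∈ A, a * b = b * a)
    (hn : ∀ g ∈ G, ∀ a ∈ A, g * a * g⁻¹ ∈ A)
    (hinj : ∀ k ∈ alg A, k ≠ 0 → Function.Injective k)
    (hC : ∀ g ∈ G, (∀ a ∈ A, g * a = a * g) → g ∈ A) : Semi G := by
  obtain ⟨K, i1, i2, i3, ι, hι⟩ := exists_model hA hinj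
  obtain ⟨v₀, hv₀⟩ := exists_ne (0 : V)
  have hex : ∀ g : G, ∃ σ : RingAut K, ∀ (k : K) (v : V),
      (g : V ≃ₗ[ZMod p] V) (k • v) = σ k • (g : V ≃ₗ[ZMod p] V) v :=
    fun g => exists_aut ι hι (hn g g.2)
  choose s hs using hex
  have huniq : ∀ (g : G) (σ : RingAut K), (∀ (k : K) (v : V),
      (g : V ≃ₗ[ZMod p] V) (k • v) = σ k • (g : V ≃ₗ[ZMod p] V) v) → s g = σ := by
    intro g σ h
    apply RingEquiv.ext
    intro k
    have h1 := (hs g k v₀).symm.trans (h k v₀)
    exact smul_left_injective K (fun h => hv₀ ((map_eq_zero_iff _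
      (g : V ≃ₗ[ZMod p] V).injective).1 h)) h1
  let Φ : G →* RingAut K :=
    { toFun := s
      map_one' := huniq 1 1 (fun k v => rfl)
      map_mul' := fun a b => huniq (a * b) (s a * s b) (fun k v => by
        change (a : V ≃ₗ[ZMod p] V) ((b : V ≃ₗ[ZMod p] V) (k • v)) = s a (s b k) •
          (a : V ≃ₗ[ZMod p] V) ((b : V ≃ₗ[ZMod p] V) v)
        rw [hs, hs]) }
  -- the kernel acts by scalars
  have hker : ∀ g : G, Φ g = 1 → ∃ c : K, ∀ v : V, (g : V ≃ₗ[ZMod p] V) v = c • v := by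
    intro g hg
    have h1 : (g : V ≃ₗ[ZMod p] V) ∈ A := by
      refine hC g g.2 ?_
      intro a ha
      apply LinearEquiv.ext
      intro v
      have h2 : ∀ v, a v = ι.symm ⟨_, mem_alg ha⟩ • v := by
        intro v
        rw [← hι, RingEquiv.apply_symm_apply]
        rfl
      change (g : V ≃ₗ[ZMod p] V) (a v) = a ((g : V ≃ₗ[ZMod p] V) v)
      rw [h2, h2, hs]
      congr 1
      exact congrArg (fun σ : RingAut K => σ _) hg
    refine ⟨ι.symm ⟨_, mem_alg h1⟩, ?_⟩
    intro v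
    rw [← hι, RingEquiv.apply_symm_apply]
    rfl
  -- a generator of the image
  have := isCyclic_ringAut' K
  obtain ⟨g₀, hg₀⟩ : ∃ g₀ : G, ∀ g : G, ∃ i : ℕ, Φ g = Φ g₀ ^ i := by
    have hfin : Finite (RingAut K) :=
      Finite.of_injective (fun g : RingAut K => (g : K → K)) DFunLike.coe_injective
    obtain ⟨⟨_, g₀, rfl⟩, hgen⟩ := IsCyclic.exists_generator (α := Φ.range)
    refine ⟨g₀, ?_⟩
    intro g
    obtain ⟨i, hi⟩ := (isOfFinOrder_of_finite _).mem_powers_iff_mem_zpowers.2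
      ((hgen ⟨Φ g, g, rfl⟩ :))
    exact ⟨i, (congrArg Subtype.val hi).symm⟩
  -- the `orderOf`-th power of `g₀` is a scalar
  have hiter : ∀ (n : ℕ) (v : V), (g₀ : V ≃ₗ[ZMod p] V)^[n] v =
      ((g₀ ^ n : G) : V ≃ₗ[ZMod p] V) v := by
    intro n
    induction n with
    | zero => intro v; rfl
    | succ n ih => intro v; rw [Function.iterate_succ_apply', ih, pow_succ']; rfl
  obtain ⟨c, hc⟩ := hker (g₀ ^ orderOf (Φ g₀)) (by rw [map_pow, pow_orderOf_eq_one])
  obtain ⟨w, hw, k₀, hk₀⟩ := exists_line (K := K) (Φ g₀)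
    ((g₀ : V ≃ₗ[ZMod p] V) : V →+ V) (fun k v => hs g₀ k v)
    (g₀ : V ≃ₗ[ZMod p] V).injective (c := c) (by
      rintro rfl
      have h1 := hc v₀
      rw [zero_smul] at h1
      exact hv₀ ((map_eq_zero_iff _ (LinearEquiv.injective _)).1 h1)) (by
      intro v
      exact (hiter _ v).trans (hc v))
  have hk₀' : (g₀ : V ≃ₗ[ZMod p] V) w = k₀ • w := hk₀
  -- every element maps `w` to a multiple of `w`
  have hline : ∀ g : G, ∃ k : K, (g : V ≃ₗ[ZMod p] V) w = k • w := by
    intro g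
    obtain ⟨i, hi⟩ := hg₀ g
    have hpow : ∀ n : ℕ, ∃ k : K, ((g₀ ^ n : G) : V ≃ₗ[ZMod p] V) w = k • w := by
      intro n
      induction n with
      | zero => exact ⟨1, (one_smul K w).symm⟩
      | succ n ih =>
        obtain ⟨k, hk⟩ := ih
        refine ⟨s g₀ k * k₀, ?_⟩
        rw [pow_succ']
        change (g₀ : V ≃ₗ[ZMod p] V) (((g₀ ^ n : G) : V ≃ₗ[ZMod p] V) w) = _
        rw [hk, hs, hk₀', smul_smul]
    obtain ⟨k, hk⟩ := hpow i
    obtain ⟨c', hc'⟩ := hker (g * (g₀ ^ i)⁻¹) (by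
      rw [map_mul, map_inv, map_pow, hi, mul_inv_cancel])
    refine ⟨c' * k, ?_⟩
    have e : g = (g * (g₀ ^ i)⁻¹) * g₀ ^ i := by group
    rw [e]
    change ((g * (g₀ ^ i)⁻¹ : G) : V ≃ₗ[ZMod p] V) (((g₀ ^ i : G) : V ≃ₗ[ZMod p] V) w) = _
    rw [hk, hc', smul_smul]
  refine semi_of_line (K := K) hw ?_ (fun g hg => ⟨s ⟨g, hg⟩, hs ⟨g, hg⟩⟩)
  let W : Submodule (ZMod p) V :=
    { carrier := {v | ∃ k : K, k • w = v}
      zero_mem' := ⟨0, zero_smul K w⟩
      add_mem' := by
        rintro a b ⟨k, rfl⟩ ⟨l, rfl⟩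
        exact ⟨k + l, add_smul k l w⟩
      smul_mem' := by
        rintro c a ⟨k, rfl⟩
        refine ⟨ι.symm (c • ι k), ?_⟩
        rw [← hι, RingEquiv.apply_symm_apply, ← hι]
        rfl }
  rcases hG W (by
    rintro g hg _ ⟨k, rfl⟩
    obtain ⟨l, hl⟩ := hline ⟨g, hg⟩
    refine ⟨s ⟨g, hg⟩ k * l, ?_⟩
    have h1 := hs ⟨g, hg⟩ k w
    change g (k • w) = _ at h1
    rw [h1, mul_smul]
    congr 1
    exact hl.symm) with h | h
  · exfalso
    have h1 : w ∈ W := ⟨1, one_smul K w⟩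
    rw [h, Submodule.mem_bot] at h1
    exact hw h1
  · intro v
    have : v ∈ W := by rw [h]; trivial
    exact this

end Cfsg.Agent.H19.HT
end

-- part: H530/HT/PSpPNum
section
prune_inst 0x113065443462000000000582130020043400019200600401fd2305420147d3208d4029004a801c03586cb30018400028139800d0424000000e2034000007042180aa560433740f0c6c0097803087180c00000000000000000000000000041004200000002
set_option linter.all false
open scoped Cfsg.Agent.FastGrp

/-!
# S3512, PB3: the numerical inequalities for `PSp_2m(s)`, `p ∣ |T|` (helper530)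
-/

set_option autoImplicit false

namespace Cfsg.Agent.H530.HT.PN

/-- the exponents -/
def EO (m : ℕ) : ℕ := 4 * m ^ 2 + 2 * m + 1
def EV (m : ℕ) : ℕ := 4 * m ^ 2 + 2 * m + 2

theorem EO_succ {m : ℕ} (hm : 2 ≤ m) : EO (m + 1) ≤ 3 * EO m := by
  unfold EO
  nlinarith

theorem EV_succ {m : ℕ} (hm : 2 ≤ m) : EV (m + 1) ≤ 2 * EV m := by
  unfold EV
  nlinarith

theorem growO {s a m₀ : ℕ} (hs : 3 ≤ s) (hm₀ : 2 ≤ m₀) (h0 : 2 * a * EO m₀ + 7 ≤ s ^ m₀) :
    ∀ m, m₀ ≤ m → 2 * a * EO m + 7 ≤ s ^ m := by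
  intro m hm
  induction m, hm using Nat.le_induction with
  | base => exact h0
  | succ m hm ih =>
    have h1 := EO_succ (hm₀.trans hm)
    have h2 : 2 * a * EO (m + 1) ≤ 2 * a * (3 * EO m) := Nat.mul_le_mul_left _ h1
    have h3 : 3 * s ^ m ≤ s ^ (m + 1) := by
      rw [pow_succ, mul_comm]
      exact Nat.mul_le_mul_left _ hs
    linarith only [ih, h2, h3]

theorem growV {s a m₀ : ℕ} (hs : 2 ≤ s) (hm₀ : 2 ≤ m₀) (h0 : 2 * a * EV m₀ + 11 ≤ 3 * s ^ m₀) :
    ∀ m, m₀ ≤ m → 2 * a * EV m + 11 ≤ 3 * s ^ m := by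
  intro m hm
  induction m, hm using Nat.le_induction with
  | base => exact h0
  | succ m hm ih =>
    have h1 := EV_succ (hm₀.trans hm)
    have h2 : 2 * a * EV (m + 1) ≤ 2 * a * (2 * EV m) := Nat.mul_le_mul_left _ h1
    have h3 : 2 * s ^ m ≤ s ^ (m + 1) := by
      rw [pow_succ, mul_comm]
      exact Nat.mul_le_mul_left _ hs
    linarith only [ih, h2, h3]

theorem powO {s a E x : ℕ} (hs : s ≤ 2 ^ a) (h : 1 + a * E ≤ x) : 2 * s ^ E ≤ 2 ^ x := by
  calc 2 * s ^ E ≤ 2 * (2 ^ a) ^ E := Nat.mul_le_mul_left _ (Nat.pow_le_pow_left hs E)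
    _ = 2 ^ (1 + a * E) := by rw [pow_add, pow_one, pow_mul]
    _ ≤ 2 ^ x := Nat.pow_le_pow_right (by norm_num) h

theorem powV {s a E x : ℕ} (hs : s ≤ 2 ^ a) (h : 2 * (1 + a * E) ≤ 3 * x) : 2 * s ^ E ≤ 3 ^ x := by
  have h1 : (2 * s ^ E) ^ 2 ≤ (3 ^ x) ^ 2 := by
    calc (2 * s ^ E) ^ 2 ≤ (2 ^ (1 + a * E)) ^ 2 := Nat.pow_le_pow_left (powO hs le_rfl) 2
      _ = 2 ^ (2 * (1 + a * E)) := by rw [← pow_mul]; congr 1; ring
      _ ≤ 2 ^ (3 * x) := Nat.pow_le_pow_right (by norm_num) h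
      _ = 8 ^ x := by rw [pow_mul]; norm_num
      _ ≤ 9 ^ x := Nat.pow_le_pow_left (by norm_num) x
      _ = (3 ^ x) ^ 2 := by rw [← pow_mul, mul_comm, pow_mul]; norm_num
  exact (Nat.pow_le_pow_iff_left (by norm_num)).1 h1

/-- odd `s` -/
theorem odd_ineq {s m n : ℕ} (hs : Odd s) (hs3 : 3 ≤ s) (hm : 2 ≤ m) (h3 : s = 3 → 6 ≤ m) (h5 : s = 5 → 4 ≤ m)
    (h7 : s = 7 → 3 ≤ m) (h9 : s = 9 → 3 ≤ m) (h11 : s = 11 → 3 ≤ m) (hn : s ^ m ≤ 2 * n + 1) :
    2 * s ^ EO m ≤ 2 ^ (n - 2) := by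
  by_cases h13 : s = 13 ∧ m = 2
  · obtain ⟨rfl, rfl⟩ := h13
    have h1 : 82 ≤ n - 2 := by omega
    refine le_trans ?_ (Nat.pow_le_pow_right (by norm_num) h1)
    norm_num [EO]
  obtain ⟨a, ha1, ha2⟩ : ∃ a, s ≤ 2 ^ a ∧ 2 * a * EO m + 7 ≤ s ^ m := by
    rcases Nat.lt_or_ge s 15 with h | h
    · have hcases : s = 3 ∨ s = 5 ∨ s = 7 ∨ s = 9 ∨ s = 11 ∨ s = 13 := by
        obtain ⟨k, hk⟩ := hs
        (clear * - hs3 h hk; omega)
      rcases hcases with rfl | rfl | rfl | rfl | rfl | rfl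
      · exact ⟨2, by norm_num, growO (m₀ := 6) (by norm_num) (by norm_num) (by norm_num [EO]) m (h3 rfl)⟩
      · exact ⟨3, by norm_num, growO (m₀ := 4) (by norm_num) (by norm_num) (by norm_num [EO]) m (h5 rfl)⟩
      · exact ⟨3, by norm_num, growO (m₀ := 3) (by norm_num) (by norm_num) (by norm_num [EO]) m (h7 rfl)⟩
      · exact ⟨4, by norm_num, growO (m₀ := 3) (by norm_num) (by norm_num) (by norm_num [EO]) m (h9 rfl)⟩
      · exact ⟨4, by norm_num, growO (m₀ := 3) (by norm_num) (by norm_num) (by norm_num [EO]) m (h11 rfl)⟩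
      · have hm3 : 3 ≤ m := by
          by_contra hcon
          exact h13 ⟨rfl, by omega⟩
        exact ⟨4, by norm_num, growO (m₀ := 3) (by norm_num) (by norm_num) (by norm_num [EO]) m hm3⟩
    · refine ⟨s / 3, ?_, ?_⟩
      · have key : ∀ k, 4 ≤ k → 3 * k + 2 ≤ 2 ^ k := by
          intro k hk
          induction k, hk using Nat.le_induction with
          | base => norm_num
          | succ k hk ih =>
            rw [pow_succ]
            omega
        have h1 := key (s / 3) (by omega)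
        omega
      · refine growO (m₀ := 2) (by omega) le_rfl ?_ m hm
        have h2 : EO 2 = 21 := rfl
        rw [h2]
        have h3 : 3 * (s / 3) ≤ s := Nat.mul_div_le s 3
        nlinarith only [h, h3]
  refine powO ha1 ?_
  have : 2 * (a * EO m) + 7 ≤ s ^ m := by
    rw [← mul_assoc]
    exact ha2
  omega

/-- even `s` -/
theorem even_ineq {s m n : ℕ} (hs : Even s) (hs2 : 2 ≤ s) (hm : 2 ≤ m) (h2 : s = 2 → 8 ≤ m) (h4 : s = 4 → 3 ≤ m)
    (h6 : s ≠ 6) (hn : s ^ m ≤ n + 1) : 2 * s ^ EV m ≤ 3 ^ (n - 2) := by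
  obtain ⟨a, ha1, ha2⟩ : ∃ a, s ≤ 2 ^ a ∧ 2 * a * EV m + 11 ≤ 3 * s ^ m := by
    rcases Nat.lt_or_ge s 10 with h | h
    · have hcases : s = 2 ∨ s = 4 ∨ s = 8 := by
        obtain ⟨k, hk⟩ := hs
        omega
      rcases hcases with rfl | rfl | rfl
      · exact ⟨1, by norm_num, growV (m₀ := 8) (by norm_num) (by norm_num) (by norm_num [EV]) m (h2 rfl)⟩
      · exact ⟨2, by norm_num, growV (m₀ := 3) (by norm_num) (by norm_num) (by norm_num [EV]) m (h4 rfl)⟩
      · exact ⟨3, by norm_num, growV (m₀ := 2) (by norm_num) (by norm_num) (by norm_num [EV]) m hm⟩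
    · refine ⟨(s + 1) / 2, ?_, ?_⟩
      · have key : ∀ k, 4 ≤ k → 2 * k ≤ 2 ^ k := by
          intro k hk
          induction k, hk using Nat.le_induction with
          | base => norm_num
          | succ k hk ih =>
            rw [pow_succ]
            omega
        have h1 := key ((s + 1) / 2) (by omega)
        omega
      · refine growV (m₀ := 2) (by omega) le_rfl ?_ m hm
        have h2 : EV 2 = 22 := rfl
        rw [h2]
        have h3 : 2 * ((s + 1) / 2) ≤ s + 1 := Nat.mul_div_le _ 2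
        nlinarith only [h, h3]
  refine powV ha1 ?_
  have h1 : 2 * (a * EV m) + 11 ≤ 3 * s ^ m := by
    rw [← mul_assoc]
    exact ha2
  omega

end Cfsg.Agent.H530.HT.PN

private theorem dce_3f1f5c8dafcf : _root_.True := by
  try have : _root_.True := by simp only [_root_.Cfsg.Agent.H530.HT.PN.EO.eq_1]
  try have : _root_.True := by simp only [_root_.Cfsg.Agent.H530.HT.PN.EV.eq_1]
  exact _root_.True.intro
end

-- part: H391/HT/Tool
section
set_option linter.all false
open scoped Cfsg.Agent.FastGrp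

/-!
# S3512, quasisimple rows: kernel sieve for one group and all primes

`Surv ex p n T`: every solution `(q, m, h)`, `q = p ^ k`, `k ≥ 1`, of the numerical conditions `CP` for `T` in degree `n` has
`(n, q, m) ∈ ex`.
`surv`: the search; rows `(p, a, A')` with `|Aut T| = p ^ a * A'`; the check is closed by `by decide +kernel`.
-/

set_option autoImplicit false

universe u v

namespace Cfsg.Agent.H391.HT

/-- every solution of the numerical conditions in degree `n` is in the list `ex` -/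
def Surv (ex : List (ℕ × ℕ × ℕ)) (p n : ℕ) (T : Type u) [Group T] : Prop :=
  ∀ k m h, 1 ≤ k → CP (Nat.card T) (Nat.card (MulAut T)) n (p ^ k) m h → (n, p ^ k, m) ∈ ex

theorem Surv.congr {ex : List (ℕ × ℕ × ℕ)} {p n : ℕ} {T : Type u} {T' : Type v} [Group T] [Group T'] (e : T ≃* T')
    (h : Surv ex p n T) : Surv ex p n T' := by
  have h1 : Nat.card T' = Nat.card T := (Nat.card_congr e.toEquiv).symm
  have h2 : Nat.card (MulAut T') = Nat.card (MulAut T) := (Nat.card_congr (MulAut.congr e).toEquiv).symm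
  intro k m h' hk hc
  rw [h1, h2] at hc
  exact h k m h' hk hc

theorem Surv.mono {ex ex' : List (ℕ × ℕ × ℕ)} {p n : ℕ} {T : Type u} [Group T] (hs : ∀ x ∈ ex, x ∈ ex')
    (h : Surv ex p n T) : Surv ex' p n T := fun k m h' hk hc => hs _ (h k m h' hk hc)

theorem CP.mono {o A A' n q m h : ℕ} (hA : A ∣ A') (hc : CP o A n q m h) : CP o A' n q m h :=
  ⟨hc.1, hc.2.1, hc.2.2.1, hc.2.2.2.1, hc.2.2.2.2.1.trans (Nat.mul_dvd_mul_left _ hA), hc.2.2.2.2.2⟩

/-- one row `(p, a, A')` -/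
def okRow (o A n₀ ft fk fn : ℕ) (ex : List (ℕ × ℕ × ℕ)) (r : ℕ × ℕ × ℕ) : Bool :=
  Nat.beq A (r.1 ^ r.2.1 * r.2.2) && (Nat.blt 0 r.2.2 && loopN ex r.1 o A (2 * r.2.2 ^ 2) ft fk fn n₀)

/-- all rows -/
def okAll (o A n₀ ft fk fn : ℕ) (ex : List (ℕ × ℕ × ℕ)) : List (ℕ × ℕ × ℕ) → Bool
  | [] => true
  | r :: rs => okRow o A n₀ ft fk fn ex r && okAll o A n₀ ft fk fn ex rs

theorem okAll_spec {o A n₀ ft fk fn : ℕ} {ex : List (ℕ × ℕ × ℕ)} : ∀ {rs : List (ℕ × ℕ × ℕ)},
    okAll o A n₀ ft fk fn ex rs = true → ∀ r ∈ rs, okRow o A n₀ ft fk fn ex r = true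
  | [], _, r, hr => by simp at hr
  | s :: rs, h, r, hr => by
    rw [okAll, Bool.and_eq_true] at h
    rcases List.mem_cons.1 hr with rfl | hr
    · exact h.1
    · exact okAll_spec h.2 r hr

/-- **The search.** `rs` = rows `(p, a, A')`; all degrees `n ≥ n₀`. -/
theorem surv {T : Type u} [Group T] {o A p n n₀ : ℕ} {ex : List (ℕ × ℕ × ℕ)} (rs : List (ℕ × ℕ × ℕ)) (ft fk fn : ℕ)
    (hp : p.Prime) (ho : Nat.card T = o) (hA : Nat.card (MulAut T) ∣ A) (hn₀ : 3 ≤ n₀) (hn : n₀ ≤ n)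
    (hrs : okAll o A n₀ ft fk fn ex rs = true) (hmem : p ∈ rs.map Prod.fst) : Surv ex p n T := by
  intro k m h hk hc
  obtain ⟨r, hr, rfl⟩ := List.mem_map.1 hmem
  have h1 := okAll_spec hrs r hr
  rw [okRow, Bool.and_eq_true, Bool.and_eq_true, Nat.beq_eq, Nat.blt_eq] at h1
  rw [ho] at hc
  exact loopN_spec hp h1.1 h1.2.1 fn n₀ hn₀ h1.2.2 n k m h hn hk (hc.mono hA)

/-- the prime divisors of `o` -/
theorem mem_of_dvd {p o : ℕ} (hp : p.Prime) (l : List ℕ) (hl : ∀ x ∈ l, x.Prime) (h : Nat.beq (l.prod ^ 50 % o) 0 = true)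
    (hd : p ∣ o) : p ∈ l := by
  rw [Nat.beq_eq] at h
  have h1 : p ∣ l.prod := hp.dvd_of_dvd_pow (hd.trans (Nat.dvd_of_mod_eq_zero h))
  obtain ⟨a, ha, h2⟩ := (Nat.Prime.prime hp).dvd_prod_iff.1 h1
  rwa [(Nat.prime_dvd_prime_iff_eq hp (hl a ha)).1 h2]

end Cfsg.Agent.H391.HT

private theorem dce_e0e80201e9e4 : _root_.True := by
  try have : _root_.True := by simp only [_root_.Cfsg.Agent.H391.HT.okAll.eq_def]
  try have : _root_.True := by simp only [_root_.Cfsg.Agent.H391.HT.okAll.eq_2]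
  try have : _root_.True := by simp only [_root_.Cfsg.Agent.H391.HT.okRow.eq_1]
  try have : _root_.True := by simp only [_root_.Cfsg.Agent.H391.HT.okAll.eq_1]
  exact _root_.True.intro
end

-- part: H337/HT/TabP
section
set_option linter.all false

/-!
# S3512: the searches for `n ≥ 13`, groups of Lie type (all other groups of Lie type are excluded by size)

`chkP r ps o A n₀`: `o = |T|`, `A = |Aut T|`, defining characteristic `r`.
-/

set_option autoImplicit false
set_option maxRecDepth 100000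

namespace Cfsg.Agent.H337.HT.TabP

open Cfsg.Agent.H337.HT

/-- PSL3(2), `n ≥ 13` -/
theorem psl3_2 : chkP 2 [3, 7] 168 336 13 = true := by decide +kernel

/-- PSL4(2), `n ≥ 13` -/
theorem psl4_2 : chkP 2 [3, 5, 7] 20160 40320 13 = true := by decide +kernel

/-- PSL5(2), `n ≥ 15` -/
theorem psl5_2 : chkP 2 [3, 5, 7, 31] 9999360 19998720 15 = true := by decide +kernel

/-- PSL6(2), `n ≥ 31` -/
theorem psl6_2 : chkP 2 [3, 5, 7, 31] 20158709760 40317419520 31 = true := by decide +kernel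

/-- PSL7(2), `n ≥ 63` -/
theorem psl7_2 : chkP 2 [3, 5, 7, 31, 127] 163849992929280 327699985858560 63 = true := by decide +kernel

/-- PSU4(2), `n ≥ 13` -/
theorem psu4_2 : chkP 2 [3, 5] 25920 51840 13 = true := by decide +kernel

/-- PSU5(2), `n ≥ 13` -/
theorem psu5_2 : chkP 2 [3, 5, 11] 13685760 27371520 13 = true := by decide +kernel

/-- PSU6(2), `n ≥ 16` -/
theorem psu6_2 : chkP 2 [3, 5, 7, 11] 9196830720 55180984320 16 = true := by decide +kernel

/-- PSU7(2), `n ≥ 32` -/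
theorem psu7_2 : chkP 2 [3, 5, 7, 11, 43] 227787103272960 455574206545920 32 = true := by decide +kernel

/-- PSU8(2), `n ≥ 64` -/
theorem psu8_2 : chkP 2 [3, 5, 7, 11, 17, 43] 7434971050829414400 14869942101658828800 64 = true := by decide +kernel

/-- PSp6(2), `n ≥ 13` -/
theorem psp6_2 : chkP 2 [3, 5, 7] 1451520 1451520 13 = true := by decide +kernel

/-- PSp8(2), `n ≥ 15` -/
theorem psp8_2 : chkP 2 [3, 5, 7, 17] 47377612800 47377612800 15 = true := by decide +kernel

/-- PSp10(2), `n ≥ 31` -/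
theorem psp10_2 : chkP 2 [3, 5, 7, 11, 17, 31] 24815256521932800 24815256521932800 31 = true := by decide +kernel

/-- PSp12(2), `n ≥ 63` -/
theorem psp12_2 : chkP 2 [3, 5, 7, 11, 13, 17, 31] 208114637736580743168000 208114637736580743168000 63 = true := by decide +kernel

/-- PSp14(2), `n ≥ 127` -/
theorem psp14_2 : chkP 2 [3, 5, 7, 11, 13, 17, 31, 43, 127] 27930968965434591767112450048000 27930968965434591767112450048000 127 = true := by decide +kernel

/-- PO+8(2), `n ≥ 13` -/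
theorem pop8_2 : chkP 2 [3, 5, 7] 174182400 1045094400 13 = true := by decide +kernel

/-- PO-8(2), `n ≥ 14` -/
theorem pom8_2 : chkP 2 [3, 5, 7, 17] 197406720 394813440 14 = true := by decide +kernel

/-- PO+10(2), `n ≥ 15` -/
theorem pop10_2 : chkP 2 [3, 5, 7, 17, 31] 23499295948800 46998591897600 15 = true := by decide +kernel

/-- PO-10(2), `n ≥ 14` -/
theorem pom10_2 : chkP 2 [3, 5, 7, 11, 17] 25015379558400 50030759116800 14 = true := by decide +kernel

/-- PO+12(2), `n ≥ 31` -/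
theorem pop12_2 : chkP 2 [3, 5, 7, 11, 17, 31] 50027557148216524800 100055114296433049600 31 = true := by decide +kernel

/-- PO-12(2), `n ≥ 15` -/
theorem pom12_2 : chkP 2 [3, 5, 7, 11, 13, 17, 31] 51615733565620224000 103231467131240448000 15 = true := by decide +kernel

/-- PO+14(2), `n ≥ 63` -/
theorem pop14_2 : chkP 2 [3, 5, 7, 11, 13, 17, 31, 127] 1691555775522928280469504000 3383111551045856560939008000 63 = true := by decide +kernel

/-- PO-14(2), `n ≥ 31` -/
theorem pom14_2 : chkP 2 [3, 5, 7, 11, 13, 17, 31, 43] 1718194449153210615595008000 3436388898306421231190016000 31 = true := by decide +kernel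

/-- PO+16(2), `n ≥ 127` -/
theorem pop16_2 : chkP 2 [3, 5, 7, 11, 13, 17, 31, 43, 127] 911666827031785075278550369566720000 1823333654063570150557100739133440000 127 = true := by decide +kernel

/-- PO-16(2), `n ≥ 63` -/
theorem pom16_2 : chkP 2 [3, 5, 7, 11, 13, 17, 31, 43, 127, 257] 918817155086936330770931156779008000 1837634310173872661541862313558016000 63 = true := by decide +kernel

/-- PO-18(2), `n ≥ 127` -/
theorem pom18_2 : chkP 2 [3, 5, 7, 11, 13, 17, 19, 31, 43, 127, 257] 7877103854727828347931810809383874168094720000 15754207709455656695863621618767748336189440000 127 = true := by decide +kernel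

/-- F4(2), `n ≥ 16` -/
theorem f4_2 : chkP 2 [3, 5, 7, 13, 17] 3311126603366400 6622253206732800 16 = true := by decide +kernel

/-- 2E6(2), `n ≥ 16` -/
theorem t2e6_2 : chkP 2 [3, 5, 7, 11, 13, 17, 19] 76532479683774853939200 459194878102649123635200 16 = true := by decide +kernel

/-- 3D4(2), `n ≥ 16` -/
theorem t3d4_2 : chkP 2 [3, 7, 13] 211341312 634023936 16 = true := by decide +kernel

/-- PSL3(3), `n ≥ 13` -/
theorem psl3_3 : chkP 3 [2, 13] 5616 11232 13 = true := by decide +kernel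

/-- PSL4(3), `n ≥ 26` -/
theorem psl4_3 : chkP 3 [2, 5, 13] 6065280 24261120 26 = true := by decide +kernel

/-- PSL5(3), `n ≥ 80` -/
theorem psl5_3 : chkP 3 [2, 5, 11, 13] 237783237120 475566474240 80 = true := by decide +kernel

/-- PSU3(3), `n ≥ 13` -/
theorem psu3_3 : chkP 3 [2, 7] 6048 12096 13 = true := by decide +kernel

/-- PSU4(3), `n ≥ 13` -/
theorem psu4_3 : chkP 3 [2, 5, 7] 3265920 26127360 13 = true := by decide +kernel

/-- PSU5(3), `n ≥ 54` -/
theorem psu5_3 : chkP 3 [2, 5, 7, 61] 258190571520 516381143040 54 = true := by decide +kernel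

/-- PSp6(3), `n ≥ 13` -/
theorem psp6_3 : chkP 3 [2, 5, 7, 13] 4585351680 9170703360 13 = true := by decide +kernel

/-- PSp8(3), `n ≥ 40` -/
theorem psp8_3 : chkP 3 [2, 5, 7, 13, 41] 65784756654489600 131569513308979200 40 = true := by decide +kernel

/-- PSp10(3), `n ≥ 121` -/
theorem psp10_3 : chkP 3 [2, 5, 7, 11, 13, 41, 61] 76457792934119864313446400 152915585868239728626892800 121 = true := by decide +kernel

/-- PO7(3), `n ≥ 26` -/
theorem po7_3 : chkP 3 [2, 5, 7, 13] 4585351680 9170703360 26 = true := by decide +kernel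

/-- PO9(3), `n ≥ 26` -/
theorem po9_3 : chkP 3 [2, 5, 7, 13, 41] 65784756654489600 131569513308979200 26 = true := by decide +kernel

/-- PO11(3), `n ≥ 80` -/
theorem po11_3 : chkP 3 [2, 5, 7, 11, 13, 41, 61] 76457792934119864313446400 152915585868239728626892800 80 = true := by decide +kernel

/-- PO13(3), `n ≥ 242` -/
theorem po13_3 : chkP 3 [2, 5, 7, 11, 13, 41, 61, 73] 7197966128645938515382156481789952000 14395932257291877030764312963579904000 242 = true := by decide +kernel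

/-- PO+8(3), `n ≥ 26` -/
theorem pop8_3 : chkP 3 [2, 5, 7, 13] 4952179814400 118852315545600 26 = true := by decide +kernel

/-- PO-8(3), `n ≥ 26` -/
theorem pom8_3 : chkP 3 [2, 5, 7, 13, 41] 10151968619520 81215748956160 26 = true := by decide +kernel

/-- PO+10(3), `n ≥ 80` -/
theorem pop10_3 : chkP 3 [2, 5, 7, 11, 13, 41] 1289512799941305139200 5158051199765220556800 80 = true := by decide +kernel

/-- PO-10(3), `n ≥ 26` -/
theorem pom10_3 : chkP 3 [2, 5, 7, 13, 41, 61] 650084965259666227200 5200679722077329817600 26 = true := by decide +kernel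

/-- PO-12(3), `n ≥ 80` -/
theorem pom12_3 : chkP 3 [2, 5, 7, 11, 13, 41, 61, 73] 13562847888583522730562256896000 108502783108668181844498055168000 80 = true := by decide +kernel

/-- PO-14(3), `n ≥ 242` -/
theorem pom14_3 : chkP 3 [2, 5, 7, 11, 13, 41, 61, 73, 547] 5740565134714480760418669730296013258752000 45924521077715846083349357842368106070016000 242 = true := by decide +kernel

/-- G2(3), `n ≥ 14` -/
theorem g2_3 : chkP 3 [2, 7, 13] 4245696 8491392 14 = true := by decide +kernel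

/-- F4(3), `n ≥ 162` -/
theorem f4_3 : chkP 3 [2, 5, 7, 13, 41, 73] 5734420792816671844761600 5734420792816671844761600 162 = true := by decide +kernel

/-- PSL3(4), `n ≥ 13` -/
theorem psl3_4 : chkP 2 [3, 5, 7] 20160 241920 13 = true := by decide +kernel

/-- PSU3(4), `n ≥ 13` -/
theorem psu3_4 : chkP 2 [3, 5, 13] 62400 249600 13 = true := by decide +kernel

/-- PSp4(4), `n ≥ 15` -/
theorem psp4_4 : chkP 2 [3, 5, 17] 979200 3916800 15 = true := by decide +kernel

/-- PO+8(4), `n ≥ 63` -/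
theorem pop8_4 : chkP 2 [3, 5, 7, 13, 17] 67010895544320000 804130746531840000 63 = true := by decide +kernel

/-- PO-8(4), `n ≥ 63` -/
theorem pom8_4 : chkP 2 [3, 5, 7, 13, 17, 257] 67536471195648000 270145884782592000 63 = true := by decide +kernel

/-- PO-10(4), `n ≥ 63` -/
theorem pom10_4 : chkP 2 [3, 5, 7, 13, 17, 41, 257] 1156864092324658937856000000 4627456369298635751424000000 63 = true := by decide +kernel

/-- G2(4), `n ≥ 13` -/
theorem g2_4 : chkP 2 [3, 5, 7, 13] 251596800 503193600 13 = true := by decide +kernel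

/-- PSL3(5), `n ≥ 24` -/
theorem psl3_5 : chkP 5 [2, 3, 31] 372000 744000 24 = true := by decide +kernel

/-- PSU3(5), `n ≥ 20` -/
theorem psu3_5 : chkP 5 [2, 3, 7] 126000 756000 20 = true := by decide +kernel

/-- PSp4(5), `n ≥ 13` -/
theorem psp4_5 : chkP 5 [2, 3, 13] 4680000 9360000 13 = true := by decide +kernel

/-- PSp6(5), `n ≥ 62` -/
theorem psp6_5 : chkP 5 [2, 3, 7, 13, 31] 228501000000000 457002000000000 62 = true := by decide +kernel

/-- PO9(5), `n ≥ 124` -/
theorem po9_5 : chkP 5 [2, 3, 7, 13, 31, 313] 6973279267500000000000000 13946558535000000000000000 124 = true := by decide +kernel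

/-- PO+8(5), `n ≥ 124` -/
theorem pop8_5 : chkP 5 [2, 3, 7, 13, 31] 8911539000000000000 213876936000000000000 124 = true := by decide +kernel

/-- PO-8(5), `n ≥ 124` -/
theorem pom8_5 : chkP 5 [2, 3, 7, 13, 31, 313] 17880203250000000000 143041626000000000000 124 = true := by decide +kernel

/-- PO-10(5), `n ≥ 124` -/
theorem pom10_5 : chkP 5 [2, 3, 7, 13, 31, 313, 521] 13624044368878125000000000000000 108992354951025000000000000000000 124 = true := by decide +kernel

/-- G2(5), `n ≥ 20` -/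
theorem g2_5 : chkP 5 [2, 3, 7, 31] 5859000000 5859000000 20 = true := by decide +kernel

/-- PSL3(7), `n ≥ 48` -/
theorem psl3_7 : chkP 7 [2, 3, 19] 1876896 11261376 48 = true := by decide +kernel

/-- PSU3(7), `n ≥ 42` -/
theorem psu3_7 : chkP 7 [2, 3, 43] 5663616 11327232 42 = true := by decide +kernel

/-- PSp4(7), `n ≥ 24` -/
theorem psp4_7 : chkP 7 [2, 3, 5] 138297600 276595200 24 = true := by decide +kernel

/-- G2(7), `n ≥ 42` -/
theorem g2_7 : chkP 7 [2, 3, 19, 43] 664376138496 664376138496 42 = true := by decide +kernel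

/-- G2(8), `n ≥ 56` -/
theorem g2_8 : chkP 2 [3, 7, 19, 73] 4329310519296 12987931557888 56 = true := by decide +kernel

/-- PSp4(9), `n ≥ 40` -/
theorem psp4_9 : chkP 3 [2, 5, 41] 1721606400 6886425600 40 = true := by decide +kernel

/-- G2(9), `n ≥ 72` -/
theorem g2_9 : chkP 3 [2, 5, 7, 13, 73] 22594320403200 90377281612800 72 = true := by decide +kernel

/-- PSp4(11), `n ≥ 60` -/
theorem psp4_11 : chkP 11 [2, 3, 5, 61] 12860654400 25721308800 60 = true := by decide +kernel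

/-- Sz(8), `n ≥ 13` -/
theorem sz_8 : chkP 2 [5, 7, 13] 29120 87360 13 = true := by decide +kernel

/-- Ree(27), `n ≥ 26` -/
theorem ree_27 : chkP 3 [2, 7, 13, 19, 37] 10073444472 30220333416 26 = true := by decide +kernel

/-- Sz(32), `n ≥ 31` -/
theorem sz_32 : chkP 2 [5, 31, 41] 32537600 162688000 31 = true := by decide +kernel

end Cfsg.Agent.H337.HT.TabP
end

-- part: H19/RP/JOne
section
prune_inst 0x2
set_option linter.all false
open scoped Cfsg.Agent.FastGrp

/-!
# S3512: `J₁` in characteristic 11 has no representation of degree at most 6 (helper19)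

`seven_le` : a representation of a group with a subgroup `2³:7` on which the involution acts nontrivially has degree
`≥ 7` in characteristic 11.  `j1_row` : a core of type `J₁` in characteristic 11 has degree `≥ 7`.
-/

set_option autoImplicit false

open Cfsg Matrix Module

namespace Cfsg.Agent.H19.RP

universe u v w

section seven

variable {K : Type u} [Field K] {V : Type v} [AddCommGroup V] [Module K V]

/-- a common eigenvector -/
structure W (A B C : Module.End K V) (α β γ : ℤ) (v : V) : Prop where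
  a : A v = (α : K) • v
  b : B v = (β : K) • v
  c : C v = (γ : K) • v
  ne : v ≠ 0
  aa : α * α = 1
  bb : β * β = 1
  cc : γ * γ = 1

variable {A B C Y Y' : Module.End K V}

theorem W.step {α β γ : ℤ} {v : V} (h : W A B C α β γ v) (h1 : Y' * Y = 1) (hB : B * Y = Y * A) (hC : C * Y = Y * B)
    (hAB : A * B * Y = Y * C) : W A B C (α * γ) α β (Y v) := by
  have hb : B (Y v) = (α : K) • Y v := by
    have h2 := LinearMap.congr_fun hB v
    change B (Y v) = Y (A v) at h2
    rw [h2, h.a, map_smul]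
  have hc : C (Y v) = (β : K) • Y v := by
    have h2 := LinearMap.congr_fun hC v
    change C (Y v) = Y (B v) at h2
    rw [h2, h.b, map_smul]
  have ha : A (Y v) = ((α * γ : ℤ) : K) • Y v := by
    have h2 := LinearMap.congr_fun hAB v
    change A (B (Y v)) = Y (C v) at h2
    rw [hb, h.c, map_smul, map_smul] at h2
    have h3 : (α : K) * α = 1 := by
      have := congrArg (Int.cast : ℤ → K) h.aa
      push_cast at this
      exact this
    have h4 := congrArg (fun t => (α : K) • t) h2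
    simp only [smul_smul, h3, one_smul] at h4
    rw [h4]
    push_cast
    rfl
  refine ⟨ha, hb, hc, ?_, ?_, h.aa, h.bb⟩
  · intro h0
    apply h.ne
    have h2 := LinearMap.congr_fun h1 v
    change Y' (Y v) = v at h2
    rw [← h2, h0, map_zero]
  · calc α * γ * (α * γ) = (α * α) * (γ * γ) := by ring
      _ = 1 := by rw [h.aa, h.cc, one_mul]

theorem W.eig {α β γ : ℤ} {v : V} (h : W A B C α β γ v) (m : ℤ) (hm : m = α + 2 * β + 4 * γ) :
    (A + (2 : K) • B + (4 : K) • C).HasEigenvector (m : K) v := by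
  rw [Module.End.hasEigenvector_iff, Module.End.mem_eigenspace_iff]
  refine ⟨?_, h.ne⟩
  rw [LinearMap.add_apply, LinearMap.add_apply, LinearMap.smul_apply, LinearMap.smul_apply, h.a, h.b, h.c, hm]
  push_cast
  rw [smul_smul, smul_smul, ← add_smul, ← add_smul]

theorem exists_W (hAA : A * A = 1) (hBB : B * B = 1) (hCC : C * C = 1) (hAB : A * B = B * A) (hAC : A * C = C * A)
    (hBC : B * C = C * B) (hA : A ≠ 1) :
    ∃ (β γ : ℤ) (v : V), (β = 1 ∨ β = -1) ∧ (γ = 1 ∨ γ = -1) ∧ W A B C (-1) β γ v := by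
  obtain ⟨u, hu⟩ : ∃ u, A u ≠ u := by
    by_contra hcon
    push Not at hcon
    exact hA (LinearMap.ext hcon)
  have e1 : ∀ (S T : Module.End K V), S * T = T * S → ∀ x, S (T x) = T (S x) := fun S T h x => LinearMap.congr_fun h x
  have e2 : ∀ (S : Module.End K V), S * S = 1 → ∀ x, S (S x) = x := fun S h x => LinearMap.congr_fun h x
  have hv1 : u - A u ≠ 0 := fun h0 => hu (sub_eq_zero.1 h0).symm
  obtain ⟨v1, hv1, ha1⟩ : ∃ v1 : V, v1 ≠ 0 ∧ A v1 = -v1 :=
    ⟨u - A u, hv1, by rw [map_sub, e2 A hAA]; abel⟩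
  obtain ⟨β, hβ, v2, hv2, ha2, hb2⟩ : ∃ β : ℤ, (β = 1 ∨ β = -1) ∧ ∃ v2 : V, v2 ≠ 0 ∧ A v2 = -v2 ∧ B v2 = (β : K) • v2 := by
    by_cases h : B v1 = v1
    · exact ⟨1, Or.inl rfl, v1, hv1, ha1, by rw [h]; simp⟩
    · refine ⟨-1, Or.inr rfl, v1 - B v1, fun h0 => h (sub_eq_zero.1 h0).symm, ?_, ?_⟩
      · rw [map_sub, e1 A B hAB, ha1, map_neg]; abel
      · rw [map_sub, e2 B hBB]
        push_cast
        rw [neg_smul, one_smul]
        abel
  obtain ⟨γ, hγ, v3, hv3, ha3, hb3, hc3⟩ : ∃ γ : ℤ, (γ = 1 ∨ γ = -1) ∧ ∃ v3 : V, v3 ≠ 0 ∧ A v3 = -v3 ∧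
      B v3 = (β : K) • v3 ∧ C v3 = (γ : K) • v3 := by
    by_cases h : C v2 = v2
    · exact ⟨1, Or.inl rfl, v2, hv2, ha2, hb2, by rw [h]; simp⟩
    · refine ⟨-1, Or.inr rfl, v2 - C v2, fun h0 => h (sub_eq_zero.1 h0).symm, ?_, ?_, ?_⟩
      · rw [map_sub, e1 A C hAC, ha2, map_neg]; abel
      · rw [map_sub, e1 B C hBC, hb2, map_smul, smul_sub]
      · rw [map_sub, e2 C hCC]
        push_cast
        rw [neg_smul, one_smul]
        abel
  refine ⟨β, γ, v3, hβ, hγ, ?_, hb3, hc3, hv3, by norm_num, ?_, ?_⟩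
  · rw [ha3]
    push_cast
    rw [neg_smul, one_smul]
  · rcases hβ with rfl | rfl <;> norm_num
  · rcases hγ with rfl | rfl <;> norm_num

theorem inj_of (K : Type u) [Field K] [CharP K 11] (m : Fin 7 → ℤ) (h : ∀ i j, (11 : ℤ) ∣ m i - m j → i = j) :
    Function.Injective (fun i => ((m i : ℤ) : K)) := by
  intro i j hij
  apply h
  have h1 : ((m i - m j : ℤ) : K) = 0 := by
    push_cast
    exact sub_eq_zero.2 hij
  exact (CharP.intCast_eq_zero_iff K 11 _).1 h1

/-- **`2³:7` has degree at least seven in characteristic 11** -/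
theorem seven_le [FiniteDimensional K V] [CharP K 11] (hAA : A * A = 1) (hAB : A * B = B * A) (hA : A ≠ 1)
    (h1 : Y' * Y = 1) (h1' : Y * Y' = 1) (hB : B * Y = Y * A) (hC : C * Y = Y * B) (hABC : A * B * Y = Y * C) :
    7 ≤ Module.finrank K V := by
  have cancel : ∀ S T : Module.End K V, S * Y = T * Y → S = T := by
    intro S T h
    have := congrArg (· * Y') h
    simpa only [mul_assoc, h1', mul_one] using this
  have hBB : B * B = 1 := by
    apply cancel
    rw [mul_assoc, hB, ← mul_assoc, hB, mul_assoc, hAA, mul_one, one_mul]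
  have hCC : C * C = 1 := by
    apply cancel
    rw [mul_assoc, hC, ← mul_assoc, hC, mul_assoc, hBB, mul_one, one_mul]
  have hBC : B * C = C * B := by
    apply cancel
    rw [mul_assoc, hC, ← mul_assoc, hB, mul_assoc, hAB, ← mul_assoc, ← hC, mul_assoc, ← hB, ← mul_assoc]
  have hAC : A * C = C * A := by
    have h3 : C * (A * B) = A * B * C := by
      apply cancel
      rw [mul_assoc, hABC, ← mul_assoc, hC, mul_assoc, hBC, ← mul_assoc, ← hABC, mul_assoc, ← hC, ← mul_assoc]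
    have h4 := congrArg (· * B) h3
    simp only [mul_assoc, hBB, mul_one] at h4
    rw [← hBC] at h4
    rw [← mul_assoc B B C, hBB, one_mul] at h4
    exact h4.symm
  obtain ⟨β, γ, v, hβ, hγ, w0⟩ := exists_W hAA hBB hCC hAB hAC hBC hA
  have w1 := w0.step h1 hB hC hABC
  have w2 := w1.step h1 hB hC hABC
  have w3 := w2.step h1 hB hC hABC
  have w4 := w3.step h1 hB hC hABC
  have w5 := w4.step h1 hB hC hABC
  have w6 := w5.step h1 hB hC hABC
  have key : ∀ (m : Fin 7 → ℤ) (x : Fin 7 → V), (∀ i j, (11 : ℤ) ∣ m i - m j → i = j) →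
      (∀ i, (A + (2 : K) • B + (4 : K) • C).HasEigenvector ((m i : ℤ) : K) (x i)) → 7 ≤ Module.finrank K V := by
    intro m x hm hx
    have h3 := Module.End.eigenvectors_linearIndependent' _ (fun i => ((m i : ℤ) : K)) (inj_of K m hm) x hx
    simpa using h3.fintype_card_le_finrank
  have key2 : ∀ (m : Fin 7 → ℤ), (∀ i j, (11 : ℤ) ∣ m i - m j → i = j) →
      m 0 = (-1) + 2 * β + 4 * γ → m 1 = (-1) * γ + 2 * (-1) + 4 * β → m 2 = (-1) * γ * β + 2 * ((-1) * γ) + 4 * (-1) →
      m 3 = (-1) * γ * β * (-1) + 2 * ((-1) * γ * β) + 4 * ((-1) * γ) →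
      m 4 = (-1) * γ * β * (-1) * ((-1) * γ) + 2 * ((-1) * γ * β * (-1)) + 4 * ((-1) * γ * β) →
      m 5 = (-1) * γ * β * (-1) * ((-1) * γ) * ((-1) * γ * β) + 2 * ((-1) * γ * β * (-1) * ((-1) * γ)) +
        4 * ((-1) * γ * β * (-1)) →
      m 6 = (-1) * γ * β * (-1) * ((-1) * γ) * ((-1) * γ * β) * ((-1) * γ * β * (-1)) +
        2 * ((-1) * γ * β * (-1) * ((-1) * γ) * ((-1) * γ * β)) + 4 * ((-1) * γ * β * (-1) * ((-1) * γ)) →
      7 ≤ Module.finrank K V := by
    intro m hm e0 e1 e2 e3 e4 e5 e6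
    refine key m ![v, Y v, Y (Y v), Y (Y (Y v)), Y (Y (Y (Y v))), Y (Y (Y (Y (Y v)))), Y (Y (Y (Y (Y (Y v)))))] hm ?_
    intro i
    fin_cases i
    · exact w0.eig _ e0
    · exact w1.eig _ e1
    · exact w2.eig _ e2
    · exact w3.eig _ e3
    · exact w4.eig _ e4
    · exact w5.eig _ e5
    · exact w6.eig _ e6
  rcases hβ with rfl | rfl <;> rcases hγ with rfl | rfl
  · exact key2 ![5, 1, -7, -5, -3, 3, -1] (by decide) (by decide) (by decide) (by decide) (by decide) (by decide)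
      (by decide) (by decide)
  · exact key2 ![-3, 3, -1, 5, 1, -7, -5] (by decide) (by decide) (by decide) (by decide) (by decide) (by decide)
      (by decide) (by decide)
  · exact key2 ![1, -7, -5, -3, 3, -1, 5] (by decide) (by decide) (by decide) (by decide) (by decide) (by decide)
      (by decide) (by decide)
  · exact key2 ![-7, -5, -3, 3, -1, 5, 1] (by decide) (by decide) (by decide) (by decide) (by decide) (by decide)
      (by decide) (by decide)

end seven

/-- a matrix group in characteristic 11 with a subgroup `2³:7` has degree at least seven -/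
theorem frob8_le {F : Type u} [Field F] [CharP F 11] {ι : Type} [Fintype ι] [DecidableEq ι] {T : Type v} [Group T]
    (h : Cfsg.Agent.H871.Par.Frob8 T) (φ : T →* GL ι F) (hφ : Function.Injective φ) : 7 ≤ Fintype.card ι := by
  obtain ⟨a, b, c, y, h1, h2, h3, h4, h5, h6⟩ := h
  let ρ : T →* Module.End F (ι → F) :=
    (Matrix.toLinAlgEquiv' : Matrix ι ι F ≃ₐ[F] ((ι → F) →ₗ[F] (ι → F))).toAlgHom.toMonoidHom.comp
      ((Units.coeHom (Matrix ι ι F)).comp φ)
  have hρ : Function.Injective ρ := fun x z hxz => hφ (Units.ext (Matrix.toLinAlgEquiv'.injective hxz))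
  have h7 := seven_le (A := ρ a) (B := ρ b) (C := ρ c) (Y := ρ y) (Y' := ρ y⁻¹) (by rw [← map_mul, h1, map_one])
    (by rw [← map_mul, h3, map_mul]) (fun h0 => h2 (hρ (h0.trans (map_one ρ).symm)))
    (by rw [← map_mul, inv_mul_cancel, map_one]) (by rw [← map_mul, mul_inv_cancel, map_one])
    (by rw [← map_mul, ← map_mul, ← h4]; congr 1; group)
    (by rw [← map_mul, ← map_mul, ← h5]; congr 1; group)
    (by rw [← map_mul, ← map_mul, ← map_mul, ← h6]; congr 1; group)
  rwa [Module.finrank_fintype_fun_eq_card] at h7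

/-- **cores of type `J₁` in characteristic 11 have degree at least seven** -/
theorem j1_core {F : Type u} [Field F] [CharP F 11] {ι : Type} [Fintype ι] [DecidableEq ι]
    {P : Subgroup (GL ι F)} (hC : Cfsg.Agent.H915.LD.Core P) (hn : Fintype.card ι ≤ 6)
    (h : Spor.IsoJ1 (Cfsg.Agent.H915.LD.Soc P)) : False := by
  obtain ⟨e⟩ := h
  obtain ⟨-, E, -⟩ := Cfsg.Agent.H659.J1.exists_equiv hC e
  have h7 := frob8_le Cfsg.Agent.H871.Par.frob8_J1 (P.subtype.comp E.symm.toMonoidHom)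
    (fun x z hxz => E.symm.injective (Subtype.ext hxz))
  omega

/-- the piece `j1` of `H391.HT.AsmP.Pieces` -/
theorem j1_row (F : Type u) [Field F] [Finite F] [CharP F 11] (n : ℕ)
    (P : Subgroup (Matrix.GeneralLinearGroup (Fin n) F)) (hC : Cfsg.Agent.H915.LD.Core P) (hn : n ≤ 6)
    (h : Spor.IsoJ1 (Cfsg.Agent.H915.LD.Soc P)) : False :=
  j1_core hC (by rw [Fintype.card_fin]; exact hn) h

end Cfsg.Agent.H19.RP
end

-- part: H662/HT/QW
section
prune_inst 0x1010054004220000001800024000000020000000004004006c02004000000060ad01280100000012082081000000002813880000424000000e000400000504218082460032400008440091000000000000000000000000000000000000000000200000000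
set_option linter.all false
open scoped Cfsg.Agent.FastGrp

/-!
# S3512: quasisimple irreducible normal subgroups, no condition on `p` and `|G|` (helper662)

`QW p K V G L h` is `H337.HT.QS` without `¬ p ∣ |G|`; the numerical conditions (`cand`), the core (`exists_core`, after helper267)
and the basic facts (after helper337) in this generality.
-/

set_option autoImplicit false
set_option linter.unusedSectionVars false

universe u w

namespace Cfsg.Agent.H662.HT

open Cfsg.Agent.H828.HT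
open Cfsg.Agent.H337.HT (Cand Dead)
open Cfsg.Agent.H337.HT.QS (qt eq_one_of_qt sc sc_apply qt_mk)

/-- the setting of the quasisimple rows -/
structure QW (p : ℕ) [Fact p.Prime] (K : Type w) [Field K] (V : Type u) [AddCommGroup V] [Module (ZMod p) V]
    [Module K V] (G L : Subgroup (V ≃ₗ[ZMod p] V)) (h : ℕ) : Prop where
  half : Half G h
  two_le : 2 ≤ h
  le : L ≤ G
  nrm : ∀ g ∈ G, ∀ l ∈ L, g * l * g⁻¹ ∈ L
  perf : commutator L = ⊤
  simple : IsSimpleGroup (L ⧸ Subgroup.center L)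
  nonab : ∃ a ∈ L, ∃ b ∈ L, a * b ≠ b * a
  lin : ∀ l ∈ L, ∀ (c : K) (v : V), l (c • v) = c • l v
  endo : ∀ f : V →ₗ[ZMod p] V, (∀ l ∈ L, ∀ v, f (l v) = l (f v)) → ∃ c : K, ∀ v, f v = c • v
  irr : ∀ W : Submodule (ZMod p) V, (∀ l ∈ L, ∀ v ∈ W, l v ∈ W) → W = ⊥ ∨ W = ⊤

section half

variable {p : ℕ} [Fact p.Prime] {V : Type u} [AddCommGroup V] [Module (ZMod p) V] [Finite V]
  {G : Subgroup (V ≃ₗ[ZMod p] V)} {h : ℕ}

end half

variable {p : ℕ} [Fact p.Prime] {K : Type w} [Field K] {V : Type u} [AddCommGroup V] [Module (ZMod p) V] [Finite V]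
    [Module K V] {G L : Subgroup (V ≃ₗ[ZMod p] V)} {h : ℕ}

namespace QW

theorem exists_ne (H : QW p K V G L h) : ∃ v : V, v ≠ 0 := by
  obtain ⟨a, -, b, -, hab⟩ := H.nonab
  by_contra hcon
  push Not at hcon
  exact hab (LinearEquiv.ext fun v => by rw [hcon ((a * b) v), hcon ((b * a) v)])

theorem finiteK (H : QW p K V G L h) : Finite K := by
  obtain ⟨v, hv⟩ := H.exists_ne
  exact Finite.of_injective (fun c : K => c • v) fun a b hab => by
    by_contra hne
    have h1 : (a - b) • v = 0 := by rw [sub_smul, sub_eq_zero]; exact hab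
    rcases smul_eq_zero.1 h1 with h2 | h2
    · exact hne (sub_eq_zero.1 h2)
    · exact hv h2

theorem finiteDim (_ : QW p K V G L h) : Module.Finite K V := Module.Finite.of_finite

theorem card_V (_ : QW p K V G L h) : Nat.card V = Nat.card K ^ Module.finrank K V :=
  Module.natCard_eq_pow_finrank

theorem finrank_pos (H : QW p K V G L h) : 0 < Module.finrank K V := by
  have := H.finiteDim
  obtain ⟨v, hv⟩ := H.exists_ne
  have : Nontrivial V := ⟨v, 0, hv⟩
  exact Module.finrank_pos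

theorem exists_card (H : QW p K V G L h) : ∃ k, Nat.card K = p ^ k ∧ 0 < k := by
  have hK := H.finiteK
  have h1 : Nat.card K ∣ p ^ Module.finrank (ZMod p) V := by
    rw [← card_eq_pow (p := p) V, H.card_V]
    exact dvd_pow_self _ H.finrank_pos.ne'
  obtain ⟨k, -, hk⟩ := (Nat.dvd_prime_pow Fact.out).1 h1
  refine ⟨k, hk, Nat.pos_of_ne_zero ?_⟩
  rintro rfl
  have := Finite.one_lt_card (α := K)
  rw [hk, pow_zero] at this
  omega

theorem card_quot_dvd_L (_ : QW p K V G L h) : Nat.card (L ⧸ Subgroup.center L) ∣ Nat.card L :=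
  Subgroup.card_quotient_dvd_card _

theorem card_L_dvd (H : QW p K V G L h) : Nat.card L ∣ Nat.card G := Subgroup.card_dvd_of_le H.le

theorem two_le_card (H : QW p K V G L h) : 2 ≤ Nat.card K := by
  have := H.finiteK
  exact Finite.one_lt_card

/-! ### The action on `L / Z(L)` -/

/-- conjugation of `L` by an element of `G` -/
def cj (H : QW p K V G L h) : G →* MulAut L where
  toFun g :=
    { toFun := fun l => ⟨g * l * g⁻¹, H.nrm g g.2 l l.2⟩
      invFun := fun l => ⟨(g : V ≃ₗ[ZMod p] V)⁻¹ * l * g, by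
        have := H.nrm _ (G.inv_mem g.2) l l.2
        rwa [inv_inv] at this⟩
      left_inv := fun l => Subtype.ext (by simp only [mul_assoc, _root_.InvMemClass.coe_inv, _root_.inv_mul_cancel_left, _root_.inv_mul_cancel, _root_.mul_one])
      right_inv := fun l => Subtype.ext (by simp only [mul_assoc, _root_.mul_inv_cancel_left, _root_.InvMemClass.coe_inv, _root_.mul_inv_cancel, _root_.mul_one])
      map_mul' := fun a b => Subtype.ext (by simp only [mul_assoc, _root_.Subgroup.coe_mul, _root_.InvMemClass.coe_inv, _root_.MulMemClass.mk_mul_mk, _root_.inv_mul_cancel_left]) }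
  map_one' := by ext l : 2; simp only [_root_.OneMemClass.coe_one, _root_.one_mul, _root_.inv_one, _root_.mul_one, _root_.Subtype.coe_eta, _root_.MulEquiv.coe_mk, _root_.Equiv.coe_fn_mk, _root_.MulAut.one_apply]
  map_mul' a b := by ext l : 2; simp only [mul_assoc, _root_.Subgroup.coe_mul, _root_.mul_inv_rev, _root_.InvMemClass.coe_inv, _root_.MulEquiv.coe_mk, _root_.Equiv.coe_fn_mk, _root_.MulAut.mul_apply]

@[simp] theorem cj_apply (H : QW p K V G L h) (g : G) (l : L) :
    ((H.cj g l : L) : V ≃ₗ[ZMod p] V) = g * l * (g : V ≃ₗ[ZMod p] V)⁻¹ := rfl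

/-- elements of `G` acting trivially on `L / Z(L)` are scalars -/
theorem scalar_of_qt (H : QW p K V G L h) {g : G} (hg : qt (H.cj g) = 1) : ∃ c : K, ∀ v, (g : V ≃ₗ[ZMod p] V) v = c • v := by
  have h1 := eq_one_of_qt H.perf hg
  refine H.endo (g : V ≃ₗ[ZMod p] V) fun l hl v => ?_
  have h2 : H.cj g ⟨l, hl⟩ = ⟨l, hl⟩ := by rw [h1]; rfl
  have h3 : (g : V ≃ₗ[ZMod p] V) * l * (g : V ≃ₗ[ZMod p] V)⁻¹ = l := congrArg Subtype.val h2
  have h4 : (g : V ≃ₗ[ZMod p] V) * l = l * g := by rw [← mul_inv_eq_iff_eq_mul]; exact h3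
  exact LinearEquiv.congr_fun h4 v

theorem card_G_dvd (H : QW p K V G L h) :
    Nat.card G ∣ (Nat.card K - 1) * Nat.card (MulAut (L ⧸ Subgroup.center L)) := by
  have hK := H.finiteK
  set! f : G →* MulAut (L ⧸ Subgroup.center L) := (qt.comp H.cj :) with hf
  have h1 : Nat.card G = Nat.card f.ker * Nat.card f.range := by
    rw [← Subgroup.index_ker f, mul_comm, Subgroup.index_mul_card]
  rw [h1]
  refine Nat.mul_dvd_mul ?_ (Subgroup.card_subgroup_dvd_card _)
  have h2 : Nat.card f.ker = Nat.card (f.ker.map G.subtype) :=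
    Nat.card_congr (f.ker.equivMapOfInjective _ G.subtype_injective).toEquiv
  have h3 : f.ker.map G.subtype ≤ (sc (p := p) (K := K) (V := V)).range := by
    rintro _ ⟨g, hg, rfl⟩
    obtain ⟨c, hc⟩ := H.scalar_of_qt (g := g) hg
    have hc0 : c ≠ 0 := by
      rintro rfl
      obtain ⟨v, hv⟩ := H.exists_ne
      apply hv
      have h4 := hc v
      rw [zero_smul] at h4
      exact (g : V ≃ₗ[ZMod p] V).map_eq_zero_iff.1 h4
    exact ⟨Units.mk0 c hc0, LinearEquiv.ext fun v => by rw [sc_apply]; exact (hc v).symm⟩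
  have h4 : Nat.card (sc (p := p) (K := K) (V := V)).range ∣ Nat.card Kˣ := Subgroup.card_range_dvd _
  rw [h2, ← Nat.card_units]
  exact (Subgroup.card_dvd_of_le h3).trans h4

theorem charP (H : QW p K V G L h) : CharP K p := by
  obtain ⟨v, hv⟩ := H.exists_ne
  have h1 : (p : K) = 0 := by
    have h2 : (p : ℕ) • v = 0 := by
      rw [← Nat.cast_smul_eq_nsmul (ZMod p), ZMod.natCast_self, zero_smul]
    rw [← Nat.cast_smul_eq_nsmul K] at h2
    exact (smul_eq_zero.1 h2).resolve_right hv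
  obtain ⟨r, hr⟩ := CharP.exists K
  have h3 : r ∣ p := (CharP.cast_eq_zero_iff K r p).1 h1
  rcases (Nat.dvd_prime (Fact.out : p.Prime)).1 h3 with rfl | rfl
  · exact absurd rfl (CharP.char_ne_one K 1)
  · exact hr

theorem charP_subfield (H : QW p K V G L h) (F : Subfield K) : CharP F p := by
  have := H.charP
  exact (algebraMap F K).charP (algebraMap F K).injective p

end QW

section core

open Cfsg Cfsg.Geo Matrix Cfsg.Agent.H915.LD Cfsg.Agent.H267.HT

/-- the elements of `L` as `K`-linear maps -/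
def toEnd (H : QW p K V G L h) : L →* Module.End K V where
  toFun l :=
    { toFun := fun v => (l : V ≃ₗ[ZMod p] V) v
      map_add' := fun x y => map_add _ x y
      map_smul' := fun c v => H.lin l l.2 c v }
  map_one' := rfl
  map_mul' _ _ := rfl

theorem toEnd_apply (H : QW p K V G L h) (l : L) (v : V) : toEnd H l v = (l : V ≃ₗ[ZMod p] V) v := rfl

/-- the matrices of the elements of `L` in a `K`-basis -/
noncomputable def rho (H : QW p K V G L h) {n : ℕ} (b : Module.Basis (Fin n) K V) : L →* GL (Fin n) K :=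
  ((LinearMap.toMatrixAlgEquiv b).toAlgHom.toRingHom.toMonoidHom.comp (toEnd H)).toHomUnits

theorem rho_coe (H : QW p K V G L h) {n : ℕ} (b : Module.Basis (Fin n) K V) (l : L) :
    ((rho H b l : GL (Fin n) K) : Matrix (Fin n) (Fin n) K) = LinearMap.toMatrix b b (toEnd H l) := rfl

theorem rho_mulVec (H : QW p K V G L h) {n : ℕ} (b : Module.Basis (Fin n) K V) (l : L) (v : V) :
    ((rho H b l : GL (Fin n) K) : Matrix (Fin n) (Fin n) K) *ᵥ (b.repr v) = b.repr ((l : V ≃ₗ[ZMod p] V) v) := by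
  rw [rho_coe, LinearMap.toMatrix_mulVec_repr, toEnd_apply]

theorem rho_injective (H : QW p K V G L h) {n : ℕ} (b : Module.Basis (Fin n) K V) : Function.Injective (rho H b) := by
  intro l l' hl
  apply Subtype.ext
  apply LinearEquiv.ext
  intro v
  apply b.repr.injective
  apply DFunLike.coe_injective
  rw [← rho_mulVec H b l v, ← rho_mulVec H b l' v, hl]

/-- absolute irreducibility -/
theorem rho_absIrr (H : QW p K V G L h) {n : ℕ} (b : Module.Basis (Fin n) K V) :
    ActsAbsolutelyIrreducibly (matrixSet (rho H b).range) := by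
  classical
  refine ⟨fun W hW => ?_, fun M hM => ?_⟩
  · let W' : Submodule K V := W.comap (b.equivFun : V →ₗ[K] (Fin n → K))
    have hmem : ∀ v, v ∈ W' ↔ (⇑(b.repr v) : Fin n → K) ∈ W := fun v => Iff.rfl
    let W'' : Submodule (ZMod p) V := AddSubgroup.toZModSubmodule p W'.toAddSubgroup
    have hmem' : ∀ v, v ∈ W'' ↔ v ∈ W' := fun v => Iff.rfl
    have hst : ∀ l ∈ L, ∀ v ∈ W'', l v ∈ W'' := by
      intro l hl v hv
      rw [hmem', hmem] at hv ⊢
      rw [← rho_mulVec H b ⟨l, hl⟩ v, ← Matrix.toLin'_apply]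
      exact hW _ ⟨_, ⟨⟨l, hl⟩, rfl⟩, rfl⟩ (Submodule.mem_map_of_mem hv)
    rcases H.irr W'' hst with h1 | h1
    · left
      rw [Submodule.eq_bot_iff]
      intro x hx
      have h2 : b.equivFun.symm x ∈ W'' := by
        rw [hmem', hmem]
        show b.equivFun (b.equivFun.symm x) ∈ W
        rwa [LinearEquiv.apply_symm_apply]
      rw [h1, Submodule.mem_bot] at h2
      rw [← b.equivFun.apply_symm_apply x, h2, map_zero]
    · right
      rw [Submodule.eq_top_iff']
      intro x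
      have h2 : b.equivFun.symm x ∈ W'' := by rw [h1]; trivial
      rw [hmem', hmem] at h2
      have h3 : b.equivFun (b.equivFun.symm x) ∈ W := h2
      rwa [LinearEquiv.apply_symm_apply] at h3
  · let f : V →ₗ[K] V := Matrix.toLin b b M
    have hf : ∀ v, (⇑(b.repr (f v)) : Fin n → K) = M *ᵥ (b.repr v) := by
      intro v
      rw [← LinearMap.toMatrix_mulVec_repr b b f v, LinearMap.toMatrix_toLin]
    let f' : V →ₗ[ZMod p] V := f.toAddMonoidHom.toZModLinearMap p
    have hf' : ∀ v, f' v = f v := fun v => rfl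
    obtain ⟨c, hc⟩ := H.endo f' (by
      intro l hl v
      rw [hf', hf']
      apply b.repr.injective
      apply DFunLike.coe_injective
      show (⇑(b.repr (f (l v))) : Fin n → K) = ⇑(b.repr (l (f v)))
      rw [hf]
      have h1 := rho_mulVec H b ⟨l, hl⟩ v
      have h2 := rho_mulVec H b ⟨l, hl⟩ (f v)
      have h3 : (⇑(b.repr (l v)) : Fin n → K) = ((rho H b ⟨l, hl⟩ : GL (Fin n) K) : Matrix (Fin n) (Fin n) K) *ᵥ (b.repr v) :=
        h1.symm
      have h4 : (⇑(b.repr (l (f v))) : Fin n → K) =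
          ((rho H b ⟨l, hl⟩ : GL (Fin n) K) : Matrix (Fin n) (Fin n) K) *ᵥ (b.repr (f v)) := h2.symm
      rw [h3, h4, hf, Matrix.mulVec_mulVec, Matrix.mulVec_mulVec, hM _ ⟨_, ⟨⟨l, hl⟩, rfl⟩, rfl⟩])
    refine ⟨c, ?_⟩
    have h5 : f = c • (1 : V →ₗ[K] V) := by
      apply LinearMap.ext
      intro v
      exact hc v
    have h6 : LinearMap.toMatrix b b f = M := LinearMap.toMatrix_toLin b b M
    rw [← h6, h5, map_smul]
    congr 1
    exact LinearMap.toMatrix_one b

/-- **T1.** -/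
theorem exists_core (H : QW p K V G L h) {n : ℕ} (hn : Module.finrank K V = n) :
    ∃ (F : Subfield K) (P : Subgroup (GL (Fin n) F)) (e : P ≃* L) (b : Module.Basis (Fin n) K V),
      Core P ∧ Nonempty (Soc P ≃* L ⧸ Subgroup.center L) ∧
      ∀ (x : P) (v : V), (⇑(b.repr ((e x : V ≃ₗ[ZMod p] V) v)) : Fin n → K) =
        ((inc F (x : GL (Fin n) F) : GL (Fin n) K) : Matrix (Fin n) (Fin n) K) *ᵥ (b.repr v) := by
  classical
  have hKf : Finite K := H.finiteK
  have hVK : Module.Finite K V := Module.Finite.of_finite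
  obtain ⟨v, hv⟩ := H.exists_ne
  have hnt : Nontrivial V := ⟨⟨v, 0, hv⟩⟩
  have hn0 : NeZero n := ⟨by
    rw [← hn]
    exact (Module.finrank_pos (R := K) (M := V)).ne'⟩
  let b := Module.finBasisOfFinrankEq K V hn
  obtain ⟨F, σ, B, hσ, hC, hS, hB⟩ := exists_core_of_rep H.perf H.simple (by
    obtain ⟨a, ha, c, hc, hac⟩ := H.nonab
    exact ⟨⟨a, ha⟩, ⟨c, hc⟩, fun h1 => hac (congrArg Subtype.val h1)⟩) (rho_injective H b) (rho_absIrr H b)
  let e : L ≃* σ.range := MonoidHom.ofInjective hσ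
  let Be : (Fin n → K) ≃ₗ[K] (Fin n → K) := Matrix.toLin'OfInv (M' := (B : Matrix (Fin n) (Fin n) K))
    (M := ((B⁻¹ : GL (Fin n) K) : Matrix (Fin n) (Fin n) K))
    (by rw [← Units.val_mul, inv_mul_cancel, Units.val_one]) (by rw [← Units.val_mul, mul_inv_cancel, Units.val_one])
  let b' : Module.Basis (Fin n) K V := Module.Basis.ofEquivFun (b.equivFun.trans Be)
  have hb' : ∀ v : V, (⇑(b'.repr v) : Fin n → K) = (B : Matrix (Fin n) (Fin n) K) *ᵥ (b.repr v) := by
    intro v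
    have h1 : b'.equivFun v = Be (b.equivFun v) := by
      show (Module.Basis.ofEquivFun (b.equivFun.trans Be)).equivFun v = _
      rw [Module.Basis.equivFun_ofEquivFun]
      rfl
    have h2 : Be (b.equivFun v) = (B : Matrix (Fin n) (Fin n) K) *ᵥ (b.equivFun v) :=
      Matrix.toLin'_apply (B : Matrix (Fin n) (Fin n) K) (b.equivFun v)
    exact h1.trans h2
  refine ⟨F, σ.range, e.symm, b', hC, hS, fun x v => ?_⟩
  obtain ⟨l, rfl⟩ := e.surjective x
  have h1 : ((e l : σ.range) : GL (Fin n) F) = σ l := rfl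
  rw [e.symm_apply_apply, h1, hB, hb', hb', ← rho_mulVec H b l v, Units.val_mul, Units.val_mul,
    Matrix.mulVec_mulVec, Matrix.mulVec_mulVec]
  congr 1
  rw [Matrix.mul_assoc, Matrix.mul_assoc, ← Units.val_mul B⁻¹ B, inv_mul_cancel, Units.val_one, Matrix.mul_one]

end core

end Cfsg.Agent.H662.HT
end

-- part: H662/HT/Two
section
set_option linter.all false

/-!
# Half-transitive linear groups, soluble part: definitions (S3577; helper662)

`KS G A K χ σ`: the normal abelian subgroup `A` of `G` acts on `V` by scalars of the field `K` generated by it, `G`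
acts semilinearly.
`ETwo G A F`: `A` maximal abelian normal, `F / A` of order 4, `C_G(F) ≤ A`.
-/

set_option autoImplicit false

open scoped commutatorElement

namespace Cfsg.Agent.H662.HT

open Cfsg.Agent.H828.HT

universe u

variable {p : ℕ} [Fact p.Prime] {V : Type u} [AddCommGroup V] [Module (ZMod p) V]

/-- field structure given by a normal abelian subgroup -/
structure KS (G A : Subgroup (V ≃ₗ[ZMod p] V)) (K : Type u) [Field K] [Module K V] (χ : A →* Kˣ)
    (σ : G →* (K ≃+* K)) : Prop where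
  fin : Finite K
  inj : Function.Injective χ
  act : ∀ (a : A) (v : V), (a : V ≃ₗ[ZMod p] V) v = (χ a : K) • v
  semi : ∀ (g : G) (k : K) (v : V), (g : V ≃ₗ[ZMod p] V) (k • v) = (σ g k) • ((g : V ≃ₗ[ZMod p] V) v)
  cen : ∀ g : G, σ g = 1 ↔ ∀ x ∈ A, (g : V ≃ₗ[ZMod p] V) * x = x * g
  gen : ∀ K' : Subfield K, (∀ a : A, (χ a : K) ∈ K') → K' = ⊤

/-- the case `e = 2` -/
structure ETwo (G A F : Subgroup (V ≃ₗ[ZMod p] V)) : Prop where
  AF : A ≤ F
  FG : F ≤ G
  nA : ∀ g ∈ G, ∀ a ∈ A, g * a * g⁻¹ ∈ A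
  nF : ∀ g ∈ G, ∀ x ∈ F, g * x * g⁻¹ ∈ F
  cyc : IsCyclic A
  semi : ∀ a ∈ A, a ≠ 1 → ∀ v : V, a v = v → v = 0
  cenA : ∀ a ∈ A, ∀ x ∈ F, a * x = x * a
  card : Nat.card F = 4 * Nat.card A
  comm : ∀ x ∈ F, ∀ y ∈ F, x * y * x⁻¹ * y⁻¹ ∈ A
  sq : ∀ x ∈ F, x * x ∈ A
  cen : ∀ g ∈ G, (∀ x ∈ F, g * x = x * g) → g ∈ A
  fpf : ∀ x ∈ F, (∀ g ∈ G, g * x * g⁻¹ * x⁻¹ ∈ A) → x ∈ A

end Cfsg.Agent.H662.HT
end

-- part: H768/HT/Field
section
set_option linter.all false
open scoped Cfsg.Agent.FastGrp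

/-!
# The field generated by a normal abelian homogeneous subgroup (helper768)

`exists_field` : `G` an irreducible linear group over `ZMod p`, `A` a normal abelian subgroup, `V|_A` homogeneous: the
enveloping algebra `K` of `A` is a field, `G` acts `K`-semilinearly.
-/

set_option autoImplicit false

open scoped commutatorElement

namespace Cfsg.Agent.H768.HT

open Cfsg.Agent.H828.HT
open Cfsg.Agent.H960.HT (Irr Homog NIrr Sys env exists_nirr sSup_nirr unitOf nrm_of)
open Cfsg.Agent.H662.HT (KS)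

universe u

variable {p : ℕ} [Fact p.Prime] {V : Type u} [AddCommGroup V] [Module (ZMod p) V]

section basic

variable {A : Subgroup (V ≃ₗ[ZMod p] V)}

theorem mem_env {a : V ≃ₗ[ZMod p] V} (ha : a ∈ A) : (a : V →ₗ[ZMod p] V) ∈ env A :=
  Algebra.subset_adjoin ⟨a, ha, rfl⟩

theorem env_inv {M : Submodule (ZMod p) V} (hM : ∀ n ∈ A, ∀ v ∈ M, n v ∈ M) {e : Module.End (ZMod p) V} (he : e ∈ env A) :
    ∀ v ∈ M, e v ∈ M := by
  refine Algebra.adjoin_induction (p := fun a _ => ∀ v ∈ M, a v ∈ M) ?_ ?_ ?_ ?_ he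
  · rintro _ ⟨n, hn, rfl⟩ v hv
    exact hM n hn v hv
  · intro r v hv
    exact M.smul_mem r hv
  · intro x y _ _ hx hy v hv
    exact M.add_mem (hx v hv) (hy v hv)
  · intro x y _ _ hx hy v hv
    exact hx _ (hy v hv)

/-- an isomorphism of `A`-submodules commutes with the enveloping algebra -/
theorem env_comm {M M' : Submodule (ZMod p) V} (hM : ∀ n ∈ A, ∀ v ∈ M, n v ∈ M) (φ : M ≃ₗ[ZMod p] M')
    (hφ : ∀ n ∈ A, ∀ v w : M, (w : V) = n v → (φ w : V) = n (φ v)) {e : Module.End (ZMod p) V} (he : e ∈ env A) :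
    ∀ v w : M, (w : V) = e v → (φ w : V) = e (φ v) := by
  refine Algebra.adjoin_induction (p := fun a _ => ∀ v w : M, (w : V) = a v → (φ w : V) = a (φ v)) ?_ ?_ ?_ ?_ he
  · rintro _ ⟨n, hn, rfl⟩ v w h
    exact hφ n hn v w h
  · intro r v w h
    have h1 : w = r • v := Subtype.ext h
    rw [h1, map_smul]
    rfl
  · intro x y hx' hy' hx hy v w h
    have h1 : w = ⟨x v, env_inv hM hx' v v.2⟩ + ⟨y v, env_inv hM hy' v v.2⟩ := Subtype.ext h
    rw [h1, map_add]
    show (φ ⟨x v, _⟩ : V) + (φ ⟨y v, _⟩ : V) = x (φ v) + y (φ v)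
    rw [hx v ⟨x v, env_inv hM hx' v v.2⟩ rfl, hy v ⟨y v, env_inv hM hy' v v.2⟩ rfl]
  · intro x y hx' hy' hx hy v w h
    rw [hx ⟨y v, env_inv hM hy' v v.2⟩ w h, hy v ⟨y v, env_inv hM hy' v v.2⟩ rfl]
    rfl

theorem comm_env (hAc : ∀ a ∈ A, ∀ b ∈ A, a * b = b * a) {a : V ≃ₗ[ZMod p] V} (ha : a ∈ A)
    {e : Module.End (ZMod p) V} (he : e ∈ env A) (v : V) : a (e v) = e (a v) := by
  have : ∀ v, a (e v) = e (a v) := by
    refine Algebra.adjoin_induction (p := fun e _ => ∀ v, a (e v) = e (a v)) ?_ ?_ ?_ ?_ he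
    · rintro _ ⟨n, hn, rfl⟩ v
      exact LinearEquiv.congr_fun (hAc a ha n hn) v
    · intro r v
      exact map_smul a r v
    · intro x y _ _ hx hy v
      show a (x v + y v) = x (a v) + y (a v)
      rw [map_add, hx, hy]
    · intro x y _ _ hx hy v
      show a (x (y v)) = x (y (a v))
      rw [hx, hy]
  exact this v

theorem env_mul_comm (hAc : ∀ a ∈ A, ∀ b ∈ A, a * b = b * a) {x y : Module.End (ZMod p) V} (hx : x ∈ env A)
    (hy : y ∈ env A) : x * y = y * x := by
  refine Algebra.adjoin_induction (p := fun e _ => e * y = y * e) ?_ ?_ ?_ ?_ hx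
  · rintro _ ⟨n, hn, rfl⟩
    apply LinearMap.ext
    intro v
    exact comm_env hAc hn hy v
  · intro r
    exact Algebra.commutes r y
  · intro a b _ _ ha hb
    rw [add_mul, mul_add, ha, hb]
  · intro a b _ _ ha hb
    rw [mul_assoc, hb, ← mul_assoc, ha, mul_assoc]

end basic

variable [Finite V]

instance finEnd : Finite (Module.End (ZMod p) V) := DFunLike.finite _

theorem ker_eq_bot [Nontrivial V] {G A : Subgroup (V ≃ₗ[ZMod p] V)} (hirr : Irr G)
    (hA : ∀ g ∈ G, ∀ a ∈ A, g * a * g⁻¹ ∈ A) (hAc : ∀ a ∈ A, ∀ b ∈ A, a * b = b * a) (hhom : Homog A)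
    {e : Module.End (ZMod p) V} (he : e ∈ env A) (h0 : e ≠ 0) : LinearMap.ker e = ⊥ := by
  by_contra hne
  obtain ⟨M, hMe, hM⟩ := exists_nirr A hne (by
    intro n hn v hv
    rw [LinearMap.mem_ker] at hv ⊢
    rw [← comm_env hAc hn he, hv, map_zero])
  apply h0
  have h2 : (⊤ : Submodule (ZMod p) V) ≤ LinearMap.ker e := by
    rw [← sSup_nirr hirr hA]
    refine sSup_le fun M' hM' v hv => ?_
    obtain ⟨φ, hφ⟩ := hhom M M' hM hM'
    have h3 := env_comm hM.inv φ hφ he (φ.symm ⟨v, hv⟩) 0 (by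
      have h4 := hMe (φ.symm ⟨v, hv⟩).2
      rw [LinearMap.mem_ker] at h4
      rw [h4]; rfl)
    rw [φ.apply_symm_apply, map_zero] at h3
    rw [LinearMap.mem_ker]
    exact h3.symm
  apply LinearMap.ext
  intro v
  exact h2 (Submodule.mem_top (x := v))

/-- the commutative ring -/
@[reducible] def cr {A : Subgroup (V ≃ₗ[ZMod p] V)} (hAc : ∀ a ∈ A, ∀ b ∈ A, a * b = b * a) : CommRing (env A) :=
  { (inferInstance : Ring (env A)) with
    mul_comm := fun x y => Subtype.ext (env_mul_comm hAc x.2 y.2) }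

/-- P1 -/
theorem exists_field [Nontrivial V] {G A : Subgroup (V ≃ₗ[ZMod p] V)} (hirr : Irr G) (hAG : A ≤ G)
    (hA : ∀ g ∈ G, ∀ a ∈ A, g * a * g⁻¹ ∈ A) (hAc : ∀ a ∈ A, ∀ b ∈ A, a * b = b * a) (hhom : Homog A) :
    ∃ (K : Type u) (_ : Field K) (_ : Module K V) (χ : A →* Kˣ) (σ : G →* (K ≃+* K)), KS G A K χ σ := by
  classical
  let R : CommRing (env A) := cr hAc
  have hfin : Finite (env A) := inferInstance
  have hnt : Nontrivial (env A) := by
    refine ⟨⟨0, 1, fun h => ?_⟩⟩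
    obtain ⟨v, hv⟩ := exists_ne (0 : V)
    apply hv
    have h1 := LinearMap.congr_fun (congrArg Subtype.val h) v
    exact h1.symm
  have hnz : NoZeroDivisors (env A) := by
    refine ⟨fun {x y} hxy => ?_⟩
    by_contra hcon
    push Not at hcon
    obtain ⟨hx, hy⟩ := hcon
    have hx' : (x : Module.End (ZMod p) V) ≠ 0 := fun h => hx (Subtype.ext h)
    apply hy
    apply Subtype.ext
    apply LinearMap.ext
    intro v
    have h1 : (x : Module.End (ZMod p) V) ((y : Module.End (ZMod p) V) v) = 0 :=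
      LinearMap.congr_fun (congrArg Subtype.val hxy) v
    have h2 : (y : Module.End (ZMod p) V) v ∈ LinearMap.ker (x : Module.End (ZMod p) V) := h1
    rw [ker_eq_bot hirr hA hAc hhom x.2 hx', Submodule.mem_bot] at h2
    exact h2
  have hdom : IsDomain (env A) := NoZeroDivisors.to_isDomain _
  have hF : IsField (env A) := Finite.isField_of_domain _
  let F : Field (env A) := hF.toField
  let M : Module (env A) V :=
    { smul := fun x v => (x : Module.End (ZMod p) V) v
      one_smul := fun v => rfl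
      mul_smul := fun x y v => rfl
      smul_zero := fun x => map_zero (x : Module.End (ZMod p) V)
      smul_add := fun x v w => map_add (x : Module.End (ZMod p) V) v w
      add_smul := fun x y v => rfl
      zero_smul := fun v => rfl }
  have hsm : ∀ (x : env A) (v : V), x • v = (x : Module.End (ZMod p) V) v := fun _ _ => rfl
  -- the character
  let χ : A →* (env A)ˣ :=
    { toFun := fun a => ⟨⟨_, mem_env a.2⟩, ⟨_, mem_env (a⁻¹).2⟩, Subtype.ext (LinearMap.ext fun v => by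
          show (a * a⁻¹ : A).1 v = v
          rw [mul_inv_cancel]; rfl), Subtype.ext (LinearMap.ext fun v => by
          show (a⁻¹ * a : A).1 v = v
          rw [inv_mul_cancel]; rfl)⟩
      map_one' := Units.ext (Subtype.ext rfl)
      map_mul' := fun a b => Units.ext (Subtype.ext rfl) }
  have hχ : ∀ a : A, ((χ a : env A) : Module.End (ZMod p) V) = ((a : V ≃ₗ[ZMod p] V) : V →ₗ[ZMod p] V) := fun _ => rfl
  -- the conjugation
  have hcj : ∀ g ∈ G, ∀ x ∈ env A, (unitOf g : Module.End (ZMod p) V) * x *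
      (((unitOf g)⁻¹ : (Module.End (ZMod p) V)ˣ) : Module.End (ZMod p) V) ∈ env A := fun g hg =>
    (nrm_of (hA g hg) (fun n hn => by
      have := hA g⁻¹ (G.inv_mem hg) n hn
      rwa [inv_inv] at this)).1
  let σ0 : G → (env A → env A) := fun g x => ⟨_, hcj g g.2 x x.2⟩
  have hσ0 : ∀ (g : G) (x : env A) (v : V), ((σ0 g x : env A) : Module.End (ZMod p) V) v =
      (g : V ≃ₗ[ZMod p] V) ((x : Module.End (ZMod p) V) (((g⁻¹ : G) : V ≃ₗ[ZMod p] V) v)) := fun _ _ _ => rfl
  have hgg : ∀ (g h : G) (v : V), (g : V ≃ₗ[ZMod p] V) ((h : V ≃ₗ[ZMod p] V) v) = ((g * h : G) : V ≃ₗ[ZMod p] V) v :=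
    fun _ _ _ => rfl
  have hext : ∀ {x y : env A}, (∀ v, (x : Module.End (ZMod p) V) v = (y : Module.End (ZMod p) V) v) → x = y :=
    fun h => Subtype.ext (LinearMap.ext h)
  have h1 : ∀ (g h : G) (x : env A), σ0 g (σ0 h x) = σ0 (g * h) x := by
    intro g h x
    apply hext
    intro v
    rw [hσ0, hσ0, hσ0, hgg, hgg, mul_inv_rev]
  have h2 : ∀ x : env A, σ0 1 x = x := by
    intro x
    apply hext
    intro v
    rw [hσ0, inv_one]
    rfl
  let σ : G →* (env A ≃+* env A) := MonoidHom.mk' (fun g =>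
    { toFun := σ0 g
      invFun := σ0 g⁻¹
      left_inv := fun x => by rw [h1, inv_mul_cancel, h2]
      right_inv := fun x => by rw [h1, mul_inv_cancel, h2]
      map_mul' := fun x y => by
        apply hext
        intro v
        show (g : V ≃ₗ[ZMod p] V) ((x : Module.End (ZMod p) V) ((y : Module.End (ZMod p) V)
          (((g⁻¹ : G) : V ≃ₗ[ZMod p] V) v))) = (g : V ≃ₗ[ZMod p] V) ((x : Module.End (ZMod p) V)
          (((g⁻¹ : G) : V ≃ₗ[ZMod p] V) ((g : V ≃ₗ[ZMod p] V) ((y : Module.End (ZMod p) V)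
          (((g⁻¹ : G) : V ≃ₗ[ZMod p] V) v)))))
        rw [hgg g⁻¹ g, inv_mul_cancel]
        rfl
      map_add' := fun x y => by
        apply hext
        intro v
        show (g : V ≃ₗ[ZMod p] V) ((x : Module.End (ZMod p) V) (((g⁻¹ : G) : V ≃ₗ[ZMod p] V) v) +
          (y : Module.End (ZMod p) V) (((g⁻¹ : G) : V ≃ₗ[ZMod p] V) v)) = _
        rw [map_add]
        rfl }) (by
    intro g h
    apply RingEquiv.ext
    intro x
    exact (h1 g h x).symm)
  have hσ : ∀ (g : G) (x : env A), σ g x = σ0 g x := fun _ _ => rfl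
  refine ⟨env A, F, M, χ, σ, ⟨hfin, ?_, fun a v => rfl, ?_, ?_, ?_⟩⟩
  · intro a b hab
    apply Subtype.ext
    apply LinearEquiv.ext
    intro v
    have h3 := congrArg (fun x : (env A)ˣ => ((x : env A) : Module.End (ZMod p) V) v) hab
    exact h3
  · intro g k v
    show (g : V ≃ₗ[ZMod p] V) ((k : Module.End (ZMod p) V) v) = (g : V ≃ₗ[ZMod p] V) ((k : Module.End (ZMod p) V)
      (((g⁻¹ : G) : V ≃ₗ[ZMod p] V) ((g : V ≃ₗ[ZMod p] V) v)))
    rw [hgg g⁻¹ g, inv_mul_cancel]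
    rfl
  · intro g
    constructor
    · intro h x hx
      apply LinearEquiv.ext
      intro v
      have h3 : σ0 g ⟨_, mem_env hx⟩ = ⟨_, mem_env hx⟩ := by rw [← hσ, h]; rfl
      have h4 := LinearMap.congr_fun (congrArg Subtype.val h3) ((g : V ≃ₗ[ZMod p] V) v)
      rw [hσ0, hgg g⁻¹ g, inv_mul_cancel] at h4
      exact h4
    · intro h
      apply RingEquiv.ext
      intro x
      apply hext
      intro v
      show ((σ0 g x : env A) : Module.End (ZMod p) V) v = (x : Module.End (ZMod p) V) v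
      rw [hσ0]
      have h3 : ∀ w, (g : V ≃ₗ[ZMod p] V) ((x : Module.End (ZMod p) V) w) = (x : Module.End (ZMod p) V)
          ((g : V ≃ₗ[ZMod p] V) w) := by
        refine Algebra.adjoin_induction (p := fun e _ => ∀ w, (g : V ≃ₗ[ZMod p] V) (e w) = e ((g : V ≃ₗ[ZMod p] V) w))
          ?_ ?_ ?_ ?_ x.2
        · rintro _ ⟨n, hn, rfl⟩ w
          exact LinearEquiv.congr_fun (h n hn) w
        · intro r w
          exact map_smul (g : V ≃ₗ[ZMod p] V) r w
        · intro x y _ _ hx hy w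
          show (g : V ≃ₗ[ZMod p] V) (x w + y w) = x _ + y _
          rw [map_add, hx, hy]
        · intro x y _ _ hx hy w
          show (g : V ≃ₗ[ZMod p] V) (x (y w)) = x (y _)
          rw [hx, hy]
      rw [h3, hgg g g⁻¹, mul_inv_cancel]
      rfl
  · intro K' hK'
    rw [eq_top_iff]
    rintro ⟨x, hx⟩ -
    refine Algebra.adjoin_induction (p := fun e he => (⟨e, he⟩ : env A) ∈ K') ?_ ?_ ?_ ?_ hx
    · rintro _ ⟨n, hn, rfl⟩
      exact hK' ⟨n, hn⟩
    · intro r
      have h3 : (⟨algebraMap (ZMod p) (Module.End (ZMod p) V) r, (env A).algebraMap_mem r⟩ : env A) =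
          ((r.val : ℕ) : env A) := by
        apply hext
        intro v
        have h4 : ∀ (n : ℕ) (v : V), (((n : ℕ) : env A) : Module.End (ZMod p) V) v = n • v := by
          intro n
          induction n with
          | zero =>
            intro v
            rw [Nat.cast_zero, zero_smul]
            rfl
          | succ n ih =>
            intro v
            rw [Nat.cast_succ, add_smul, one_smul, ← ih]
            rfl
        rw [h4]
        show (algebraMap (ZMod p) (Module.End (ZMod p) V) r) v = r.val • v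
        rw [Module.algebraMap_end_apply, ← Nat.cast_smul_eq_nsmul (ZMod p), ZMod.natCast_zmod_val]
      rw [h3]
      exact natCast_mem K' _
    · intro x y hx hy hx' hy'
      exact K'.add_mem hx' hy'
    · intro x y hx hy hx' hy'
      exact K'.mul_mem hx' hy' 

end Cfsg.Agent.H768.HT
end

-- part: H192/Ht/Leaves
section
prune_inst 0x20604400400000000005022000000410000190004004000c230500010292608d00280048800c1348208100000000000010001000000000002004000001002080a2560433500d0c640097000082000000000000000000000000000000041000000000000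
set_option linter.all false
open scoped Cfsg.Agent.FastGrp

-- part: H960/HT/TwoT
section
/-! Two blocks: the block stabiliser is transitive on the block, `|G| = 4 (|U| - 1)`. No insolubility. -/

set_option autoImplicit false
set_option linter.unusedSectionVars false

namespace Cfsg.Agent.H960.HT

open MulAction Cfsg.Agent.H828.HT

universe u

namespace TwoBlk

variable {V : Type*} [AddCommGroup V] {G : Type*} [Group G] [DistribMulAction G V] [FaithfulSMul G V]
  [Finite V] [Finite G] {U W : AddSubgroup V} {h : ℕ}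

theorem mem_fix_or (H : TwoBlk G U W h) {u : V} (hu : u ∈ U) (hu0 : u ≠ 0) {t : G} (ht1 : t ≠ 1)
    (htu : t • u = u) {w : V} (hw : w ∈ W) (_hw0 : w ≠ 0) : t • w = w ∨ ∃ g : G, g • u = w := by
  have hv : u + w ≠ 0 := by
    intro h
    have : u ∈ W := by
      rw [eq_neg_of_add_eq_zero_left h]
      exact W.neg_mem hw
    exact hu0 (H.disj hu this)
  obtain ⟨s, hs1, hss, hsv, -⟩ := H.exists_t hv
  rcases H.perm' s with hsA | hsw
  · left
    have h3 : s • u - u ∈ U := U.sub_mem ((hsA.1 u).2 hu) hu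
    have h4 : s • u - u = w - s • w := by
      rw [smul_add] at hsv
      rw [sub_eq_sub_iff_add_eq_add, hsv, add_comm]
    have h5 : s • u - u ∈ W := by rw [h4]; exact W.sub_mem hw ((hsA.2 w).2 hw)
    have h6 := H.disj h3 h5
    have h7 : s • u = u := sub_eq_zero.1 h6
    rw [h6] at h4
    have h8 : s • w = w := (sub_eq_zero.1 h4.symm).symm
    have h9 := H.uniq_t hu0 h7 htu hs1 ht1
    rw [← h9]; exact h8
  · right
    refine ⟨s, ?_⟩
    have h3 : s • u - w ∈ W := W.sub_mem (hsw.1 u hu) hw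
    have h4 : s • u - w = u - s • w := by
      rw [smul_add] at hsv
      rw [sub_eq_sub_iff_add_eq_add, hsv, add_comm]
    have h5 : s • u - w ∈ U := by rw [h4]; exact U.sub_mem hu (hsw.2 w hw)
    exact sub_eq_zero.1 (H.disj h5 h3)

theorem orbit_W (H : TwoBlk G U W h) {u : V} (hu : u ∈ U) (hu0 : u ≠ 0) {w : V} (hw : w ∈ W) (hw0 : w ≠ 0) :
    ∃ g : G, g • u = w := by
  by_contra hcon
  obtain ⟨t, ht1, -, htu, -⟩ := H.exists_t hu0
  let X : AddSubgroup V := AddSubgroup.closure {x | ∃ a ∈ bst G U W, a • w = x}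
  have hX1 : ∀ x ∈ X, t • x = x ∧ x ∈ W := by
    intro x hx
    have : X ≤ Fx V t ⊓ W := by
      rw [AddSubgroup.closure_le]
      rintro _ ⟨a, ha, rfl⟩
      refine ⟨?_, (ha.2 w).2 hw⟩
      have hne : a • w ≠ 0 := by rwa [Ne, smul_eq_zero_iff_eq]
      rcases H.mem_fix_or hu hu0 ht1 htu ((ha.2 w).2 hw) hne with h1 | ⟨g, hg⟩
      · exact h1
      · exfalso
        exact hcon ⟨a⁻¹ * g, by rw [mul_smul, hg, inv_smul_smul]⟩
    exact this hx
  rcases H.symm.irrU X (fun x hx => (hX1 x hx).2) (by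
    intro a ha x hx
    rw [bst_symm] at ha
    refine AddSubgroup.closure_induction (p := fun x _ => a • x ∈ X) ?_ ?_ ?_ ?_ hx
    · rintro _ ⟨b, hb, rfl⟩
      exact AddSubgroup.subset_closure ⟨a * b, (bst G U W).mul_mem ha hb, mul_smul a b w⟩
    · rw [smul_zero]; exact X.zero_mem
    · intro x y _ _ hx hy
      rw [smul_add]; exact X.add_mem hx hy
    · intro x _ hx
      rw [smul_neg]; exact X.neg_mem hx) with hb | ht
  · have : w ∈ X := AddSubgroup.subset_closure ⟨1, (bst G U W).one_mem, one_smul _ w⟩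
    rw [hb] at this
    exact hw0 this
  · apply hu0
    refine H.symm.kern_fpf (z := t) ?_ ht1 hu htu
    intro x hx
    rw [← ht] at hx
    exact (hX1 x hx).1

/-- the block stabiliser is transitive on the non-zero vectors of a block -/
theorem trans (H : TwoBlk G U W h) {u u' : V} (hu : u ∈ U) (hu' : u' ∈ U) (hu0 : u ≠ 0) (hu0' : u' ≠ 0) :
    ∃ a ∈ bst G U W, a • u = u' := by
  obtain ⟨s, hs⟩ := H.swap
  have hsn : s ∉ bst G U W := (H.not_mem_iff s).2 hs
  obtain ⟨g, hg⟩ := H.orbit_W hu hu0 (hs.1 u' hu') (by rwa [Ne, smul_eq_zero_iff_eq])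
  refine ⟨s⁻¹ * g, ?_, by rw [mul_smul, hg, inv_smul_smul]⟩
  rcases H.perm' (s⁻¹ * g) with h1 | h1
  · exact h1
  · exfalso
    have h2 := h1.1 u hu
    rw [mul_smul, hg, inv_smul_smul] at h2
    exact hu0' (H.disj hu' h2)

theorem card_bst (H : TwoBlk G U W h) : Nat.card (bst G U W) + 2 = 2 * Nat.card U := by
  obtain ⟨u, hu, hu0⟩ := H.exU
  have e : orbit (bst G U W) u = {x | x ∈ U ∧ x ≠ 0} := by
    refine subset_antisymm (H.orbit_sub hu hu0) ?_
    rintro x ⟨hx, hx0⟩
    obtain ⟨a, ha, rfl⟩ := H.trans hu hx hu0 hx0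
    exact ⟨⟨a, ha⟩, rfl⟩
  have h3 := H.card_orbit hu hu0
  have h4 := card_nz (U := U)
  rw [← h3, e, ← h4]
  ring

theorem index_bst (H : TwoBlk G U W h) : (bst G U W).index = 2 := by
  rw [Subgroup.index_eq_two_iff]
  obtain ⟨s, hs⟩ := H.swap
  refine ⟨s, fun b => ?_⟩
  have hsn : s ∉ bst G U W := (H.not_mem_iff s).2 hs
  by_cases hb : b ∈ bst G U W
  · right
    refine ⟨hb, fun h => hsn ?_⟩
    simpa using (bst G U W).mul_mem ((bst G U W).inv_mem hb) h
  · left
    exact ⟨H.mul_mem hb hsn, hb⟩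

theorem card_G (H : TwoBlk G U W h) : Nat.card G + 4 = 4 * Nat.card U := by
  have h1 := Subgroup.card_mul_index (bst G U W)
  rw [H.index_bst] at h1
  have h2 := H.card_bst
  omega

end TwoBlk

section sys

variable {p : ℕ} [Fact p.Prime] {V : Type u} [AddCommGroup V] [Module (ZMod p) V] [Finite V]
  {G : Subgroup (V ≃ₗ[ZMod p] V)} {B : Set (Submodule (ZMod p) V)} {h : ℕ}

theorem twoBlk_of (hp2 : p ≠ 2) (hh : Half G h) (h2 : 2 ≤ h) (hirr : Irr G)
    {U W : Submodule (ZMod p) V} (hc : IsCompl U W) (hU : U ≠ ⊥) (hW : W ≠ ⊥)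
    (hperm : ∀ g ∈ G, ((∀ u ∈ U, g u ∈ U) ∧ (∀ w ∈ W, g w ∈ W)) ∨
      ((∀ u ∈ U, g u ∈ W) ∧ (∀ w ∈ W, g w ∈ U)))
    (hswap : ∃ g ∈ G, (∀ u ∈ U, g u ∈ W) ∧ (∀ w ∈ W, g w ∈ U)) :
    TwoBlk G U.toAddSubgroup W.toAddSubgroup h :=
  { odd := by
      rw [card_eq_pow (p := p)]
      exact ((Fact.out : p.Prime).odd_of_ne_two hp2).pow
    half := hh
    h2 := h2
    compl := by
      refine ⟨?_, ?_⟩
      · rw [AddSubgroup.disjoint_def]
        intro x hx hx'
        exact (Submodule.disjoint_def.1 hc.disjoint) x hx hx'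
      · rw [codisjoint_iff, eq_top_iff]
        intro x _
        have : x ∈ U ⊔ W := by rw [hc.sup_eq_top]; trivial
        obtain ⟨u, hu, w, hw, rfl⟩ := Submodule.mem_sup.1 this
        exact AddSubgroup.mem_sup.2 ⟨u, hu, w, hw, rfl⟩
    nbU := by
      intro h
      apply hU
      rw [eq_bot_iff]
      intro x hx
      have : x ∈ U.toAddSubgroup := hx
      rw [h] at this
      exact this
    nbW := by
      intro h
      apply hW
      rw [eq_bot_iff]
      intro x hx
      have : x ∈ W.toAddSubgroup := hx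
      rw [h] at this
      exact this
    perm := fun g => hperm g.1 g.2
    swap := by
      obtain ⟨g, hg, h⟩ := hswap
      exact ⟨⟨g, hg⟩, h⟩
    irr := by
      intro X hX
      rcases hirr (AddSubgroup.toZModSubmodule p X) (fun g hg v hv => hX ⟨g, hg⟩ v hv) with h | h
      · left
        rw [eq_bot_iff]
        intro x hx
        have : x ∈ AddSubgroup.toZModSubmodule p X := hx
        rw [h] at this
        exact this
      · right
        rw [eq_top_iff]
        intro x _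
        have : x ∈ AddSubgroup.toZModSubmodule p X := by rw [h]; trivial
        exact this }

theorem Sys.twoBlk {U W : Submodule (ZMod p) V} (H : Sys G {U, W}) (hUW : U ≠ W) (hp2 : p ≠ 2) (hh : Half G h)
    (h2 : 2 ≤ h) (hirr : Irr G) : TwoBlk G U.toAddSubgroup W.toAddSubgroup h ∧ IsCompl U W := by
  have hUB : U ∈ ({U, W} : Set (Submodule (ZMod p) V)) := Or.inl rfl
  have hWB : W ∈ ({U, W} : Set (Submodule (ZMod p) V)) := Or.inr rfl
  have hcompl : IsCompl U W := by
    refine ⟨H.ind.pairwiseDisjoint hUB hWB hUW, ?_⟩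
    rw [codisjoint_iff]
    have := H.iSup_top hirr subset_rfl H.nt.nonempty H.perm
    rwa [sSup_pair] at this
  refine ⟨twoBlk_of hp2 hh h2 hirr hcompl (H.ne U hUB) (H.ne W hWB) ?_ ?_, hcompl⟩
  · intro g hg
    have hinj : Function.Injective (Submodule.map (g : V →ₗ[ZMod p] V)) := Submodule.map_injective_of_injective g.injective
    rcases H.perm g hg U hUB with h | h
    · left
      have h' : W.map (g : V →ₗ[ZMod p] V) = W := by
        rcases H.perm g hg W hWB with h'' | h''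
        · exact absurd (hinj (h.trans h''.symm)) hUW
        · exact h''
      refine ⟨fun u hu => ?_, fun w hw => ?_⟩
      · rw [← h]; exact ⟨u, hu, rfl⟩
      · rw [← h']; exact ⟨w, hw, rfl⟩
    · right
      have hh' : U.map (g : V →ₗ[ZMod p] V) = W := h
      have h' : W.map (g : V →ₗ[ZMod p] V) = U := by
        rcases H.perm g hg W hWB with h'' | h''
        · exact h''
        · exact absurd (hinj (hh'.trans (show W.map (g : V →ₗ[ZMod p] V) = W from h'').symm)) hUW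
      refine ⟨fun u hu => ?_, fun w hw => ?_⟩
      · rw [← hh']; exact ⟨u, hu, rfl⟩
      · rw [← h']; exact ⟨w, hw, rfl⟩
  · obtain ⟨g, hg, hgU⟩ := H.trans hirr hUB hWB
    have hinj : Function.Injective (Submodule.map (g : V →ₗ[ZMod p] V)) := Submodule.map_injective_of_injective g.injective
    have h' : W.map (g : V →ₗ[ZMod p] V) = U := by
      rcases H.perm g hg W hWB with h'' | h''
      · exact h''
      · exact absurd (hinj (hgU.trans (show W.map (g : V →ₗ[ZMod p] V) = W from h'').symm)) hUW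
    refine ⟨g, hg, fun u hu => ?_, fun w hw => ?_⟩
    · rw [← hgU]; exact ⟨u, hu, rfl⟩
    · rw [← h']; exact ⟨w, hw, rfl⟩

/-- two blocks: `h = 2`, `|V| = r²`, `|G| = 4 (r - 1)` -/
theorem Sys.two (H : Sys G B) (hB : B.ncard = 2) (hp2 : p ≠ 2) (hh : Half G h) (h2 : 2 ≤ h) (hirr : Irr G) :
    h = 2 ∧ ∃ r, Nat.card V = r ^ 2 ∧ Nat.card G = 4 * (r - 1) ∧ 3 ≤ r := by
  obtain ⟨U, W, hUW, rfl⟩ := Set.ncard_eq_two.1 hB
  obtain ⟨T, hc⟩ := H.twoBlk hUW hp2 hh h2 hirr
  refine ⟨T.h_eq, Nat.card U.toAddSubgroup, ?_, ?_, ?_⟩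
  · have e := Nat.card_congr (Submodule.prodEquivOfIsCompl U W hc).toEquiv
    rw [Nat.card_prod] at e
    have h1 := T.card_eq
    have h2 : Nat.card U = Nat.card W := h1
    have h3 : Nat.card U.toAddSubgroup = Nat.card U := rfl
    rw [h3, ← e, ← h2, sq]
  · have := T.card_G
    omega
  · have h1 : 1 < Nat.card U.toAddSubgroup := by
      obtain ⟨u, hu, hu0⟩ := T.exU
      have : Nontrivial U.toAddSubgroup := ⟨⟨⟨u, hu⟩, 0, fun h => hu0 (congrArg Subtype.val h)⟩⟩
      exact Finite.one_lt_card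
    have h2 := odd_sub T.odd U.toAddSubgroup
    rcases h2 with ⟨k, hk⟩
    omega

end sys

end Cfsg.Agent.H960.HT
end

-- part: H960/HT/Three
section
/-! Three one-dimensional blocks, and the summary for imprimitive coprime half-transitive groups. -/

set_option autoImplicit false
set_option linter.unusedSectionVars false

namespace Cfsg.Agent.H960.HT

open MulAction Cfsg.Agent.H828.HT

universe u

variable {p : ℕ} [Fact p.Prime] {V : Type u} [AddCommGroup V] [Module (ZMod p) V] [Finite V]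
  {G : Subgroup (V ≃ₗ[ZMod p] V)} {B : Set (Submodule (ZMod p) V)} {h : ℕ}

/-- two blocks of a system meet trivially -/
theorem Sys.disj (H : Sys G B) {X Y : Submodule (ZMod p) V} (hX : X ∈ B) (hY : Y ∈ B) (hne : X ≠ Y) {v : V}
    (h1 : v ∈ X) (h2 : v ∈ Y) : v = 0 :=
  (Submodule.disjoint_def.1 (H.ind.pairwiseDisjoint hX hY hne)) v h1 h2

/-- the stabiliser of a vector of a block stabilises the block -/
theorem Sys.map_eq (H : Sys G B) {X : Submodule (ZMod p) V} (hX : X ∈ B) {v : V} (hv : v ∈ X) (hv0 : v ≠ 0)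
    {g : V ≃ₗ[ZMod p] V} (hg : g ∈ G) (hgv : g v = v) : X.map (g : V →ₗ[ZMod p] V) = X := by
  by_contra hne
  have h1 : v ∈ X.map (g : V →ₗ[ZMod p] V) := ⟨v, hv, hgv⟩
  exact hv0 (H.disj (H.perm g hg X hX) hX hne h1 hv)

section tri

variable {S T R : Submodule (ZMod p) V}

theorem Sys.sum3 (H : Sys G {S, T, R}) (hST : S ≠ T) (hSR : S ≠ R) (hTR : T ≠ R) {s t r : V} (hs : s ∈ S)
    (ht : t ∈ T) (hr : r ∈ R) (h0 : s + t + r = 0) : s = 0 ∧ t = 0 ∧ r = 0 := by
  have hS : S ∈ ({S, T, R} : Set (Submodule (ZMod p) V)) := Or.inl rfl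
  have hT : T ∈ ({S, T, R} : Set (Submodule (ZMod p) V)) := Or.inr (Or.inl rfl)
  have hR : R ∈ ({S, T, R} : Set (Submodule (ZMod p) V)) := Or.inr (Or.inr rfl)
  have d1 := H.ind hS
  have hsup : T ⊔ R ≤ sSup ({S, T, R} \ {S}) := by
    apply sup_le
    · exact le_sSup ⟨hT, fun h => hST h.symm⟩
    · exact le_sSup ⟨hR, fun h => hSR h.symm⟩
  have d2 := d1.mono_right hsup
  have hs0 : s = 0 := by
    refine (Submodule.disjoint_def.1 d2) s hs ?_
    have : s = -(t + r) := by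
      rw [add_assoc] at h0
      exact eq_neg_of_add_eq_zero_left h0
    rw [this]
    exact (T ⊔ R).neg_mem ((T ⊔ R).add_mem (Submodule.mem_sup_left ht) (Submodule.mem_sup_right hr))
  subst hs0
  rw [zero_add] at h0
  have ht0 : t = 0 := by
    refine H.disj hT hR hTR ht ?_
    rw [eq_neg_of_add_eq_zero_left h0]
    exact R.neg_mem hr
  subst ht0
  rw [zero_add] at h0
  exact ⟨rfl, rfl, h0⟩

/-- the stabiliser of `s + t` fixes or swaps `s` and `t` -/
theorem Sys.fix_or_swap (H : Sys G {S, T, R}) (hST : S ≠ T) (hSR : S ≠ R) (hTR : T ≠ R) {s t : V} (hs : s ∈ S)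
    (ht : t ∈ T) (hs0 : s ≠ 0) (ht0 : t ≠ 0) {g : V ≃ₗ[ZMod p] V} (hg : g ∈ G) (hgst : g (s + t) = s + t) :
    (g s = s ∧ g t = t) ∨ (g s = t ∧ g t = s) := by
  have hS : S ∈ ({S, T, R} : Set (Submodule (ZMod p) V)) := Or.inl rfl
  have hT : T ∈ ({S, T, R} : Set (Submodule (ZMod p) V)) := Or.inr (Or.inl rfl)
  have hinj : Function.Injective (Submodule.map (g : V →ₗ[ZMod p] V)) := Submodule.map_injective_of_injective g.injective
  have gs0 : g s ≠ 0 := fun h => hs0 ((LinearEquiv.map_eq_zero_iff g).1 h)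
  have gt0 : g t ≠ 0 := fun h => ht0 ((LinearEquiv.map_eq_zero_iff g).1 h)
  have e : g s + g t = s + t := by rw [← map_add, hgst]
  have m1 : g s ∈ S.map (g : V →ₗ[ZMod p] V) := ⟨s, hs, rfl⟩
  have m2 : g t ∈ T.map (g : V →ₗ[ZMod p] V) := ⟨t, ht, rfl⟩
  have hne : S.map (g : V →ₗ[ZMod p] V) ≠ T.map (g : V →ₗ[ZMod p] V) := fun h => hST (hinj h)
  rcases H.perm g hg S hS with h1 | h1 | h1 <;> rcases H.perm g hg T hT with h2 | h2 | h2
  · exact absurd (h1.trans h2.symm) hne
  · rw [h1] at m1; rw [h2] at m2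
    have := H.sum3 hST hSR hTR (s := g s - s) (t := g t - t) (r := 0) (S.sub_mem m1 hs) (T.sub_mem m2 ht)
      R.zero_mem (by rw [add_zero, sub_add_sub_comm, e, sub_self])
    exact Or.inl ⟨sub_eq_zero.1 this.1, sub_eq_zero.1 this.2.1⟩
  · rw [h1] at m1
    have h2' : T.map (g : V →ₗ[ZMod p] V) = R := h2
    rw [h2'] at m2
    have := H.sum3 hST hSR hTR (s := g s - s) (t := -t) (r := g t) (S.sub_mem m1 hs) (T.neg_mem ht)
      m2 (by rw [show g s - s + -t + g t = (g s + g t) - (s + t) by abel, e, sub_self])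
    exact absurd this.2.2 gt0
  · rw [h1] at m1; rw [h2] at m2
    have := H.sum3 hST hSR hTR (s := g t - s) (t := g s - t) (r := 0) (S.sub_mem m2 hs) (T.sub_mem m1 ht)
      R.zero_mem (by rw [add_zero, show g t - s + (g s - t) = (g s + g t) - (s + t) by abel, e, sub_self])
    exact Or.inr ⟨sub_eq_zero.1 this.2.1, sub_eq_zero.1 this.1⟩
  · exact absurd (h1.trans h2.symm) hne
  · rw [h1] at m1
    have h2' : T.map (g : V →ₗ[ZMod p] V) = R := h2
    rw [h2'] at m2
    have := H.sum3 hST hSR hTR (s := -s) (t := g s - t) (r := g t) (S.neg_mem hs) (T.sub_mem m1 ht)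
      m2 (by rw [show -s + (g s - t) + g t = (g s + g t) - (s + t) by abel, e, sub_self])
    exact absurd this.2.2 gt0
  · have h1' : S.map (g : V →ₗ[ZMod p] V) = R := h1
    rw [h1'] at m1; rw [h2] at m2
    have := H.sum3 hST hSR hTR (s := g t - s) (t := -t) (r := g s) (S.sub_mem m2 hs) (T.neg_mem ht)
      m1 (by rw [show g t - s + -t + g s = (g s + g t) - (s + t) by abel, e, sub_self])
    exact absurd this.2.2 gs0
  · have h1' : S.map (g : V →ₗ[ZMod p] V) = R := h1
    rw [h1'] at m1; rw [h2] at m2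
    have := H.sum3 hST hSR hTR (s := -s) (t := g t - t) (r := g s) (S.neg_mem hs) (T.sub_mem m2 ht)
      m1 (by rw [show -s + (g t - t) + g s = (g s + g t) - (s + t) by abel, e, sub_self])
    exact absurd this.2.2 gs0
  · exact absurd ((show S.map (g : V →ₗ[ZMod p] V) = R from h1).trans (show T.map (g : V →ₗ[ZMod p] V) = R from h2).symm) hne

theorem Sys.half_le (H : Sys G {S, T, R}) (hST : S ≠ T) (hSR : S ≠ R) (hTR : T ≠ R) (hh : Half G h)
    {s t : V} (hs : s ∈ S) (ht : t ∈ T) (hs0 : s ≠ 0) (ht0 : t ≠ 0) :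
    h ≤ 2 * Nat.card (stabilizer G s ⊓ stabilizer G t : Subgroup G) := by
  have hst : s + t ≠ 0 := by
    intro h0
    have := H.sum3 hST hSR hTR hs ht R.zero_mem (by rw [add_zero]; exact h0)
    exact hs0 this.1
  set D := stabilizer G s ⊓ stabilizer G t with hD
  set P := stabilizer G (s + t) with hP
  have hle : D ≤ P := by
    intro g hg
    change g • (s + t) = s + t
    rw [smul_add, hg.1, hg.2]
  have hidx : D.relIndex P ≤ 2 := by
    by_cases hex : ∃ a ∈ P, a ∉ D
    · obtain ⟨a, ha, haD⟩ := hex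
      have hmul : ∀ b ∈ P, b ∉ D → b * a ∈ D := by
        intro b hb hbD
        have e1 : ∀ c ∈ P, c ∉ D → c • s = t ∧ c • t = s := by
          intro c hc hcD
          rcases H.fix_or_swap hST hSR hTR hs ht hs0 ht0 c.2 hc with h1 | h1
          · exact absurd ⟨h1.1, h1.2⟩ hcD
          · exact h1
        have ea := e1 a ha haD
        have eb := e1 b hb hbD
        refine ⟨?_, ?_⟩
        · change (b * a) • s = s
          rw [mul_smul, ea.1, eb.2]
        · change (b * a) • t = t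
          rw [mul_smul, ea.2, eb.1]
      have h2 : (D.subgroupOf P).index = 2 := by
        rw [Subgroup.index_eq_two_iff]
        refine ⟨⟨a, ha⟩, fun b => ?_⟩
        by_cases hb : b.1 ∈ D
        · right
          refine ⟨hb, fun h => haD ?_⟩
          have h' : b.1 * a ∈ D := h
          simpa only [_root_.inv_mul_cancel_left] using D.mul_mem (D.inv_mem hb) h'
        · left
          exact ⟨hmul b.1 b.2 hb, hb⟩
      exact h2.le
    · push Not at hex
      have : D.relIndex P = 1 := Subgroup.relIndex_eq_one.2 hex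
      omega
  have h3 := card_mul_relIndex hle
  rw [← hh _ hst, ← h3, mul_comm]
  exact Nat.mul_le_mul_right _ hidx

/-- on a one-dimensional block an element stabilising the block is a scalar -/
theorem Sys.scalar (hn : Module.finrank (ZMod p) S = 1) {g : V ≃ₗ[ZMod p] V}
    (hg : S.map (g : V →ₗ[ZMod p] V) = S) :
    ∃ c : ZMod p, ∀ v ∈ S, g v = c • v := by
  obtain ⟨x₀, hx₀, hgen⟩ := finrank_eq_one_iff'.1 hn
  have h4 : g x₀.1 ∈ S := by
    have : g x₀.1 ∈ S.map (g : V →ₗ[ZMod p] V) := ⟨x₀.1, x₀.2, rfl⟩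
    rwa [hg] at this
  obtain ⟨t, ht⟩ := hgen ⟨_, h4⟩
  refine ⟨t, fun y hy => ?_⟩
  obtain ⟨s, hs⟩ := hgen ⟨y, hy⟩
  have e1 : y = s • x₀.1 := (congrArg Subtype.val hs).symm
  have e2 : g x₀.1 = t • x₀.1 := (congrArg Subtype.val ht).symm
  rw [e1, map_smul, e2, smul_comm]

theorem Sys.fix_block (H : Sys G B) {X : Submodule (ZMod p) V} (hX : X ∈ B) (hn : Module.finrank (ZMod p) X = 1)
    {x : V} (hx : x ∈ X) (hx0 : x ≠ 0) {g : V ≃ₗ[ZMod p] V} (hg : g ∈ G) (hgx : g x = x) : ∀ v ∈ X, g v = v := by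
  obtain ⟨c, hc⟩ := Sys.scalar hn (H.map_eq hX hx hx0 hg hgx)
  have h1 := hc x hx
  rw [hgx] at h1
  have h2 : (c - 1) • x = 0 := by rw [sub_smul, one_smul, ← h1, sub_self]
  have h3 : c = 1 := sub_eq_zero.1 ((smul_eq_zero.1 h2).resolve_right hx0)
  intro v hv
  rw [hc v hv, h3, one_smul]

/-- the action on the blocks -/
noncomputable def Sys.permHom (H : Sys G B) : G →* Equiv.Perm B :=
  let mv : G → B → B := fun g X => ⟨X.1.map (g.1 : V →ₗ[ZMod p] V), H.perm g.1 g.2 X.1 X.2⟩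
  have mv_mul : ∀ (a b : G) (X : B), mv a (mv b X) = mv (a * b) X := by
    intro a b X
    apply Subtype.ext
    change (X.1.map (b.1 : V →ₗ[ZMod p] V)).map (a.1 : V →ₗ[ZMod p] V) = X.1.map ((a * b : G).1 : V →ₗ[ZMod p] V)
    rw [← Submodule.map_comp]; rfl
  have mv_one : ∀ X : B, mv 1 X = X := by
    intro X
    apply Subtype.ext
    exact Submodule.map_id X.1
  { toFun := fun g =>
      { toFun := mv g
        invFun := mv g⁻¹
        left_inv := fun X => by rw [mv_mul, inv_mul_cancel, mv_one]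
        right_inv := fun X => by rw [mv_mul, mul_inv_cancel, mv_one] }
    map_one' := by ext1 X; exact mv_one X
    map_mul' := by intro a b; ext1 X; exact (mv_mul a b X).symm }

theorem Sys.eq_one_of_fix (H : Sys G {S, T, R}) (hirr : Irr G) {g : V ≃ₗ[ZMod p] V}
    (h1 : ∀ v ∈ S, g v = v) (h2 : ∀ v ∈ T, g v = v) (h3 : ∀ v ∈ R, g v = v) : g = 1 := by
  have htop := H.iSup_top hirr subset_rfl H.nt.nonempty H.perm
  apply LinearEquiv.ext
  intro v
  have hle : sSup ({S, T, R} : Set (Submodule (ZMod p) V)) ≤ LinearMap.eqLocus (g : V →ₗ[ZMod p] V) LinearMap.id := by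
    refine sSup_le ?_
    rintro X (rfl | rfl | rfl)
    · exact h1
    · exact h2
    · exact h3
  have hv : v ∈ sSup ({S, T, R} : Set (Submodule (ZMod p) V)) := by rw [htop]; trivial
  exact hle hv

/-- three one-dimensional blocks: `h` divides 6 -/
theorem Sys.dvd_six (H : Sys G {S, T, R}) (hST : S ≠ T) (hSR : S ≠ R) (hTR : T ≠ R) (hirr : Irr G) (hh : Half G h)
    (hnS : Module.finrank (ZMod p) S = 1) (hnT : Module.finrank (ZMod p) T = 1) (hnR : Module.finrank (ZMod p) R = 1)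
    {s t r : V} (hs : s ∈ S) (ht : t ∈ T) (hr : r ∈ R) (hs0 : s ≠ 0) (ht0 : t ≠ 0) (hr0 : r ≠ 0) : h ∣ 6 := by
  classical
  have hS : S ∈ ({S, T, R} : Set (Submodule (ZMod p) V)) := Or.inl rfl
  have hT : T ∈ ({S, T, R} : Set (Submodule (ZMod p) V)) := Or.inr (Or.inl rfl)
  have hR : R ∈ ({S, T, R} : Set (Submodule (ZMod p) V)) := Or.inr (Or.inr rfl)
  have hv0 : s + t + r ≠ 0 := fun h0 => hs0 (H.sum3 hST hSR hTR hs ht hr h0).1
  let f : stabilizer G (s + t + r) →* Equiv.Perm ({S, T, R} : Set (Submodule (ZMod p) V)) :=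
    H.permHom.comp (stabilizer G (s + t + r)).subtype
  have hf : Function.Injective f := by
    rw [injective_iff_map_eq_one]
    intro g hg
    have e : ∀ X : ({S, T, R} : Set (Submodule (ZMod p) V)), X.1.map (g.1.1 : V →ₗ[ZMod p] V) = X.1 := by
      intro X
      have := congrArg (fun σ : Equiv.Perm ({S, T, R} : Set (Submodule (ZMod p) V)) => (σ X).1) hg
      exact this
    have hgv : g.1.1 (s + t + r) = s + t + r := g.2
    have a1 : g.1.1 s ∈ S := by
      have : g.1.1 s ∈ S.map (g.1.1 : V →ₗ[ZMod p] V) := ⟨s, hs, rfl⟩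
      rwa [e ⟨S, hS⟩] at this
    have a2 : g.1.1 t ∈ T := by
      have : g.1.1 t ∈ T.map (g.1.1 : V →ₗ[ZMod p] V) := ⟨t, ht, rfl⟩
      rwa [e ⟨T, hT⟩] at this
    have a3 : g.1.1 r ∈ R := by
      have : g.1.1 r ∈ R.map (g.1.1 : V →ₗ[ZMod p] V) := ⟨r, hr, rfl⟩
      rwa [e ⟨R, hR⟩] at this
    have hsum := H.sum3 hST hSR hTR (s := g.1.1 s - s) (t := g.1.1 t - t) (r := g.1.1 r - r)
      (S.sub_mem a1 hs) (T.sub_mem a2 ht) (R.sub_mem a3 hr) (by
        rw [map_add, map_add] at hgv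
        rw [show g.1.1 s - s + (g.1.1 t - t) + (g.1.1 r - r) =
          (g.1.1 s + g.1.1 t + g.1.1 r) - (s + t + r) by abel, hgv, sub_self])
    have := H.eq_one_of_fix hirr
      (H.fix_block hS hnS hs hs0 g.1.2 (sub_eq_zero.1 hsum.1))
      (H.fix_block hT hnT ht ht0 g.1.2 (sub_eq_zero.1 hsum.2.1))
      (H.fix_block hR hnR hr hr0 g.1.2 (sub_eq_zero.1 hsum.2.2))
    exact Subtype.ext (Subtype.ext this)
  have h1 := Subgroup.card_dvd_of_injective f hf
  rw [hh _ hv0, Nat.card_perm, Nat.card_coe_set_eq, Set.ncard_eq_three.2 ⟨S, T, R, hST, hSR, hTR, rfl⟩] at h1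
  exact h1

theorem Sys.three_false' (H : Sys G {S, T, R}) (hST : S ≠ T) (hSR : S ≠ R) (hTR : T ≠ R) (hirr : Irr G) (hh : Half G h)
    (h2 : 2 ≤ h) (hnS : Module.finrank (ZMod p) S = 1) (hnT : Module.finrank (ZMod p) T = 1)
    (hnR : Module.finrank (ZMod p) R = 1) (hp7 : 7 ≤ p) : False := by
  classical
  have hS : S ∈ ({S, T, R} : Set (Submodule (ZMod p) V)) := Or.inl rfl
  have hT : T ∈ ({S, T, R} : Set (Submodule (ZMod p) V)) := Or.inr (Or.inl rfl)
  have hR : R ∈ ({S, T, R} : Set (Submodule (ZMod p) V)) := Or.inr (Or.inr rfl)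
  obtain ⟨s, hs, hs0⟩ := Submodule.exists_mem_ne_zero_of_ne_bot (H.ne S hS)
  obtain ⟨t, ht, ht0⟩ := Submodule.exists_mem_ne_zero_of_ne_bot (H.ne T hT)
  obtain ⟨r, hr, hr0⟩ := Submodule.exists_mem_ne_zero_of_ne_bot (H.ne R hR)
  have h6 := H.dvd_six hST hSR hTR hirr hh hnS hnT hnR hs ht hr hs0 ht0 hr0
  have H' : Sys G {S, R, T} := by
    have : ({S, R, T} : Set (Submodule (ZMod p) V)) = {S, T, R} := by
      rw [Set.pair_comm R T]
    rw [this]; exact H
  have d3 := H.half_le hST hSR hTR hh hs ht hs0 ht0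
  have d2 := H'.half_le hSR hST hTR.symm hh hs hr hs0 hr0
  have fS := fun (g : G) (hg : g • s = s) => H.fix_block hS hnS hs hs0 g.2 hg
  have fT := fun (g : G) (hg : g • t = t) => H.fix_block hT hnT ht ht0 g.2 hg
  have fR := fun (g : G) (hg : g • r = r) => H.fix_block hR hnR hr hr0 g.2 hg
  -- the product of the two subgroups
  have hprod : Nat.card (stabilizer G s ⊓ stabilizer G t : Subgroup G) *
      Nat.card (stabilizer G s ⊓ stabilizer G r : Subgroup G) ≤ h := by
    rw [← hh s hs0, ← Nat.card_prod]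
    refine Nat.card_le_card_of_injective
      (fun z => (⟨z.1.1 * z.2.1, (stabilizer G s).mul_mem z.1.2.1 z.2.2.1⟩ : stabilizer G s)) ?_
    rintro ⟨⟨a, ha⟩, ⟨b, hb⟩⟩ ⟨⟨a', ha'⟩, ⟨b', hb'⟩⟩ heq
    have e : a * b = a' * b' := congrArg Subtype.val heq
    have e1 : a'⁻¹ * a = b' * b⁻¹ := by
      rw [inv_mul_eq_iff_eq_mul, ← mul_assoc, ← e, mul_assoc, mul_inv_cancel, mul_one]
    have m1 : a'⁻¹ * a ∈ stabilizer G s ⊓ stabilizer G t := Subgroup.mul_mem _ (Subgroup.inv_mem _ ha') ha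
    have m2 : a'⁻¹ * a ∈ stabilizer G s ⊓ stabilizer G r := by
      rw [e1]; exact Subgroup.mul_mem _ hb' (Subgroup.inv_mem _ hb)
    have h1 : a'⁻¹ * a = 1 := Subtype.ext (H.eq_one_of_fix hirr (fS _ m1.1) (fT _ m1.2) (fR _ m2.2))
    have h3 : a = a' := by rw [inv_mul_eq_one] at h1; exact h1.symm
    subst h3
    have h4 : b = b' := mul_left_cancel e
    subst h4
    rfl
  -- `D = 1`
  have hD : ∀ g : G, g • s = s → g • t = t → g = 1 := by
    intro g hgs hgt
    by_contra hne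
    obtain ⟨a, ha, haR⟩ := H.trans hirr hR hT
    let a' : G := ⟨a, ha⟩
    -- `a g a⁻¹` is trivial on `S` and `R`
    have hconj : ∀ X ∈ ({S, T, R} : Set (Submodule (ZMod p) V)), X ≠ R → ∀ v ∈ X.map (a : V →ₗ[ZMod p] V),
        (a' * g * a'⁻¹) • v = v := by
      rintro X hX hXR _ ⟨w, hw, rfl⟩
      have h1 : g • w = w := by
        rcases hX with rfl | rfl | h
        · exact fS g hgs w hw
        · exact fT g hgt w hw
        · exact absurd h hXR
      change (a' * g * a'⁻¹) • (a' • w) = a' • w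
      rw [mul_smul, mul_smul, inv_smul_smul, h1]
    have hinj : Function.Injective (Submodule.map (a : V →ₗ[ZMod p] V)) := Submodule.map_injective_of_injective a.injective
    -- the images of `S`, `T` are `S`, `R` in some order
    have himg : ∀ Y ∈ ({S, T, R} : Set (Submodule (ZMod p) V)), Y ≠ T →
        ∃ X ∈ ({S, T, R} : Set (Submodule (ZMod p) V)), X ≠ R ∧ X.map (a : V →ₗ[ZMod p] V) = Y := by
      intro Y hY hYT
      obtain ⟨X, hX⟩ := (H.permHom a').surjective ⟨Y, hY⟩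
      have hX' : X.1.map (a : V →ₗ[ZMod p] V) = Y := congrArg Subtype.val hX
      refine ⟨X.1, X.2, ?_, hX'⟩
      intro h
      rw [h, haR] at hX'
      exact hYT hX'.symm
    have hkS : (a' * g * a'⁻¹) • s = s := by
      obtain ⟨X, hX, hXR, hXe⟩ := himg S hS hST
      exact hconj X hX hXR s (by rw [hXe]; exact hs)
    have hkR : (a' * g * a'⁻¹) • r = r := by
      obtain ⟨X, hX, hXR, hXe⟩ := himg R hR hTR.symm
      exact hconj X hX hXR r (by rw [hXe]; exact hr)
    have hkne : a' * g * a'⁻¹ ≠ 1 := by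
      intro h
      rw [mul_inv_eq_one, mul_eq_left] at h
      exact hne h
    have c3 : 2 ≤ Nat.card (stabilizer G s ⊓ stabilizer G t : Subgroup G) := by
      have : Nontrivial (stabilizer G s ⊓ stabilizer G t : Subgroup G) :=
        ⟨⟨⟨g, hgs, hgt⟩, 1, fun h => hne (congrArg Subtype.val h)⟩⟩
      exact Finite.one_lt_card
    have c2 : 2 ≤ Nat.card (stabilizer G s ⊓ stabilizer G r : Subgroup G) := by
      have : Nontrivial (stabilizer G s ⊓ stabilizer G r : Subgroup G) :=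
        ⟨⟨⟨a' * g * a'⁻¹, hkS, hkR⟩, 1, fun h => hkne (congrArg Subtype.val h)⟩⟩
      exact Finite.one_lt_card
    have h4 : h = 4 := by nlinarith only [d3, d2, hprod, c3, c2]
    rw [h4] at h6
    revert h6; decide
  have hh2 : h = 2 := by
    have : Nat.card (stabilizer G s ⊓ stabilizer G t : Subgroup G) = 1 := by
      rw [Subgroup.card_eq_one, eq_bot_iff]
      intro g hg
      rw [Subgroup.mem_bot]
      exact hD g hg.1 hg.2
    omega
  -- swapping elements
  have hsw : ∀ c : ZMod p, c ≠ 0 → ∃ g : G, g • s = c • t ∧ g • (c • t) = s := by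
    intro c hc
    have hct : c • t ≠ 0 := smul_ne_zero hc ht0
    have hst : s + c • t ≠ 0 := by
      intro h0
      have := H.sum3 hST hSR hTR hs (T.smul_mem c ht) R.zero_mem (by rw [add_zero]; exact h0)
      exact hs0 this.1
    have h1 := hh _ hst
    rw [hh2] at h1
    have : Nontrivial (stabilizer G (s + c • t)) := by
      rw [← Finite.one_lt_card_iff_nontrivial]; omega
    obtain ⟨g, hg⟩ := exists_ne (1 : stabilizer G (s + c • t))
    rcases H.fix_or_swap hST hSR hTR hs (T.smul_mem c ht) hs0 hct g.1.2 g.2 with h3 | h3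
    · exfalso
      apply hg
      apply Subtype.ext
      apply hD g.1 h3.1
      have h4 : g.1 • (c • t) = c • t := h3.2
      have h5 : c • (g.1 • t) = c • t := (map_smul g.1.1 c t).symm.trans h4
      have h6 : c • (g.1 • t - t) = 0 := by rw [smul_sub, h5, sub_self]
      exact sub_eq_zero.1 ((smul_eq_zero.1 h6).resolve_left hc)
    · exact ⟨g.1, h3.1, h3.2⟩
  -- `c = 1` and `c = 3`
  obtain ⟨g₁, hg₁, hg₁'⟩ := hsw 1 one_ne_zero
  rw [one_smul] at hg₁ hg₁'
  have h3p : (3 : ZMod p) ≠ 0 := by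
    intro h
    have : ((3 : ℕ) : ZMod p) = 0 := by exact_mod_cast h
    rw [ZMod.natCast_eq_zero_iff] at this
    have := Nat.le_of_dvd (by norm_num) this
    omega
  obtain ⟨g₂, hg₂, hg₂'⟩ := hsw 3 h3p
  have sq1 : g₁ * g₁ = 1 := hD _ (by rw [mul_smul, hg₁, hg₁']) (by rw [mul_smul, hg₁', hg₁])
  have hlin : ∀ (g : G) (c : ZMod p) (v : V), g • (c • v) = c • (g • v) := fun g c v => map_smul g.1.1 c v
  have sq2 : g₂ * g₂ = 1 := by
    refine hD _ (by rw [mul_smul, hg₂, hg₂']) ?_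
    have h1 : (g₂ * g₂) • ((3 : ZMod p) • t) = (3 : ZMod p) • t := by rw [mul_smul, hg₂', hg₂]
    rw [hlin] at h1
    have h2 : (3 : ZMod p) • ((g₂ * g₂) • t - t) = 0 := by rw [smul_sub, h1, sub_self]
    exact sub_eq_zero.1 ((smul_eq_zero.1 h2).resolve_left h3p)
  -- both stabilise the third block
  have hR3 : ∀ g : G, ∀ c : ZMod p, c ≠ 0 → g • s = c • t → g • (c • t) = s → g * g = 1 →
      ∃ e : ZMod p, e * e = 1 ∧ g • r = e • r := by
    intro g c hc hgs hgt hgg
    have hgS : S.map (g.1 : V →ₗ[ZMod p] V) = T := by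
      by_contra hne
      have h1 : c • t ∈ S.map (g.1 : V →ₗ[ZMod p] V) := ⟨s, hs, hgs⟩
      exact (smul_ne_zero hc ht0) (H.disj (H.perm g.1 g.2 S hS) hT hne h1 (T.smul_mem c ht))
    have hgT : T.map (g.1 : V →ₗ[ZMod p] V) = S := by
      by_contra hne
      have h1 : s ∈ T.map (g.1 : V →ₗ[ZMod p] V) := ⟨c • t, T.smul_mem c ht, hgt⟩
      exact hs0 (H.disj (H.perm g.1 g.2 T hT) hS hne h1 hs)
    have hinj : Function.Injective (Submodule.map (g.1 : V →ₗ[ZMod p] V)) := Submodule.map_injective_of_injective g.1.injective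
    have hgR : R.map (g.1 : V →ₗ[ZMod p] V) = R := by
      rcases H.perm g.1 g.2 R hR with h | h | h
      · exact absurd (hinj (h.trans hgT.symm)) hTR.symm
      · exact absurd (hinj (h.trans hgS.symm)) hSR.symm
      · exact h
    obtain ⟨e, he⟩ := Sys.scalar hnR hgR
    have he' : g • r = e • r := he r hr
    refine ⟨e, ?_, he'⟩
    have h1 : (g * g) • r = r := by rw [hgg, one_smul]
    rw [mul_smul, he', hlin, he', smul_smul] at h1
    have h2 : (e * e - 1) • r = 0 := by rw [sub_smul, h1, one_smul, sub_self]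
    exact sub_eq_zero.1 ((smul_eq_zero.1 h2).resolve_right hr0)
  obtain ⟨e₁, he₁, hr₁⟩ := hR3 g₁ 1 one_ne_zero (by rw [one_smul]; exact hg₁) (by rw [one_smul]; exact hg₁') sq1
  obtain ⟨e₂, he₂, hr₂⟩ := hR3 g₂ 3 h3p hg₂ hg₂' sq2
  obtain ⟨k, hk⟩ : ∃ k, k = g₁ * g₂ := ⟨_, rfl⟩
  have hks : k • s = (3 : ZMod p) • s := by rw [hk, mul_smul, hg₂, hlin, hg₁']
  have hkr : k • r = (e₂ * e₁) • r := by rw [hk, mul_smul, hr₂, hlin, hr₁, smul_smul]
  have hkkr : (k * k) • r = r := by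
    rw [mul_smul, hkr, hlin, hkr, smul_smul]
    have : e₂ * e₁ * (e₂ * e₁) = (e₂ * e₂) * (e₁ * e₁) := by ring
    rw [this, he₁, he₂, one_mul, one_smul]
  have h4 : (k * k) * (k * k) = 1 := by
    have h5 : Nat.card (stabilizer G r) = 2 := by rw [hh _ hr0, hh2]
    have h6 : (⟨k * k, hkkr⟩ : stabilizer G r) ^ Nat.card (stabilizer G r) = 1 := pow_card_eq_one'
    rw [h5, sq] at h6
    exact congrArg Subtype.val h6
  have hkks : (k * k) • s = (9 : ZMod p) • s := by
    rw [mul_smul, hks, hlin, hks, smul_smul]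
    norm_num
  have h5 : ((k * k) * (k * k)) • s = (81 : ZMod p) • s := by
    rw [mul_smul, hkks, hlin, hkks, smul_smul]
    norm_num
  rw [h4, one_smul] at h5
  have h6 : (80 : ZMod p) • s = 0 := by
    have : (80 : ZMod p) = 81 - 1 := by norm_num
    rw [this, sub_smul, ← h5, one_smul, sub_self]
  have h7 : ((80 : ℕ) : ZMod p) = 0 := by
    have := (smul_eq_zero.1 h6).resolve_right hs0
    exact_mod_cast this
  rw [ZMod.natCast_eq_zero_iff] at h7
  have hp : p.Prime := Fact.out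
  have h8 : p ∣ 2 ^ 4 * 5 := by simpa using h7
  rcases hp.dvd_mul.1 h8 with h9 | h9
  · have := Nat.le_of_dvd (by norm_num) (hp.dvd_of_dvd_pow h9)
    omega
  · have := Nat.le_of_dvd (by norm_num) h9
    omega

end tri

theorem num_three {p m : ℕ} (hp : p.Prime) (hp2 : p ≠ 2) (h2 : m ∣ p ^ 3 - 1) (h1 : m ∣ 3 * (p - 1))
    (h3 : p ^ 3 ≤ 2 * m ^ 2) : 7 ≤ p := by
  by_contra hlt
  push Not at hlt
  have hp2' := hp.two_le
  interval_cases p
  · exact hp2 rfl
  · have h5 : m ∣ Nat.gcd (3 ^ 3 - 1) (3 * (3 - 1)) := Nat.dvd_gcd h2 h1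
    have h6 : Nat.gcd (3 ^ 3 - 1) (3 * (3 - 1)) = 2 := by norm_num
    rw [h6] at h5
    have h7 := Nat.le_of_dvd (by norm_num) h5
    nlinarith only [h3, h7]
  · exact absurd hp (by norm_num)
  · have h5 : m ∣ Nat.gcd (5 ^ 3 - 1) (3 * (5 - 1)) := Nat.dvd_gcd h2 h1
    have h6 : Nat.gcd (5 ^ 3 - 1) (3 * (5 - 1)) = 4 := by norm_num
    rw [h6] at h5
    have h7 := Nat.le_of_dvd (by norm_num) h5
    nlinarith only [h3, h7]
  · exact absurd hp (by norm_num)

/-- **Imprimitive coprime half-transitive linear groups with `h ≥ 2` (no insolubility).**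
Either `h = 2`, `|V| = r²`, `|G| = 4 (r - 1)`, or `p = 3`, there are four one-dimensional blocks, `|V| = 81`
and `G` is soluble. -/
theorem Sys.cases (H : Sys G B) (hp2 : p ≠ 2) (hh : Half G h) (h2 : 2 ≤ h) (hG : ¬ p ∣ Nat.card G)
    (hirr : Irr G) :
    (h = 2 ∧ ∃ r, Nat.card V = r ^ 2 ∧ Nat.card G = 4 * (r - 1) ∧ 3 ≤ r) ∨
      (p = 3 ∧ Nat.card V = 81 ∧ Group.IsSolvable G) := by
  classical
  obtain ⟨X, hX⟩ := H.nt.nonempty
  obtain ⟨n, hnX⟩ : ∃ n, Module.finrank (ZMod p) X = n := ⟨_, rfl⟩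
  have hn : ∀ Y ∈ B, Module.finrank (ZMod p) Y = n := fun Y hY => by rw [H.card_block hirr hY hX, hnX]
  have hn1 : 1 ≤ n := by
    rw [← hnX]
    have : Nontrivial X := Submodule.nontrivial_iff_ne_bot.2 (H.ne X hX)
    exact Module.finrank_pos
  obtain ⟨x, hxX, hx0⟩ := Submodule.exists_mem_ne_zero_of_ne_bot (H.ne X hX)
  obtain ⟨m, hm, hm0⟩ := exists_m hh ⟨x, hx0⟩
  have hBf : B.Finite := Set.toFinite B
  have hk2 : 2 ≤ B.ncard := Set.one_lt_ncard_iff_nontrivial.2 H.nt
  rcases Nat.lt_or_ge 2 B.ncard with hk | hk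
  · have c1 : m ∣ B.ncard * (p ^ n - 1) := by
      rw [← H.card_union hn]
      refine dvd_invariant hh (by omega) hm _ (fun h => h.1 rfl) ?_
      rintro g hg v ⟨hv0, Y, hY, hvY⟩
      refine ⟨fun h => hv0 ((LinearEquiv.map_eq_zero_iff g).1 h), _, H.perm g hg Y hY, ⟨v, hvY, rfl⟩⟩
    have hV : Nat.card V = (p ^ n) ^ B.ncard := by
      rw [card_eq_pow (p := p), H.finrank_eq hirr hn, mul_comm, pow_mul]
    have c2 : m ∣ (p ^ n) ^ B.ncard - 1 := by
      rw [← hV]
      exact dvd_card_sub_one hh (by omega) hm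
    have c3 : (p ^ n) ^ B.ncard ≤ 2 * m ^ 2 := by
      rw [← hV]
      exact card_le hG hh h2 hm
    obtain ⟨rfl, hk4⟩ := num_k (Fact.out : p.Prime) hp2 hn1 hk c1 c2 c3
    rw [pow_one] at c1 c2 c3 hV
    have hsol := H.solvable_of_one hirr hn hk4
    rcases Nat.lt_or_ge 3 B.ncard with hk' | hk'
    · right
      have hk'' : B.ncard = 4 := by omega
      rw [hk''] at c1 c3 hV
      have hp : p.Prime := Fact.out
      have hp3 : p = 3 := by
        have hp2' := hp.two_le
        have hmle : m ≤ 4 * (p - 1) := Nat.le_of_dvd (by omega) c1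
        obtain ⟨r, rfl⟩ : ∃ r, p = r + 1 := ⟨p - 1, by omega⟩
        simp only [Nat.add_sub_cancel] at hmle
        have h4 : m ^ 2 ≤ (4 * r) ^ 2 := Nat.pow_le_pow_left hmle 2
        have h5 : (r + 1) ^ 4 ≤ 32 * r ^ 2 := by linarith only [c3, h4]
        by_contra hne
        have h6 : 3 ≤ r := by omega
        rcases Nat.lt_or_ge r 4 with h7 | h7
        · have : r = 3 := by omega
          subst this
          exact absurd hp (by norm_num)
        · have h8 : 32 * r ^ 2 < (r + 1) ^ 4 := by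
            nlinarith only [h7, Nat.mul_le_mul h7 h7]
          omega
      subst hp3
      exact ⟨rfl, by rw [hV]; norm_num, hsol⟩
    · exfalso
      have hk'' : B.ncard = 3 := by omega
      rw [hk''] at c1 c2 c3
      have hp7 := num_three (Fact.out : p.Prime) hp2 c2 c1 c3
      obtain ⟨S, T, R, hST, hSR, hTR, rfl⟩ := Set.ncard_eq_three.1 hk''
      exact H.three_false' hST hSR hTR hirr hh h2 (hn S (Or.inl rfl)) (hn T (Or.inr (Or.inl rfl)))
        (hn R (Or.inr (Or.inr rfl))) hp7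
  · exact Or.inl (H.two (by omega) hp2 hh h2 hirr)

end Cfsg.Agent.H960.HT
end

-- part: H192/Ht/Leaves
section
/-!
# The inputs of the soluble coprime case of S3577 (TEAM HT; helper192)
-/

set_option autoImplicit false

namespace Cfsg.Agent.H192.Ht

open Cfsg.Agent.H828.HT
open Cfsg.Agent.H662.HT
open Cfsg.Agent.H960.HT (Irr Homog NIrr Sys)

universe u

/-- the inputs proved by TEAM HT -/
structure Leaves : Prop where
  full_false : ∀ {p : ℕ} [Fact p.Prime] {V : Type u} [AddCommGroup V] [Module (ZMod p) V] [Finite V]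
    {G N : Subgroup (V ≃ₗ[ZMod p] V)}, N ≤ G → (∀ g ∈ G, ∀ x ∈ N, g * x * g⁻¹ ∈ N) →
    ¬ p ∣ Nat.card G → ∀ {h s a : ℕ}, Half G h → 2 ≤ h → _root_.Cfsg.Agent.H662.HT.Sym s a N V → Full s N → (3 ≤ s ∨ 2 ≤ a) → False
  two_three : ∀ {p : ℕ} [Fact p.Prime] {V : Type u} [AddCommGroup V] [Module (ZMod p) V] [Finite V]
    {G N : Subgroup (V ≃ₗ[ZMod p] V)}, N ≤ G → (∀ g ∈ G, ∀ x ∈ N, g * x * g⁻¹ ∈ N) →
    ¬ p ∣ Nat.card G → ∀ {h a : ℕ}, Half G h → 2 ≤ h → Sym 2 a N V → Nat.card (Subgroup.center N) = 2 → 2 ≤ a →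
    p = 3 ∧ a = 2
  exists_field : ∀ {p : ℕ} [Fact p.Prime] {V : Type u} [AddCommGroup V] [Module (ZMod p) V] [Finite V] [Nontrivial V]
    {G A : Subgroup (V ≃ₗ[ZMod p] V)}, Irr G → A ≤ G → (∀ g ∈ G, ∀ a ∈ A, g * a * g⁻¹ ∈ A) →
    (∀ a ∈ A, ∀ b ∈ A, a * b = b * a) → Homog A →
    ∃ (K : Type u) (_ : Field K) (_ : Module K V) (χ : A →* Kˣ) (σ : G →* (K ≃+* K)), KS G A K χ σ
  semilinear_case : ∀ {p : ℕ} [Fact p.Prime] {V : Type u} [AddCommGroup V] [Module (ZMod p) V] [Finite V] [Nontrivial V]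
    {G A : Subgroup (V ≃ₗ[ZMod p] V)}, A ≤ G → ¬ p ∣ Nat.card G →
    (∀ g ∈ G, (∀ a ∈ A, g * a = a * g) → g ∈ A) → (∀ a ∈ A, ∀ b ∈ A, a * b = b * a) →
    ∀ {K : Type u} [Field K] [Module K V] {χ : A →* Kˣ} {σ : G →* (K ≃+* K)}, KS G A K χ σ →
    ∀ {h : ℕ}, Half G h → 2 ≤ h →
    ∃ S : Subgroup (V ≃ₗ[ZMod p] V), IsCyclic S ∧ Nat.card S = Nat.card V - 1 ∧
      ∀ g ∈ G, ∀ s ∈ S, g * s * g⁻¹ ∈ S
  e_two_size : ∀ {p : ℕ} [Fact p.Prime] {V : Type u} [AddCommGroup V] [Module (ZMod p) V] [Finite V] [Nontrivial V]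
    {G A F : Subgroup (V ≃ₗ[ZMod p] V)} {K : Type u} [Field K] [Module K V] {χ : A →* Kˣ} {σ : G →* (K ≃+* K)},
    ETwo G A F → KS G A K χ σ → 5 ≤ p → ¬ p ∣ Nat.card G → ∀ {h : ℕ}, Half G h → 2 ≤ h →
    (Nat.card V = p ^ 2 ∧ (p = 5 ∨ p = 7 ∨ p = 11 ∨ p = 13 ∨ p = 17)) ∨
    (Nat.card V = p ^ 4 ∧ Nat.card K = p ^ 2 ∧ (p = 5 ∨ p = 7 ∨ p = 11))
  e_two_thirteen : ∀ {p : ℕ} [Fact p.Prime] {V : Type u} [AddCommGroup V] [Module (ZMod p) V] [Finite V] [Nontrivial V]
    {G A F : Subgroup (V ≃ₗ[ZMod p] V)} {K : Type u} [Field K] [Module K V] {χ : A →* Kˣ} {σ : G →* (K ≃+* K)},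
    ETwo G A F → KS G A K χ σ → p = 13 → Nat.card V = 13 ^ 2 → ¬ p ∣ Nat.card G → ∀ {h : ℕ}, Half G h → 2 ≤ h → False
  e_two_five : ∀ {p : ℕ} [Fact p.Prime] {V : Type u} [AddCommGroup V] [Module (ZMod p) V] [Finite V] [Nontrivial V]
    {G A F : Subgroup (V ≃ₗ[ZMod p] V)} {K : Type u} [Field K] [Module K V] {χ : A →* Kˣ} {σ : G →* (K ≃+* K)},
    ETwo G A F → KS G A K χ σ → p = 5 → Nat.card V = 5 ^ 4 → Nat.card K = 5 ^ 2 → ¬ p ∣ Nat.card G →
    ∀ {h : ℕ}, Half G h → 2 ≤ h → False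
  e_two_seven : ∀ {p : ℕ} [Fact p.Prime] {V : Type u} [AddCommGroup V] [Module (ZMod p) V] [Finite V] [Nontrivial V]
    {G A F : Subgroup (V ≃ₗ[ZMod p] V)} {K : Type u} [Field K] [Module K V] {χ : A →* Kˣ} {σ : G →* (K ≃+* K)},
    ETwo G A F → KS G A K χ σ → p = 7 → Nat.card V = 7 ^ 4 → Nat.card K = 7 ^ 2 → ¬ p ∣ Nat.card G →
    ∀ {h : ℕ}, Half G h → 2 ≤ h → False
  e_two_eleven : ∀ {p : ℕ} [Fact p.Prime] {V : Type u} [AddCommGroup V] [Module (ZMod p) V] [Finite V] [Nontrivial V]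
    {G A F : Subgroup (V ≃ₗ[ZMod p] V)} {K : Type u} [Field K] [Module K V] {χ : A →* Kˣ} {σ : G →* (K ≃+* K)},
    ETwo G A F → KS G A K χ σ → p = 11 → Nat.card V = 11 ^ 4 → Nat.card K = 11 ^ 2 → ¬ p ∣ Nat.card G →
    ∀ {h : ℕ}, Half G h → 2 ≤ h → False
  p_three : ∀ {W : Type u} [AddCommGroup W] [Fact (Nat.Prime 3)] [Module (ZMod 3) W] [Finite W] [Nontrivial W]
    {G A E : Subgroup (W ≃ₗ[ZMod 3] W)}, A ≤ G → E ≤ G → ¬ 3 ∣ Nat.card G →
    ∀ {h : ℕ}, Half G h → 2 ≤ h →
    (∀ g ∈ G, ∀ a ∈ A, g * a * g⁻¹ ∈ A) → (∀ g ∈ G, ∀ x ∈ E, g * x * g⁻¹ ∈ E) →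
    IsCyclic A → (∀ a ∈ A, ∀ x ∈ E, a * x = x * a) →
    (∀ g ∈ G, (∀ x ∈ E, g * x = x * g) → (∀ a ∈ A, g * a = a * g) → g ∈ A) →
    Sym 2 2 E W → Nat.card (Subgroup.center E) = 2 → ¬ 4 ∣ Nat.card A → Nat.card W = 81

end Cfsg.Agent.H192.Ht
end
end
end

-- part: H192/Ht/Sol
section
prune_inst 0x2
set_option linter.all false
open scoped Cfsg.Agent.FastGrp

-- part: H192/Ht/ETwoA
section
/-!
# The case `|F| = 4 |A|` of a half-transitive group: action on `F / A` (HT-E P4g, helper192)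
-/

set_option autoImplicit false
set_option linter.unusedSectionVars false

open scoped Classical

namespace Cfsg.Agent.H192.Ht

open Cfsg.Agent.H828.HT Cfsg.Agent.H662.HT

universe u

variable {p : ℕ} [Fact p.Prime] {V : Type u} [AddCommGroup V] [Module (ZMod p) V] [Finite V]
variable {G A F : Subgroup (V ≃ₗ[ZMod p] V)}

theorem nrmF (E : ETwo G A F) : (A.subgroupOf F).Normal := by
  refine ⟨fun n hn g => ?_⟩
  rw [Subgroup.mem_subgroupOf] at hn ⊢
  have h1 := E.cenA n hn g g.2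
  have h2 : ((g * n * g⁻¹ : F) : V ≃ₗ[ZMod p] V) = n := by
    rw [Subgroup.coe_mul, Subgroup.coe_mul, ← h1, Subgroup.coe_inv, mul_inv_cancel_right]
  rw [h2]
  exact hn

/-- conjugation by an element of `G` on `F` -/
def cjF (E : ETwo G A F) (g : G) : F →* F where
  toFun x := ⟨g * x * (g : V ≃ₗ[ZMod p] V)⁻¹, E.nF g g.2 x x.2⟩
  map_one' := Subtype.ext (by simp)
  map_mul' x y := Subtype.ext (by simp only [_root_.Subgroup.coe_mul, _root_.MulMemClass.mk_mul_mk, _root_.conj_mul])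

theorem cjF_coe (E : ETwo G A F) (g : G) (x : F) :
    ((cjF E g x : F) : V ≃ₗ[ZMod p] V) = g * x * (g : V ≃ₗ[ZMod p] V)⁻¹ := rfl

theorem cjF_le (E : ETwo G A F) (g : G) : A.subgroupOf F ≤ (A.subgroupOf F).comap (cjF E g) := by
  intro x hx
  rw [Subgroup.mem_comap, Subgroup.mem_subgroupOf, cjF_coe]
  exact E.nA g g.2 x (Subgroup.mem_subgroupOf.1 hx)

/-- the action of `G` on `F / A` -/
@[reducible] def actF (E : ETwo G A F) [(A.subgroupOf F).Normal] : MulAction G (F ⧸ A.subgroupOf F) where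
  smul g := QuotientGroup.map _ _ (cjF E g) (cjF_le E g)
  one_smul q := by
    obtain ⟨x, rfl⟩ := QuotientGroup.mk_surjective q
    change (QuotientGroup.mk (cjF E 1 x) : F ⧸ A.subgroupOf F) = QuotientGroup.mk x
    have h : cjF E 1 x = x := Subtype.ext (by rw [cjF_coe]; simp only [_root_.OneMemClass.coe_one, _root_.one_mul, _root_.inv_one, _root_.mul_one])
    rw [h]
  mul_smul g k q := by
    obtain ⟨x, rfl⟩ := QuotientGroup.mk_surjective q
    change (QuotientGroup.mk (cjF E (g * k) x) : F ⧸ A.subgroupOf F) = QuotientGroup.mk (cjF E g (cjF E k x))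
    have h : cjF E (g * k) x = cjF E g (cjF E k x) :=
      Subtype.ext (by rw [cjF_coe, cjF_coe, cjF_coe]; simp only [mul_assoc, _root_.Subgroup.coe_mul, _root_.mul_inv_rev])
    rw [h]

theorem card_quot (E : ETwo G A F) : Nat.card (F ⧸ A.subgroupOf F) = 4 := by
  have hfin : Finite (V ≃ₗ[ZMod p] V) := finG
  have h1 := Subgroup.card_eq_card_quotient_mul_card_subgroup (A.subgroupOf F)
  rw [E.card, Nat.card_congr (Subgroup.subgroupOfEquivOfLe E.AF).toEquiv] at h1
  exact (Nat.eq_of_mul_eq_mul_right Nat.card_pos h1).symm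

/-- **P4g** -/
theorem e_two_three (E : ETwo G A F) : 3 ∣ Nat.card G := by
  have hfin : Finite (V ≃ₗ[ZMod p] V) := finG
  have hN := nrmF E
  let _ := actF E
  have hsm : ∀ (g : G) (x : F), g • (QuotientGroup.mk x : F ⧸ A.subgroupOf F) = QuotientGroup.mk (cjF E g x) :=
    fun g x => rfl
  have hmul : ∀ (g : G) (a b : F ⧸ A.subgroupOf F), g • (a * b) = (g • a) * (g • b) := by
    intro g a b
    exact map_mul (QuotientGroup.map _ _ (cjF E g) (cjF_le E g)) a b
  have hcomm : ∀ a b : F ⧸ A.subgroupOf F, a * b = b * a := by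
    intro a b
    obtain ⟨x, rfl⟩ := QuotientGroup.mk_surjective a
    obtain ⟨y, rfl⟩ := QuotientGroup.mk_surjective b
    rw [← QuotientGroup.mk_mul, ← QuotientGroup.mk_mul, eq_comm, QuotientGroup.eq, Subgroup.mem_subgroupOf]
    have h1 := E.comm x⁻¹ (F.inv_mem x.2) y⁻¹ (F.inv_mem y.2)
    simpa only [mul_assoc, _root_.mul_inv_rev, _root_.Subgroup.coe_mul, _root_.InvMemClass.coe_inv, _root_.inv_inv] using h1
  have hsq : ∀ a : F ⧸ A.subgroupOf F, a * a = 1 := by
    intro a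
    obtain ⟨x, rfl⟩ := QuotientGroup.mk_surjective a
    rw [← QuotientGroup.mk_mul, QuotientGroup.eq_one_iff, Subgroup.mem_subgroupOf]
    exact E.sq x x.2
  have hfix : ∀ a : F ⧸ A.subgroupOf F, (∀ g : G, g • a = a) → a = 1 := by
    intro a ha
    obtain ⟨x, rfl⟩ := QuotientGroup.mk_surjective a
    rw [QuotientGroup.eq_one_iff, Subgroup.mem_subgroupOf]
    refine E.fpf x x.2 fun g hg => ?_
    have h1 := ha ⟨g, hg⟩
    rw [hsm, eq_comm, QuotientGroup.eq, Subgroup.mem_subgroupOf] at h1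
    have h2 := E.nA (x : V ≃ₗ[ZMod p] V) (E.FG x.2) _ h1
    simpa only [cjF_coe, mul_assoc, _root_.Subgroup.coe_mul, _root_.InvMemClass.coe_inv, _root_.mul_inv_cancel_left] using h2
  have hone : ∀ g : G, g • (1 : F ⧸ A.subgroupOf F) = 1 := fun g => (map_one (QuotientGroup.map _ _ (cjF E g) (cjF_le E g)) :)
  have hQ := card_quot E
  have hnt : Nontrivial (F ⧸ A.subgroupOf F) := by
    rw [← Finite.one_lt_card_iff_nontrivial, hQ]; norm_num
  obtain ⟨a, ha⟩ := exists_ne (1 : F ⧸ A.subgroupOf F)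
  have hdvd : Nat.card ((MulAction.orbit G a :)) ∣ Nat.card G := by
    have := Fintype.ofFinite G
    have h1 := MulAction.card_orbit_mul_card_stabilizer_eq_card_group G a
    rw [← Nat.card_eq_fintype_card, ← Nat.card_eq_fintype_card, ← Nat.card_eq_fintype_card] at h1
    exact Dvd.intro _ h1
  have h1 : (1 : F ⧸ A.subgroupOf F) ∉ (MulAction.orbit G a :) := by
    rintro ⟨g, hg⟩
    have : a = g⁻¹ • (1 : F ⧸ A.subgroupOf F) := by rw [← hg]; exact (inv_smul_smul g a).symm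
    rw [hone] at this
    exact ha this
  have hle : (MulAction.orbit G a).ncard ≤ 3 := by
    have h2 : (insert (1 : F ⧸ A.subgroupOf F) (MulAction.orbit G a)).ncard ≤ 4 := by
      rw [← hQ, ← Set.ncard_univ]
      exact Set.ncard_le_ncard (Set.subset_univ _)
    rw [Set.ncard_insert_of_notMem h1] at h2
    omega
  have hpos : 0 < (MulAction.orbit G a).ncard := (Set.ncard_pos).2 ⟨a, MulAction.mem_orbit_self a⟩
  rw [← Nat.card_coe_set_eq] at hle hpos
  have hcase : Nat.card ((MulAction.orbit G a :)) = 1 ∨ Nat.card (MulAction.orbit G a) = 2 ∨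
    Nat.card (MulAction.orbit G a) = 3 := by omega
  rcases hcase with h | h | h
  · exfalso
    apply ha
    refine hfix a fun g => ?_
    rw [Nat.card_coe_set_eq, Set.ncard_eq_one] at h
    obtain ⟨b, hb⟩ := h
    have e1 : a ∈ (MulAction.orbit G a :) := MulAction.mem_orbit_self a
    have e2 : g • a ∈ MulAction.orbit G a := MulAction.mem_orbit a g
    rw [hb, Set.mem_singleton_iff] at e1 e2
    rw [e2, ← e1]
  · exfalso
    rw [Nat.card_coe_set_eq, Set.ncard_eq_two] at h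
    obtain ⟨b, c, hbc, hb⟩ := h
    have key : ∀ g : G, (g • b = b ∧ g • c = c) ∨ (g • b = c ∧ g • c = b) := by
      intro g
      have mb : b ∈ (MulAction.orbit G a :) := by rw [hb]; exact Or.inl rfl
      have mc : c ∈ (MulAction.orbit G a :) := by rw [hb]; exact Or.inr rfl
      have e1 : g • b ∈ (MulAction.orbit G a :) := by
        obtain ⟨k, hk⟩ := mb
        exact ⟨g * k, by rw [← hk]; exact mul_smul g k a⟩
      have e2 : g • c ∈ (MulAction.orbit G a :) := by
        obtain ⟨k, hk⟩ := mc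
        exact ⟨g * k, by rw [← hk]; exact mul_smul g k a⟩
      have e3 : g • b ≠ g • c := fun h => hbc (MulAction.injective g h)
      rw [hb] at e1 e2
      rcases e1 with e1 | e1 <;> rcases e2 with e2 | e2
      · exact absurd (e1.trans e2.symm) e3
      · exact Or.inl ⟨e1, e2⟩
      · exact Or.inr ⟨e1, e2⟩
      · exact absurd (e1.trans (show g • c = c from e2).symm) e3
    have h2 : b * c = 1 := by
      refine hfix _ fun g => ?_
      rw [hmul]
      rcases key g with ⟨e1, e2⟩ | ⟨e1, e2⟩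
      · rw [e1, e2]
      · rw [e1, e2, hcomm]
    apply hbc
    rw [← mul_right_inj b, hsq, h2]
  · rw [← h]
    exact hdvd

end Cfsg.Agent.H192.Ht
end

-- part: H192/Ht/Odd
section
/-!
# Half-transitive imprimitive linear groups of odd order are semiregular (helper192)
-/

set_option autoImplicit false
set_option linter.unusedSectionVars false

open scoped Classical

namespace Cfsg.Agent.H192.Ht

open Cfsg.Agent.H828.HT
open Cfsg.Agent.H960.HT (Irr Sys)

universe u

variable {p : ℕ} [Fact p.Prime] {V : Type u} [AddCommGroup V] [Module (ZMod p) V] [Finite V]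
variable {G : Subgroup (V ≃ₗ[ZMod p] V)} {B : Set (Submodule (ZMod p) V)} {h : ℕ}

theorem zero_of_mem (H : Sys G B) {X : Submodule (ZMod p) V} (hX : X ∈ B) {v : V} (hv : v ∈ X)
    (hv' : v ∈ sSup (B \ {X})) : v = 0 :=
  (Submodule.disjoint_def.1 (H.ind hX)) v hv hv'

theorem mem_other {X Y : Submodule (ZMod p) V} (hY : Y ∈ B) (hne : Y ≠ X) {v : V} (hv : v ∈ Y) :
    v ∈ sSup (B \ {X}) :=
  (le_sSup (show Y ∈ B \ {X} from ⟨hY, hne⟩) : Y ≤ sSup (B \ {X})) hv

theorem fix_or_swap (H : Sys G B) {X Y : Submodule (ZMod p) V} (hX : X ∈ B) (hY : Y ∈ B) (hne : X ≠ Y) {s t : V}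
    (hs : s ∈ X) (ht : t ∈ Y) (hs0 : s ≠ 0) (ht0 : t ≠ 0) {g : V ≃ₗ[ZMod p] V} (hg : g ∈ G)
    (hgst : g (s + t) = s + t) : (g s = s ∧ g t = t) ∨ (g s = t ∧ g t = s) := by
  have hinj : Function.Injective (Submodule.map (g : V →ₗ[ZMod p] V)) := Submodule.map_injective_of_injective g.injective
  have gs0 : g s ≠ 0 := fun h => hs0 ((LinearEquiv.map_eq_zero_iff g).1 h)
  have gt0 : g t ≠ 0 := fun h => ht0 ((LinearEquiv.map_eq_zero_iff g).1 h)
  have e : g s + g t = s + t := by rw [← map_add, hgst]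
  have m1 : g s ∈ X.map (g : V →ₗ[ZMod p] V) := ⟨s, hs, rfl⟩
  have m2 : g t ∈ Y.map (g : V →ₗ[ZMod p] V) := ⟨t, ht, rfl⟩
  have hne' : X.map (g : V →ₗ[ZMod p] V) ≠ Y.map (g : V →ₗ[ZMod p] V) := fun h => hne (hinj h)
  have b1 := H.perm g hg X hX
  have b2 := H.perm g hg Y hY
  generalize X.map (g : V →ₗ[ZMod p] V) = X' at m1 hne' b1
  generalize Y.map (g : V →ₗ[ZMod p] V) = Y' at m2 hne' b2
  have c1 : X' = X ∨ X' = Y := by
    by_contra hcon
    push Not at hcon
    refine gs0 (zero_of_mem H b1 m1 ?_)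
    have : g s = s + t - g t := by rw [← e]; abel
    rw [this]
    exact Submodule.sub_mem _ (Submodule.add_mem _ (mem_other hX hcon.1.symm hs) (mem_other hY hcon.2.symm ht))
      (mem_other b2 hne'.symm m2)
  have c2 : Y' = X ∨ Y' = Y := by
    by_contra hcon
    push Not at hcon
    refine gt0 (zero_of_mem H b2 m2 ?_)
    have : g t = s + t - g s := by rw [← e]; abel
    rw [this]
    exact Submodule.sub_mem _ (Submodule.add_mem _ (mem_other hX hcon.1.symm hs) (mem_other hY hcon.2.symm ht))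
      (mem_other b1 hne' m1)
  rcases c1 with rfl | rfl <;> rcases c2 with rfl | rfl
  · exact absurd rfl hne'
  · left
    have h1 : g s - s = 0 := zero_of_mem H hX (Submodule.sub_mem _ m1 hs) (by
      have : g s - s = t - g t := by rw [sub_eq_sub_iff_add_eq_add, e, add_comm]
      rw [this]
      exact Submodule.sub_mem _ (mem_other hY hne.symm ht) (mem_other hY hne.symm m2))
    have h2 := sub_eq_zero.1 h1
    rw [h2] at e
    exact ⟨h2, add_left_cancel e⟩
  · right
    have h1 : g s - t = 0 := zero_of_mem H hY (Submodule.sub_mem _ m1 ht) (by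
      have : g s - t = s - g t := by rw [sub_eq_sub_iff_add_eq_add, e]
      rw [this]
      exact Submodule.sub_mem _ (mem_other hX hne hs) (mem_other hX hne m2))
    have h2 := sub_eq_zero.1 h1
    rw [h2, add_comm s t] at e
    exact ⟨h2, add_left_cancel e⟩
  · exact absurd rfl hne'

theorem stab_eq (H : Sys G B) (hodd : Odd (Nat.card G)) (hh : Half G h) {X Y : Submodule (ZMod p) V} (hX : X ∈ B)
    (hY : Y ∈ B) (hne : X ≠ Y) {s t : V} (hs : s ∈ X) (ht : t ∈ Y) (hs0 : s ≠ 0) (ht0 : t ≠ 0) :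
    MulAction.stabilizer G s = MulAction.stabilizer G t := by
  have hd : ∀ v : V, v ∈ X → v ∈ Y → v = 0 := fun v h1 h2 => zero_of_mem H hX h1 (mem_other hY hne.symm h2)
  have hst : s + t ≠ 0 := by
    intro h0
    apply hs0
    refine hd s hs ?_
    rw [eq_neg_of_add_eq_zero_left h0]
    exact Y.neg_mem ht
  have hle : ∀ g ∈ MulAction.stabilizer G (s + t), g ∈ MulAction.stabilizer G s ∧ g ∈ MulAction.stabilizer G t := by
    intro g hg
    rcases fix_or_swap H hX hY hne hs ht hs0 ht0 g.2 hg with ⟨h1, h2⟩ | ⟨h1, h2⟩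
    · exact ⟨h1, h2⟩
    · exfalso
      have hsq : (g ^ 2) • s = s := by
        rw [pow_two, mul_smul]
        change (g : V ≃ₗ[ZMod p] V) ((g : V ≃ₗ[ZMod p] V) s) = s
        rw [h1, h2]
      have hcop : (2 : ℕ).Coprime (orderOf g) := by
        have := Nat.Coprime.coprime_dvd_right (orderOf_dvd_natCard g) (Nat.coprime_two_left.2 hodd)
        exact this
      obtain ⟨k, hk⟩ := exists_pow_eq_self_of_coprime hcop
      have h3 : g • s = s := by
        rw [← hk]
        exact (MulAction.stabilizer G s).pow_mem (show g ^ 2 ∈ MulAction.stabilizer G s from hsq) k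
      have h4 : (g : V ≃ₗ[ZMod p] V) s = s := h3
      rw [h1] at h4
      exact ht0 (hd t (h4 ▸ hs) ht)
  have e1 : MulAction.stabilizer G (s + t) = MulAction.stabilizer G s :=
    Subgroup.eq_of_le_of_card_ge (fun g hg => (hle g hg).1) (by rw [hh _ hst, hh _ hs0])
  have e2 : MulAction.stabilizer G (s + t) = MulAction.stabilizer G t :=
    Subgroup.eq_of_le_of_card_ge (fun g hg => (hle g hg).2) (by rw [hh _ hst, hh _ ht0])
  rw [← e1, e2]

/-- **imprimitive groups of odd order** -/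
theorem imp_odd (H : Sys G B) (hodd : Odd (Nat.card G)) (hh : Half G h) (h2 : 2 ≤ h) (hirr : Irr G) : False := by
  obtain ⟨X, hX, Y, hY, hne⟩ := H.nt
  obtain ⟨s, hs, hs0⟩ := (Submodule.ne_bot_iff X).1 (H.ne X hX)
  obtain ⟨t, ht, ht0⟩ := (Submodule.ne_bot_iff Y).1 (H.ne Y hY)
  have hst := stab_eq H hodd hh hX hY hne hs ht hs0 ht0
  have key : ∀ g ∈ MulAction.stabilizer G s, g = 1 := by
    intro g hg
    have hblk : ∀ Z ∈ B, ∀ v ∈ Z, (g : V ≃ₗ[ZMod p] V) v = v := by
      intro Z hZ v hv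
      by_cases hv0 : v = 0
      · rw [hv0, map_zero]
      by_cases hZX : X = Z
      · subst hZX
        have h1 := stab_eq H hodd hh hX hY hne hv ht hv0 ht0
        have : g ∈ MulAction.stabilizer G v := by rw [h1, ← hst]; exact hg
        exact this
      · have h1 := stab_eq H hodd hh hX hZ hZX hs hv hs0 hv0
        have : g ∈ MulAction.stabilizer G v := by rw [← h1]; exact hg
        exact this
    have htop : sSup B = ⊤ := H.iSup_top hirr (le_refl _) H.nt.nonempty H.perm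
    have hle : sSup B ≤ fx (g : V ≃ₗ[ZMod p] V) := sSup_le fun Z hZ v hv => mem_fx.2 (hblk Z hZ v hv)
    rw [htop] at hle
    apply Subtype.ext
    apply LinearEquiv.ext
    intro v
    exact mem_fx.1 (hle (Submodule.mem_top : v ∈ ⊤))
  have h1 : Nat.card (MulAction.stabilizer G s) = 1 := by
    rw [Nat.card_eq_one_iff_unique]
    exact ⟨⟨fun a b => Subtype.ext ((key a a.2).trans (key b b.2).symm)⟩, ⟨1⟩⟩
  rw [hh s hs0] at h1
  omega

end Cfsg.Agent.H192.Ht
end

-- part: H192/Ht/Up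
section
/-!
# Subgroups of `G ≤ GL(V)` as subgroups of `GL(V)` (helper192)
-/

set_option autoImplicit false
set_option linter.unusedSectionVars false

namespace Cfsg.Agent.H192.Ht

open Cfsg.Agent.H828.HT Cfsg.Agent.H662.HT
open Cfsg.Agent.H960.HT (Irr Homog NIrr Sys)

universe u

variable {p : ℕ} [Fact p.Prime] {V : Type u} [AddCommGroup V] [Module (ZMod p) V] [Finite V]
variable {G : Subgroup (V ≃ₗ[ZMod p] V)}

/-- a subgroup of `G` as a subgroup of `GL(V)` -/
def up (L : Subgroup G) : Subgroup (V ≃ₗ[ZMod p] V) := L.map G.subtype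

theorem mem_up {L : Subgroup G} {x : V ≃ₗ[ZMod p] V} : x ∈ up L ↔ ∃ y ∈ L, (y : V ≃ₗ[ZMod p] V) = x :=
  Subgroup.mem_map

theorem coe_mem_up {L : Subgroup G} {x : G} : (x : V ≃ₗ[ZMod p] V) ∈ up L ↔ x ∈ L := by
  rw [mem_up]
  constructor
  · rintro ⟨y, hy, he⟩
    rwa [← Subtype.ext he]
  · intro h
    exact ⟨x, h, rfl⟩

theorem up_le (L : Subgroup G) : up L ≤ G := by
  intro x hx
  obtain ⟨y, -, rfl⟩ := mem_up.1 hx
  exact y.2

theorem up_mono {L M : Subgroup G} (h : L ≤ M) : up L ≤ up M := Subgroup.map_mono h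

theorem up_normal {L : Subgroup G} (hL : L.Normal) : ∀ g ∈ G, ∀ x ∈ up L, g * x * g⁻¹ ∈ up L := by
  intro g hg x hx
  obtain ⟨y, hy, rfl⟩ := mem_up.1 hx
  exact (mem_up.2 ⟨(⟨g, hg⟩ * y * (⟨g, hg⟩ : G)⁻¹ :), hL.conj_mem y hy ⟨g, hg⟩, rfl⟩ :)

/-- the isomorphism -/
noncomputable def upE (L : Subgroup G) : L ≃* up L := L.equivMapOfInjective G.subtype G.subtype_injective

theorem upE_smul (L : Subgroup G) (x : L) (v : V) : upE L x • v = x • v := rfl

theorem card_up (L : Subgroup G) : Nat.card (up L) = Nat.card L := (Nat.card_congr (upE L).toEquiv).symm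

theorem comm_up {L M : Subgroup G} (h : ∀ x ∈ L, ∀ y ∈ M, x * y = y * x) : ∀ x ∈ up L, ∀ y ∈ up M, x * y = y * x := by
  intro x hx y hy
  obtain ⟨x', hx', rfl⟩ := mem_up.1 hx
  obtain ⟨y', hy', rfl⟩ := mem_up.1 hy
  exact congrArg Subtype.val (h x' hx' y' hy')

theorem card_center_up (L : Subgroup G) : Nat.card (Subgroup.center (up L)) = Nat.card (Subgroup.center L) := by
  have h : (Subgroup.center L).map (upE L).toMonoidHom = Subgroup.center (up L) := by
    ext x
    simp only [Subgroup.mem_map, Subgroup.mem_center_iff]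
    constructor
    · rintro ⟨y, hy, rfl⟩ z
      obtain ⟨w, rfl⟩ := (upE L).surjective z
      change upE L w * upE L y = upE L y * upE L w
      rw [← map_mul, ← map_mul, hy]
    · intro hx
      refine ⟨(upE L).symm x, fun z => ?_, (upE L).apply_symm_apply x⟩
      apply (upE L).injective
      rw [map_mul, map_mul, (upE L).apply_symm_apply, hx]
  rw [← h]
  exact (Nat.card_congr ((Subgroup.center L).equivMapOfInjective _ (upE L).injective).toEquiv).symm

theorem cyclic_up {L : Subgroup G} (h : IsCyclic L) : IsCyclic (up L) :=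
  isCyclic_of_surjective (upE L) (upE L).surjective

theorem sym_up {s a : ℕ} {L : Subgroup G} (H : _root_.Cfsg.Agent.H662.HT.Sym s a L V) : _root_.Cfsg.Agent.H662.HT.Sym s a (up L) V := H.congr (upE L) (upE_smul L)

theorem full_up {s : ℕ} {L : Subgroup G} (H : Full s L) : Full s (up L) := H.congr (upE L)

/-- homogeneous normal subgroups act faithfully on invariant subspaces -/
theorem qpr [Nontrivial V] (hirr : Irr G)
    (hhom : ∀ N : Subgroup (V ≃ₗ[ZMod p] V), N ≤ G → (∀ g ∈ G, ∀ n ∈ N, g * n * g⁻¹ ∈ N) → Homog N) : QPr G := by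
  intro L hL W hW hinv x hx hfix
  have hinv' : ∀ n ∈ up L, ∀ v ∈ W, n v ∈ W := by
    intro n hn v hv
    obtain ⟨y, hy, rfl⟩ := mem_up.1 hn
    exact hinv y hy v hv
  obtain ⟨M, hMW, hM⟩ := Cfsg.Agent.H960.HT.exists_nirr (up L) hW hinv'
  have h1 := Cfsg.Agent.H960.HT.Homog.faithful (hhom (up L) (up_le L) (up_normal hL)) hirr (up_normal hL) hM
    (coe_mem_up.2 hx) (fun v hv => hfix v (hMW hv))
  exact Subtype.ext h1

end Cfsg.Agent.H192.Ht
end

-- part: H192/Ht/Sol
section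
/-!
# Soluble half-transitive linear groups, coprime case (helper192)
-/

set_option autoImplicit false
set_option linter.unusedSectionVars false

open scoped commutatorElement

namespace Cfsg.Agent.H192.Ht

open Cfsg.Agent.H828.HT Cfsg.Agent.H662.HT
open Cfsg.Agent.H960.HT (Irr Homog NIrr Sys)

universe u

section grp

variable {Γ : Type*} [Group Γ]

/-- if only `2` can be a prime order in `F / A` and the exponent of `F / A` is squarefree then it is `2` -/
theorem sq_mem {A F : Subgroup Γ} (hodd : ∀ s : ℕ, s.Prime → s ≠ 2 → ∀ x ∈ F, x ^ s ∈ A → x ∈ A) :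
    ∀ n : ℕ, Squarefree n → ∀ x ∈ F, x ^ n ∈ A → x ^ 2 ∈ A := by
  intro n
  induction n using Nat.strong_induction_on with
  | _ n ih =>
  intro hn x hx hxn
  by_cases h1 : ∃ s : ℕ, s.Prime ∧ s ≠ 2 ∧ s ∣ n
  · obtain ⟨s, hs, hs2, k, rfl⟩ := h1
    have hk : Squarefree k := hn.squarefree_of_dvd (Dvd.intro_left s rfl)
    have hk0 : k ≠ 0 := hk.ne_zero
    refine ih k (by nlinarith [hs.two_le, Nat.pos_of_ne_zero hk0]) hk x hx ?_
    refine hodd s hs hs2 (x ^ k) (F.pow_mem hx k) ?_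
    rwa [← pow_mul, mul_comm]
  · push Not at h1
    have hn0 : n ≠ 0 := hn.ne_zero
    have h2 : n ∣ 2 := by
      have h3 : n.primeFactors ⊆ {2} := by
        intro s hs
        have hs' := Nat.prime_of_mem_primeFactors hs
        by_contra hne
        exact h1 s hs' (by simpa using hne) (Nat.dvd_of_mem_primeFactors hs)
      rw [← Nat.prod_primeFactors_of_squarefree hn]
      calc ∏ q ∈ n.primeFactors, q ∣ ∏ q ∈ {2}, q := Finset.prod_dvd_prod_of_subset _ _ _ h3
        _ = 2 := by simp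
    obtain ⟨k, hk⟩ := h2
    rw [hk, pow_mul]
    exact A.pow_mem hxn k

/-- an element commuting with `G` modulo the maximal abelian normal subgroup `A` and centralising `A` is in `A` -/
theorem fpf_of_max {A : Subgroup Γ} (hA : A.Normal) (hAc : ∀ x ∈ A, ∀ y ∈ A, x * y = y * x)
    (hmax : ∀ B : Subgroup Γ, B.Normal → (∀ x ∈ B, ∀ y ∈ B, x * y = y * x) → A ≤ B → B = A) {x : Γ}
    (hx : ∀ y ∈ A, x * y = y * x) (hg : ∀ g : Γ, g * x * g⁻¹ * x⁻¹ ∈ A) : x ∈ A := by
  set B : Subgroup Γ := Subgroup.zpowers x ⊔ A with hB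
  have hAB : A ≤ B := le_sup_right
  have hxB : x ∈ B := (le_sup_left : Subgroup.zpowers x ≤ B) (Subgroup.mem_zpowers x)
  have hn : B.Normal := by
    refine ⟨fun u hu g => ?_⟩
    obtain ⟨k, hk, a, ha, rfl⟩ := Subgroup.mem_sup_of_normal_right.1 hu
    obtain ⟨n, rfl⟩ := Subgroup.mem_zpowers_iff.1 hk
    have e : g * (x ^ n * a) * g⁻¹ = (g * x * g⁻¹) ^ n * (g * a * g⁻¹) := by
      rw [conj_zpow]; group
    rw [e]
    have h1 : g * x * g⁻¹ ∈ B := by
      have : g * x * g⁻¹ = (g * x * g⁻¹ * x⁻¹) * x := by group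
      rw [this]
      exact B.mul_mem (hAB (hg g)) hxB
    exact B.mul_mem (B.zpow_mem h1 n) (hAB (hA.conj_mem a ha g))
  have hc : ∀ u ∈ B, ∀ v ∈ B, u * v = v * u := by
    intro u hu v hv
    obtain ⟨k, hk, a, ha, rfl⟩ := Subgroup.mem_sup_of_normal_right.1 hu
    obtain ⟨k', hk', a', ha', rfl⟩ := Subgroup.mem_sup_of_normal_right.1 hv
    obtain ⟨n, rfl⟩ := Subgroup.mem_zpowers_iff.1 hk
    obtain ⟨n', rfl⟩ := Subgroup.mem_zpowers_iff.1 hk'
    have c1 : Commute x a := hx a ha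
    have c2 : Commute x a' := hx a' ha'
    have c3 : Commute a a' := hAc a ha a' ha'
    have h1 : Commute (x ^ n) (x ^ n') := (Commute.refl x).zpow_zpow n n'
    have h2 : Commute (x ^ n) a' := c2.zpow_left n
    have h3 : Commute a (x ^ n') := (c1.zpow_left n').symm
    exact ((h1.mul_right h2).mul_left (h3.mul_right c3))
  rw [← hmax B hn hc hAB]
  exact hxB

theorem card_mul_relIndex {A B : Subgroup Γ} (h : A ≤ B) : Nat.card A * A.relIndex B = Nat.card B := by
  have := Subgroup.relIndex_mul_relIndex ⊥ A B bot_le h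
  rwa [Subgroup.relIndex_bot_left, Subgroup.relIndex_bot_left] at this

/-- `N = E A` by counting -/
theorem mem_sup_of_card [Finite Γ] {A N E : Subgroup Γ} (hA : A.Normal) (hAN : A ≤ N) (hEN : E ≤ N) {k : ℕ}
    (hN : Nat.card N = Nat.card A * k) (hE : Nat.card E = 2 * k) (hAE : Nat.card (A ⊓ E : Subgroup Γ) ≤ 2) :
    N ≤ E ⊔ A := by
  have h1 : A.relIndex (E ⊔ A) = A.relIndex E := by
    rw [sup_comm]; exact Subgroup.relIndex_sup_left ..
  have h2 : (A ⊓ E : Subgroup Γ).relIndex E * Nat.card (A ⊓ E : Subgroup Γ) = Nat.card E := by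
    rw [mul_comm]
    exact card_mul_relIndex inf_le_right
  have h2' : A.relIndex E = (A ⊓ E : Subgroup Γ).relIndex E := by rw [Subgroup.inf_relIndex_right]
  have h3 : Nat.card A * A.relIndex (E ⊔ A) = Nat.card (E ⊔ A : Subgroup Γ) :=
    card_mul_relIndex le_sup_right
  have h4 : Nat.card N ≤ Nat.card (E ⊔ A : Subgroup Γ) := by
    rw [hN, ← h3, h1, h2']
    refine Nat.mul_le_mul_left _ ?_
    rw [hE] at h2
    nlinarith only [hAE, h2]
  have h5 : E ⊔ A ≤ N := sup_le hEN hAN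
  have h6 := Subgroup.eq_of_le_of_card_ge h5 h4
  rw [h6]

end grp

variable {p : ℕ} [Fact p.Prime] {V : Type u} [AddCommGroup V] [Module (ZMod p) V] [Finite V]
variable {G : Subgroup (V ≃ₗ[ZMod p] V)} {h : ℕ}

/-- the bridge to `ETwo` -/
theorem etwo_of {A F : Subgroup G} (hA : A.Normal) (hF : F.Normal) (hAF : A ≤ F)
    (hAc : ∀ x ∈ A, ∀ y ∈ A, x * y = y * x)
    (hmax : ∀ B : Subgroup G, B.Normal → (∀ x ∈ B, ∀ y ∈ B, x * y = y * x) → A ≤ B → B = A)
    (hcen : ∀ x ∈ F, ∀ y ∈ A, x * y = y * x) (hcomm : ∀ x ∈ F, ∀ y ∈ F, ⁅x, y⁆ ∈ A)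
    (hC : ∀ g : G, (∀ x ∈ F, g * x = x * g) → g ∈ A) (hcyc : IsCyclic A)
    (hsemi : ∀ z ∈ A, z ≠ 1 → ∀ v : V, z • v = v → v = 0) (hsq : ∀ x ∈ F, x ^ 2 ∈ A)
    (hcard : Nat.card F = 4 * Nat.card A) : ETwo G (up A) (up F) where
  AF := up_mono hAF
  FG := up_le F
  nA := up_normal hA
  nF := up_normal hF
  cyc := cyclic_up hcyc
  semi := by
    intro a ha ha1 v hv
    obtain ⟨y, hy, rfl⟩ := mem_up.1 ha
    exact hsemi y hy (fun h => ha1 (by rw [h]; rfl)) v hv
  cenA := fun a ha x hx => (comm_up hcen x hx a ha).symm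
  card := by rw [card_up, card_up, hcard]
  comm := by
    intro x hx y hy
    obtain ⟨x', hx', rfl⟩ := mem_up.1 hx
    obtain ⟨y', hy', rfl⟩ := mem_up.1 hy
    exact mem_up.2 ⟨_, hcomm x' hx' y' hy', rfl⟩
  sq := by
    intro x hx
    obtain ⟨x', hx', rfl⟩ := mem_up.1 hx
    exact mem_up.2 ⟨_, hsq x' hx', by rw [pow_two]; rfl⟩
  cen := by
    intro g hg hgx
    refine (coe_mem_up (x := ⟨g, hg⟩)).2 (hC _ fun x hx => ?_)
    exact Subtype.ext (hgx x (coe_mem_up.2 hx))
  fpf := by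
    intro x hx hgx
    obtain ⟨x', hx', rfl⟩ := mem_up.1 hx
    refine coe_mem_up.2 (fpf_of_max hA hAc hmax (hcen x' hx') fun g => ?_)
    exact coe_mem_up.1 (hgx g g.2)

/-- **quasi-primitive groups** -/
theorem qp_case (T : Leaves.{u}) [Nontrivial V] (hirr : Irr G)
    (hhom : ∀ N : Subgroup (V ≃ₗ[ZMod p] V), N ≤ G → (∀ g ∈ G, ∀ n ∈ N, g * n * g⁻¹ ∈ N) → Homog N)
    (hsol : Group.IsSolvable G) (hcop : ¬ p ∣ Nat.card G) (hh : Half G h) (h2 : 2 ≤ h) :
    (∃ S : Subgroup (V ≃ₗ[ZMod p] V), IsCyclic S ∧ Nat.card S = Nat.card V - 1 ∧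
      ∀ g ∈ G, ∀ s ∈ S, g * s * g⁻¹ ∈ S) ∨ Nat.card V ∈ ({9, 25, 49, 121, 289, 81} : Set ℕ) := by
  have hfinE : Finite (V ≃ₗ[ZMod p] V) := finG
  have hq : QPr G := qpr hirr hhom
  obtain ⟨A, F, hA, hF, hAF, hAc, hmax, hor⟩ := Cfsg.Agent.H559.HT.exists_F (G := G)
  rcases hor with ⟨L, hLn, hL1, hL2, -⟩ | ⟨hcen, hcomm, hexp, hC⟩
  · exact absurd (Group.IsSolvable.commutator_lt_of_ne_bot hL1) (by rw [hL2]; exact lt_irrefl _)
  obtain ⟨hcyc, hsemi⟩ := Cfsg.Agent.H298.HT.cyclic_semi hq hA hAc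
  have hodd : ∀ s : ℕ, s.Prime → s ≠ 2 → ∀ x ∈ F, x ^ s ∈ A → x ∈ A := by
    intro s hs hs2 x hx hxs
    obtain ⟨N, hN, hAN, hmem, hor⟩ := Cfsg.Agent.H298.HT.sym_of_F hq hcop hA hF hAF hAc hmax hcen hcomm hexp hs
    rcases hor with rfl | ⟨a, ha, H, hc, hfull⟩
    · exact (hmem x).2 ⟨hx, hxs⟩
    · exfalso
      refine T.full_false (up_le N) (up_normal hN) hcop hh h2 (sym_up H) (full_up (hfull (Or.inl hs2))) (Or.inl ?_)
      have := hs.two_le
      omega
  obtain ⟨n, hnsq, hn⟩ := hexp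
  have hsq : ∀ x ∈ F, x ^ 2 ∈ A := fun x hx => sq_mem hodd n hnsq x hx (hn x hx)
  obtain ⟨N, hN, hAN, hmem, hor⟩ := Cfsg.Agent.H298.HT.sym_of_F hq hcop hA hF hAF hAc hmax hcen hcomm ⟨n, hnsq, hn⟩
    Nat.prime_two
  have hFN : F = N := by
    apply le_antisymm
    · intro x hx
      exact (hmem x).2 ⟨hx, hsq x hx⟩
    · intro x hx
      exact ((hmem x).1 hx).1
  obtain ⟨K, iK, iM, χ, σ, hK⟩ := T.exists_field hirr (up_le A) (up_normal hA) (comm_up hAc) (hhom _ (up_le A) (up_normal hA))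
  rcases hor with hNA | ⟨a, ha, H, hc, hfull⟩
  · left
    refine T.semilinear_case (up_le A) hcop ?_ (comm_up hAc) hK hh h2
    intro g hg hgx
    refine (coe_mem_up (x := ⟨g, hg⟩)).2 (hC _ fun x hx => ?_)
    rw [hFN, hNA] at hx
    exact Subtype.ext (hgx x (coe_mem_up.2 hx))
  · right
    have hcenN : Nat.card (Subgroup.center N) = Nat.card A := by
      rw [← hc]
      exact Nat.card_congr ((Subgroup.center N).equivMapOfInjective N.subtype N.subtype_injective).toEquiv
    have hcardN := H.card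
    rw [hcenN] at hcardN
    by_cases ha1 : a = 1
    · subst ha1
      have E : ETwo G (up A) (up F) := etwo_of hA hF hAF hAc hmax hcen hcomm hC hcyc hsemi hsq (by
        rw [hFN, hcardN]; ring)
      have h3 := e_two_three E
      have hp2 : p ≠ 2 := by
        rintro rfl
        apply hcop
        have h4 : Nat.card (up F) ∣ Nat.card G := by
          rw [card_up]; exact Subgroup.card_subgroup_dvd_card F
        refine dvd_trans ?_ h4
        rw [card_up, hFN, hcardN]
        exact ⟨Nat.card A * 2, by ring⟩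
      have hp3 : p ≠ 3 := by
        rintro rfl
        exact hcop h3
      have hp := (Fact.out : p.Prime)
      have hp5 : 5 ≤ p := by
        have h2p := hp.two_le
        by_contra hlt
        have : p = 4 := by omega
        rw [this] at hp
        exact absurd hp (by norm_num)
      rcases T.e_two_size E hK hp5 hcop hh h2 with ⟨hV, h5⟩ | ⟨hV, hKc, h5⟩
      · rcases h5 with rfl | rfl | rfl | rfl | rfl
        · rw [hV]; norm_num
        · rw [hV]; norm_num
        · rw [hV]; norm_num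
        · exact (T.e_two_thirteen E hK rfl hV hcop hh h2).elim
        · rw [hV]; norm_num
      · rcases h5 with rfl | rfl | rfl
        · exact (T.e_two_five E hK rfl hV hKc hcop hh h2).elim
        · exact (T.e_two_seven E hK rfl hV hKc hcop hh h2).elim
        · exact (T.e_two_eleven E hK rfl hV hKc hcop hh h2).elim
    · have ha2 : 2 ≤ a := by omega
      by_cases h4 : 4 ∣ Nat.card A
      · exact (T.full_false (up_le N) (up_normal hN) hcop hh h2 (sym_up H) (full_up (hfull (Or.inr h4))) (Or.inr ha2)).elim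
      · obtain ⟨E, hE, hEN, HE, hzE⟩ := Cfsg.Agent.H583.HT.two_part hA hN H hc h4
        obtain ⟨h3, rfl⟩ := T.two_three (up_le E) (up_normal hE) hcop hh h2 (sym_up HE)
          (by rw [card_center_up, hzE]) ha2
        subst h3
        have hcardE := HE.card
        rw [hzE] at hcardE
        have hAE : Nat.card (A ⊓ E : Subgroup G) ≤ 2 := by
          rw [← hzE]
          refine Nat.card_le_card_of_injective
            (fun x : (A ⊓ E : Subgroup G) => (⟨⟨x.1, x.2.2⟩, Subgroup.mem_center_iff.2 fun y => Subtype.ext ?_⟩ :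
              Subgroup.center E)) ?_
          · exact hcen y.1 (by rw [hFN]; exact hEN y.2) x.1 x.2.1
          · intro x y hxy
            apply Subtype.ext
            exact congrArg (fun z : Subgroup.center E => ((z : E) : G)) hxy
        have hNE := mem_sup_of_card hA hAN hEN hcardN hcardE hAE
        have h81 : Nat.card V = 81 := by
          refine T.p_three (up_le A) (up_le E) hcop hh h2 (up_normal hA) (up_normal hE) (cyclic_up hcyc) ?_ ?_
            (sym_up HE) (by rw [card_center_up, hzE]) (by rw [card_up]; exact h4)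
          · exact comm_up fun x hx y hy => (hcen y (by rw [hFN]; exact hEN hy) x hx).symm
          · intro g hg hgE hgA
            refine (coe_mem_up (x := ⟨g, hg⟩)).2 (hC _ fun x hx => ?_)
            rw [hFN] at hx
            obtain ⟨y, hy, c, hc', rfl⟩ := Subgroup.mem_sup_of_normal_right.1 (hNE hx)
            have c1 : Commute (⟨g, hg⟩ : G) y := Subtype.ext (hgE y (coe_mem_up.2 hy))
            have c2 : Commute (⟨g, hg⟩ : G) c := Subtype.ext (hgA c (coe_mem_up.2 hc'))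
            exact c1.mul_right c2
        rw [h81]; norm_num

/-- **Soluble half-transitive linear groups of order prime to `p`** (Passman) -/
theorem sol_coprime (T : Leaves.{u}) [Nontrivial V] (hsol : Group.IsSolvable G) (hcop : ¬ p ∣ Nat.card G) (hh : Half G h)
    (h2 : 2 ≤ h) :
    (∃ S : Subgroup (V ≃ₗ[ZMod p] V), IsCyclic S ∧ Nat.card S = Nat.card V - 1 ∧
      ∀ g ∈ G, ∀ s ∈ S, g * s * g⁻¹ ∈ S) ∨
    (p ≠ 2 ∧ ∃ q : ℕ, Nat.card V = q ^ 2 ∧ Nat.card G = 4 * (q - 1)) ∨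
    Nat.card V ∈ ({9, 25, 49, 121, 289, 81} : Set ℕ) := by
  have hirr : Irr G := Cfsg.Agent.H960.HT.irr_of_half hcop hh h2
  by_cases hhom : ∀ N : Subgroup (V ≃ₗ[ZMod p] V), N ≤ G → (∀ g ∈ G, ∀ n ∈ N, g * n * g⁻¹ ∈ N) → Homog N
  · rcases qp_case T hirr hhom hsol hcop hh h2 with h1 | h1
    · exact Or.inl h1
    · exact Or.inr (Or.inr h1)
  · push Not at hhom
    obtain ⟨N, -, hN, hnh⟩ := hhom
    obtain ⟨B, H⟩ := (Cfsg.Agent.H960.HT.clifford hirr hN).resolve_left hnh
    by_cases hp2 : p = 2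
    · subst hp2
      exact (imp_odd H (Nat.not_even_iff_odd.1 fun he => hcop he.two_dvd) hh h2 hirr).elim
    · rcases H.cases hp2 hh h2 hcop hirr with ⟨-, r, h1, h3, -⟩ | ⟨-, h1, -⟩
      · exact Or.inr (Or.inl ⟨hp2, r, h1, h3⟩)
      · right; right
        rw [h1]; norm_num

end Cfsg.Agent.H192.Ht
end

private theorem dce_a54572015f42 : _root_.True := by
  try have : _root_.True := by simp only [_root_.Cfsg.Agent.H192.Ht.cjF.congr_simp]
  exact _root_.True.intro
end

section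
prune_inst 0xfceffdefbcbfffffff7e7ff7f8cffc39d49ffff6dff94bffe0ebefcb9f138229e5fbad0de0d0fe0ec2603400b87853fb7eee7fe36fdc7ffffd5df45ffbee1fb7efbd0171d68c340fbe6fff93f0778e7f000000000000000000000000000000000000000002

-- part: H583/HT/Three
section
prune_inst 0x2004000000000000000042001c4282000000004800000000020006808c000000002080000112000080040030000000080000000000000a000000411c0481000280020000a000000000000000000000000000000000000000000000000000200000000
set_option linter.all false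
open scoped Cfsg.Agent.FastGrp

-- part: H528/HT/Semi
section
/-!
# Semilinear maps of prime order over finite fields (S3577, S3540, TEAM HT-E, P3; helper528)

* `card_fix_semi` : `|C_W(g)| ^ r ≤ |W|` for a semilinear map `g ∉ GL(W)` with `g ^ r = 1`, `r` a prime;
* `card_norm_semi` : `|K| = q₀ ^ r` and at most `(q₀ ^ r - 1) / (q₀ - 1)` scalars `k` have `(k g) ^ r = 1`.
-/

set_option autoImplicit false

namespace Cfsg.Agent.H528.HT

universe u

section semi

variable {K : Type*} [Field K]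

theorem pow_apply_fix {σ : K ≃+* K} {θ : K} (h : σ θ = θ) (n : ℕ) : (σ ^ n) θ = θ := by
  induction n with
  | zero => rfl
  | succ n ih => rw [pow_succ, RingAut.mul_apply, h, ih]

/-- the images of `θ` are distinct -/
theorem pow_inj {σ : K ≃+* K} {r : ℕ} (hr : r.Prime) (hσr : σ ^ r = 1) {θ : K} (hθ : σ θ ≠ θ) {i j : ℕ} (hi : i < r)
    (hj : j < r) (h : (σ ^ i) θ = (σ ^ j) θ) : i = j := by
  wlog hij : i ≤ j generalizing i j
  · exact (this hj hi h.symm (by omega)).symm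
  by_contra hne
  obtain ⟨d, rfl⟩ := Nat.exists_eq_add_of_le hij
  have hd0 : d ≠ 0 := fun h0 => hne (by rw [h0, add_zero])
  have h1 : (σ ^ d) θ = θ := by
    rw [pow_add, RingAut.mul_apply] at h
    exact ((σ ^ i).injective h).symm
  have hc : d.Coprime r := by
    rw [Nat.coprime_comm, hr.coprime_iff_not_dvd]
    intro h2
    have := Nat.le_of_dvd (by omega) h2
    omega
  obtain ⟨m, hm⟩ := exists_pow_eq_self_of_coprime (x := σ) (n := d)
    (Nat.Coprime.coprime_dvd_right (orderOf_dvd_of_pow_eq_one hσr) hc)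
  apply hθ
  rw [← hm]
  exact pow_apply_fix h1 m

/-- iterates of a semilinear map -/
theorem iter_smul {W : Type*} [AddCommGroup W] [Module K W] (σ : K ≃+* K) (g : W ≃+ W)
    (hg : ∀ (k : K) (w : W), g (k • w) = σ k • g w) (n : ℕ) (k : K) (w : W) :
    (fun w : W => g w)^[n] (k • w) = (σ ^ n) k • (fun w : W => g w)^[n] w := by
  induction n generalizing k w with
  | zero => rfl
  | succ n ih =>
    rw [Function.iterate_succ_apply, Function.iterate_succ_apply, hg, ih, pow_succ, RingAut.mul_apply]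

theorem sigma_pow {W : Type*} [AddCommGroup W] [Nontrivial W] [Module K W] (σ : K ≃+* K) {r : ℕ} (g : W ≃+ W)
    (hg : ∀ (k : K) (w : W), g (k • w) = σ k • g w) (hgr : ∀ w : W, (fun w : W => g w)^[r] w = w) : σ ^ r = 1 := by
  obtain ⟨w, hw⟩ := exists_ne (0 : W)
  ext k
  have h := iter_smul σ g hg r k w
  rw [hgr, hgr] at h
  exact (smul_left_injective K hw h).symm

/-- the product `k σ(k) ⋯ σ^(n-1)(k)` -/
def nrm (σ : K ≃+* K) (n : ℕ) (k : K) : K := ∏ j ∈ Finset.range n, (σ ^ j) k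

theorem iter_mul {W : Type*} [AddCommGroup W] [Module K W] (σ : K ≃+* K) (g : W ≃+ W)
    (hg : ∀ (k : K) (w : W), g (k • w) = σ k • g w) (n : ℕ) (k : K) (w : W) :
    (fun w : W => k • g w)^[n] w = nrm σ n k • (fun w : W => g w)^[n] w := by
  induction n with
  | zero => simp [nrm]
  | succ n ih =>
    rw [Function.iterate_succ_apply', Function.iterate_succ_apply', ih]
    show k • g (nrm σ n k • (fun w : W => g w)^[n] w) = nrm σ (n + 1) k • g ((fun w : W => g w)^[n] w)
    rw [hg, smul_smul]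
    congr 1
    rw [nrm, nrm, Finset.prod_range_succ', map_prod, mul_comm]
    simp only [pow_succ', RingAut.mul_apply, pow_zero]
    rfl

/-- **P3**: fixed points of a semilinear map of prime order -/
theorem card_fix_semi' {K W : Type*} [Field K] [AddCommGroup W] [Finite W] [Module K W]
    (σ : K ≃+* K) (hσ : σ ≠ 1) {r : ℕ} (hr : r.Prime) (g : W ≃+ W) (hg : ∀ (k : K) (w : W), g (k • w) = σ k • g w)
    (hgr : ∀ w : W, (fun w : W => g w)^[r] w = w) : Nat.card {w : W // g w = w} ^ r ≤ Nat.card W := by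
  rcases subsingleton_or_nontrivial W with hW | hW
  · have h1 : Nat.card {w : W // g w = w} ≤ 1 := by
      have : Subsingleton {w : W // g w = w} := inferInstance
      exact Finite.card_le_one_iff_subsingleton.2 this
    calc Nat.card {w : W // g w = w} ^ r ≤ 1 ^ r := Nat.pow_le_pow_left h1 r
      _ = 1 := one_pow r
      _ ≤ Nat.card W := Nat.card_pos
  have hσr := sigma_pow σ g hg hgr
  obtain ⟨θ, hθ⟩ : ∃ θ : K, σ θ ≠ θ := by
    by_contra hcon
    push Not at hcon
    exact hσ (RingEquiv.ext hcon)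
  have hcard : Nat.card (Fin r → {w : W // g w = w}) = Nat.card {w : W // g w = w} ^ r := by
    rw [Nat.card_fun, Nat.card_fin]
  rw [← hcard]
  refine Nat.card_le_card_of_injective (fun f : Fin r → {w : W // g w = w} => ∑ i : Fin r, θ ^ (i : ℕ) • (f i : W)) ?_
  intro f f' hff
  -- the differences
  set d : Fin r → W := fun i => (f i : W) - (f' i : W) with hd
  have hfix : ∀ (n : ℕ) (w : W), g w = w → (fun w : W => g w)^[n] w = w := by
    intro n w hw
    exact Function.iterate_fixed hw n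
  have hdfix : ∀ i, g (d i) = d i := fun i => by
    show g ((f i : W) - (f' i : W)) = (f i : W) - (f' i : W)
    rw [map_sub, (f i).2, (f' i).2]
  have h0 : ∑ i : Fin r, θ ^ (i : ℕ) • d i = 0 := by
    have h1 : ∑ i : Fin r, θ ^ (i : ℕ) • (f i : W) = ∑ i : Fin r, θ ^ (i : ℕ) • (f' i : W) := hff
    simp only [hd, smul_sub, Finset.sum_sub_distrib, h1, sub_self]
  have hiter0 : ∀ n : ℕ, (fun w : W => g w)^[n] (∑ i : Fin r, θ ^ (i : ℕ) • d i) =
      ∑ i : Fin r, ((σ ^ n) θ) ^ (i : ℕ) • d i := by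
    intro n
    induction n with
    | zero => rfl
    | succ n ih =>
      rw [Function.iterate_succ_apply', ih]
      show g (∑ i : Fin r, ((σ ^ n) θ) ^ (i : ℕ) • d i) = _
      rw [map_sum]
      refine Finset.sum_congr rfl fun i _ => ?_
      rw [hg, hdfix, map_pow, pow_succ' σ, RingAut.mul_apply]
  have h2 : ∀ j : Fin r, ∑ i : Fin r, ((σ ^ (j : ℕ)) θ) ^ (i : ℕ) • d i = 0 := by
    intro j
    rw [← hiter0 j, h0]
    exact hfix _ _ (map_zero g)
  have hinj : Function.Injective (fun j : Fin r => (σ ^ (j : ℕ)) θ) := fun i j hij =>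
    Fin.ext (pow_inj hr hσr hθ i.2 j.2 hij)
  have h3 : ∀ i, d i = 0 := by
    intro i
    rw [← Module.forall_dual_apply_eq_zero_iff K]
    intro φ
    have h4 : (fun i => φ (d i)) = 0 := by
      refine Matrix.eq_zero_of_forall_index_sum_pow_mul_eq_zero hinj fun j => ?_
      have h5 := congrArg φ (h2 j)
      rw [map_sum, map_zero] at h5
      rw [← h5]
      exact Finset.sum_congr rfl fun i _ => by rw [map_smul, smul_eq_mul]
    exact congrFun h4 i
  funext i
  exact Subtype.ext (sub_eq_zero.1 (h3 i))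

/-- the fixed field -/
abbrev fxF (σ : K ≃+* K) : Subfield K := FixedPoints.subfield (Subgroup.zpowers σ) K

theorem norm_eq [Finite K] {σ : K ≃+* K} {r : ℕ} (ho : orderOf σ = r) (k : K) :
    ((Algebra.norm (fxF σ) k : fxF σ) : K) = nrm σ r k := by
  have hfin : Finite (Subgroup.zpowers σ) := by
    have : Finite (K ≃+* K) := Finite.of_injective (fun f : K ≃+* K => (f : K → K)) DFunLike.coe_injective
    infer_instance
  have h1 := Algebra.norm_eq_prod_automorphisms (K := fxF σ) k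
  have h2 : algebraMap (fxF σ) K (Algebra.norm (fxF σ) k) = nrm σ r k := by
    rw [h1]
    have := Fintype.ofFinite (Subgroup.zpowers σ)
    have h3 : ∏ τ : K ≃ₐ[fxF σ] K, τ k = ∏ g : Subgroup.zpowers σ, (g : K ≃+* K) k := by
      symm
      exact Fintype.prod_equiv (FixedPoints.toAlgAutMulEquiv (Subgroup.zpowers σ) K).toEquiv _ _ fun g => rfl
    rw [h3, nrm, Finset.prod_range, ← ho]
    have hof : IsOfFinOrder σ := by
      have : Finite (K ≃+* K) := Finite.of_injective (fun f : K ≃+* K => (f : K → K)) DFunLike.coe_injective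
      exact isOfFinOrder_of_finite σ
    symm
    refine Fintype.prod_equiv (finEquivZPowers hof) _ _ fun n => ?_
    rw [finEquivZPowers_apply]
  exact h2

/-- **P3**: the number of scalars `k` with `(k g) ^ r = 1` -/
theorem card_norm_semi' {K W : Type*} [Field K] [Finite K] [AddCommGroup W] [Nontrivial W] [Module K W]
    (σ : K ≃+* K) (hσ : σ ≠ 1) {r : ℕ} (hr : r.Prime) (g : W ≃+ W) (hg : ∀ (k : K) (w : W), g (k • w) = σ k • g w)
    (hgr : ∀ w : W, (fun w : W => g w)^[r] w = w) : ∃ q₀ : ℕ, 2 ≤ q₀ ∧ Nat.card K = q₀ ^ r ∧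
      (q₀ - 1) * Nat.card {k : Kˣ // ∀ w : W, ((fun w : W => (k : K) • g w)^[r]) w = w} ≤ q₀ ^ r - 1 := by
  have hσr := sigma_pow σ g hg hgr
  have ho : orderOf σ = r := by
    have := Fact.mk hr
    exact orderOf_eq_prime hσr hσ
  have hfinA : Finite (K ≃+* K) := Finite.of_injective (fun f : K ≃+* K => (f : K → K)) DFunLike.coe_injective
  have hft := Fintype.ofFinite (Subgroup.zpowers σ)
  have hrank : Module.finrank (fxF σ) K = r := by
    rw [FixedPoints.finrank_eq_card (Subgroup.zpowers σ) K, Fintype.card_eq_nat_card, Nat.card_zpowers, ho]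
  have hcK : Nat.card K = Nat.card (fxF σ) ^ r := by
    rw [Module.natCard_eq_pow_finrank (K := fxF σ), hrank]
  refine ⟨Nat.card (fxF σ), Finite.one_lt_card, hcK, ?_⟩
  have h1 : Nat.card {k : Kˣ // ∀ w : W, ((fun w : W => (k : K) • g w)^[r]) w = w} =
      Nat.card (Units.map (Algebra.norm (fxF σ) (S := K))).ker := by
    refine Nat.card_congr (Equiv.subtypeEquivRight fun k => ?_)
    rw [MonoidHom.mem_ker, Units.ext_iff, Units.coe_map, Units.val_one, Subtype.ext_iff]
    show _ ↔ ((Algebra.norm (fxF σ) (k : K) : fxF σ) : K) = 1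
    rw [norm_eq ho]
    constructor
    · intro h
      obtain ⟨w, hw⟩ := exists_ne (0 : W)
      have h2 := h w
      rw [iter_mul σ g hg, hgr] at h2
      have h3 : nrm σ r (k : K) • w = (1 : K) • w := by rw [h2, one_smul]
      exact smul_left_injective K hw h3
    · intro h w
      rw [iter_mul σ g hg, hgr, h, one_smul]
  have h2 : Nat.card Kˣ = Nat.card (Units.map (Algebra.norm (fxF σ) (S := K))).ker * Nat.card (fxF σ)ˣ := by
    rw [← Subgroup.card_mul_index (Units.map (Algebra.norm (fxF σ) (S := K))).ker, Subgroup.index_ker,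
      MonoidHom.range_eq_top.2 (FiniteField.unitsMap_norm_surjective (fxF σ) K), Subgroup.card_top]
  rw [Nat.card_units, Nat.card_units, hcK] at h2
  rw [h1, h2, mul_comm]

end semi

/-- P3: fixed points of a semilinear map of prime order -/
theorem card_fix_semi {K W : Type u} [Field K] [Finite K] [AddCommGroup W] [Finite W] [Module K W]
    (σ : K ≃+* K) (hσ : σ ≠ 1) {r : ℕ} (hr : r.Prime) (g : W ≃+ W) (hg : ∀ (k : K) (w : W), g (k • w) = σ k • g w)
    (hgr : ∀ w : W, (fun w : W => g w)^[r] w = w) : Nat.card {w : W // g w = w} ^ r ≤ Nat.card W :=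
  card_fix_semi' σ hσ hr g hg hgr

/-- P3: the number of scalars `k` with `(k g) ^ r = 1` -/
theorem card_norm_semi {K W : Type u} [Field K] [Finite K] [AddCommGroup W] [Finite W] [Nontrivial W] [Module K W]
    (σ : K ≃+* K) (hσ : σ ≠ 1) {r : ℕ} (hr : r.Prime) (g : W ≃+ W) (hg : ∀ (k : K) (w : W), g (k • w) = σ k • g w)
    (hgr : ∀ w : W, (fun w : W => g w)^[r] w = w) : ∃ q₀ : ℕ, 2 ≤ q₀ ∧ Nat.card K = q₀ ^ r ∧
      (q₀ - 1) * Nat.card {k : Kˣ // ∀ w : W, ((fun w : W => (k : K) • g w)^[r]) w = w} ≤ q₀ ^ r - 1 :=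
  card_norm_semi' σ hσ hr g hg hgr

end Cfsg.Agent.H528.HT
end

-- part: H583/HT/Rho
section
/-!
# The frame for `ETwo` (S3577, S3540; helper583 for helper662)

`A` maximal abelian normal in `G`, `F / A` of order four.

* `sq_one`, `anti`, `cover` : the structure of `F`;
* `exists_rho` : the action of `G` on the three nontrivial cosets of `A` in `F`;
* `mem_F` : the kernel on `F / A` and on `A` is `F`;
* `card_le_four`, `card_coset_le` : counting.
-/

set_option autoImplicit false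
set_option linter.unusedSectionVars false

open scoped commutatorElement
open Finset

namespace Cfsg.Agent.H583.HT

open Cfsg.Agent.H828.HT Cfsg.Agent.H662.HT

universe u

variable {p : ℕ} [Fact p.Prime] {V : Type u} [AddCommGroup V] [Module (ZMod p) V] [Finite V]

/-- the scalar `-1` -/
def ng (p : ℕ) (V : Type u) [AddCommGroup V] [Module (ZMod p) V] : V ≃ₗ[ZMod p] V := LinearEquiv.neg (ZMod p)

theorem ng_apply (v : V) : ng p V v = -v := rfl

theorem ng_mul_ng : ng p V * ng p V = 1 := by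
  ext v
  change -(-v) = v
  rw [neg_neg]

theorem ng_comm (g : V ≃ₗ[ZMod p] V) : ng p V * g = g * ng p V := by
  ext v
  change -(g v) = g (-v)
  rw [map_neg]

theorem finite_gl : Finite (V ≃ₗ[ZMod p] V) :=
  Finite.of_injective (fun g => (g : V → V)) DFunLike.coe_injective

/-- in a group of order four and exponent two, two different nontrivial elements give everything -/
theorem four_cover {Q : Type*} [Group Q] (h4 : Nat.card Q = 4) (hsq : ∀ q : Q, q * q = 1) {x y : Q} (hx : x ≠ 1)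
    (hy : y ≠ 1) (hxy : x ≠ y) (z : Q) : z = 1 ∨ z = x ∨ z = y ∨ z = x * y := by
  classical
  have hf : Finite Q := Nat.finite_of_card_ne_zero (by omega)
  have := Fintype.ofFinite Q
  have h1 : ({1, x, y, x * y} : Finset Q) = Finset.univ := by
    apply Finset.eq_univ_of_card
    rw [← Nat.card_eq_fintype_card, h4, Finset.card_insert_of_notMem, Finset.card_insert_of_notMem,
      Finset.card_insert_of_notMem, Finset.card_singleton]
    · rw [Finset.mem_singleton]
      intro h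
      exact hx (by simpa using h)
    · simp only [Finset.mem_insert, Finset.mem_singleton, not_or]
      refine ⟨hxy, fun h => hy (by simpa using h)⟩
    · simp only [Finset.mem_insert, Finset.mem_singleton, not_or]
      refine ⟨hx.symm, hy.symm, fun h => hxy ?_⟩
      have h2 : x * (x * y) = x * 1 := by rw [← h]
      rw [← mul_assoc, hsq, one_mul, mul_one] at h2
      exact h2.symm
  have h2 : z ∈ ({1, x, y, x * y} : Finset Q) := by rw [h1]; exact Finset.mem_univ z
  simpa only [Finset.mem_insert, Finset.mem_singleton] using h2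

section etwo

variable {G A F : Subgroup (V ≃ₗ[ZMod p] V)}

theorem sq_one (E : ETwo G A F) {a : V ≃ₗ[ZMod p] V} (ha : a ∈ A) (h2 : a * a = 1) : a = 1 ∨ a = ng p V := by
  by_cases h1 : a = 1
  · exact Or.inl h1
  · right
    ext v
    rw [ng_apply]
    have h3 : a (a v + v) = a v + v := by
      rw [map_add, show a (a v) = v from by rw [← LinearEquiv.mul_apply, h2]; rfl, add_comm]
    have h4 := E.semi a ha h1 _ h3
    exact eq_neg_of_add_eq_zero_left h4

/-- `F / A` -/
abbrev FA (A F : Subgroup (V ≃ₗ[ZMod p] V)) : Type u := F ⧸ A.subgroupOf F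

theorem normal_FA (E : ETwo G A F) : (A.subgroupOf F).Normal :=
  ⟨fun a ha g => E.nA g (E.FG g.2) a ha⟩

theorem card_FA (E : ETwo G A F) : Nat.card (FA A F) = 4 := by
  have := finite_gl (p := p) (V := V)
  have h1 : Nat.card (A.subgroupOf F) = Nat.card A := Nat.card_congr (Subgroup.subgroupOfEquivOfLe E.AF).toEquiv
  have h2 := (A.subgroupOf F).index_mul_card
  rw [h1, E.card] at h2
  have h3 : 0 < Nat.card A := Nat.card_pos
  exact Nat.eq_of_mul_eq_mul_right h3 h2

theorem cover (E : ETwo G A F) {x y z : V ≃ₗ[ZMod p] V} (hx : x ∈ F) (hy : y ∈ F) (hz : z ∈ F) (hxA : x ∉ A)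
    (hyA : y ∉ A) (hxy : x⁻¹ * y ∉ A) : z ∈ A ∨ x⁻¹ * z ∈ A ∨ y⁻¹ * z ∈ A ∨ (x * y)⁻¹ * z ∈ A := by
  have := normal_FA E
  have hsq : ∀ q : FA A F, q * q = 1 := by
    intro q
    induction q using QuotientGroup.induction_on with
    | H f => exact (QuotientGroup.eq_one_iff _).2 (E.sq f f.2)
  have h1 : ∀ f : F, (QuotientGroup.mk f : FA A F) = 1 ↔ (f : V ≃ₗ[ZMod p] V) ∈ A := fun f =>
    QuotientGroup.eq_one_iff f
  have h2 : ∀ f f' : F, (QuotientGroup.mk f : FA A F) = QuotientGroup.mk f' ↔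
      (f : V ≃ₗ[ZMod p] V)⁻¹ * f' ∈ A := fun f f' => QuotientGroup.eq
  have h3 := four_cover (card_FA E) hsq (x := QuotientGroup.mk ⟨x, hx⟩) (y := QuotientGroup.mk ⟨y, hy⟩)
    (fun h => hxA ((h1 _).1 h)) (fun h => hyA ((h1 _).1 h)) (fun h => hxy (((h2 _ _).1 h :))) (QuotientGroup.mk ⟨z, hz⟩)
  rcases h3 with h3 | h3 | h3 | h3
  · exact Or.inl ((h1 _).1 h3)
  · exact Or.inr (Or.inl (((h2 _ _).1 h3.symm :)))
  · exact Or.inr (Or.inr (Or.inl (((h2 _ _).1 h3.symm :))))
  · rw [← QuotientGroup.mk_mul] at h3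
    exact Or.inr (Or.inr (Or.inr (((h2 _ _).1 h3.symm :))))

theorem exists_pair (E : ETwo G A F) : ∃ x ∈ F, ∃ y ∈ F, x ∉ A ∧ y ∉ A ∧ x⁻¹ * y ∉ A := by
  have := normal_FA E
  have h4 := card_FA E
  have hf : Finite (FA A F) := Nat.finite_of_card_ne_zero (by omega)
  have := Fintype.ofFinite (FA A F)
  rw [Nat.card_eq_fintype_card] at h4
  classical
  obtain ⟨q, hq⟩ : ∃ q : FA A F, q ≠ 1 := by
    by_contra hcon
    push Not at hcon
    have : Fintype.card (FA A F) ≤ 1 := Fintype.card_le_one_iff.2 fun a b => by rw [hcon a, hcon b]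
    omega
  obtain ⟨q', hq', hqq⟩ : ∃ q' : FA A F, q' ≠ 1 ∧ q' ≠ q := by
    by_contra hcon
    push Not at hcon
    have h5 : (Finset.univ : Finset (FA A F)) ⊆ {1, q} := by
      intro z _
      rw [Finset.mem_insert, Finset.mem_singleton]
      by_cases hz : z = 1
      · exact Or.inl hz
      · exact Or.inr (hcon z hz)
    have h6 := Finset.card_le_card h5
    have h7 : ({1, q} : Finset (FA A F)).card ≤ 2 := Finset.card_le_two
    rw [Finset.card_univ] at h6
    omega
  induction q using QuotientGroup.induction_on with | H x => ?_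
  induction q' using QuotientGroup.induction_on with | H y => ?_
  refine ⟨x, x.2, y, y.2, fun h => hq ((QuotientGroup.eq_one_iff x).2 h), fun h => hq' ((QuotientGroup.eq_one_iff y).2 h),
    fun h => hqq ((QuotientGroup.eq (s := A.subgroupOf F) (a := x) (b := y)).2 h).symm⟩

/-- elements of different nontrivial cosets anticommute -/
theorem anti (E : ETwo G A F) {x y : V ≃ₗ[ZMod p] V} (hx : x ∈ F) (hy : y ∈ F) (hxA : x ∉ A)
    (hyA : y ∉ A) (hxy : x⁻¹ * y ∉ A) : x * y = ng p V * (y * x) := by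
  obtain ⟨c, hc⟩ : ∃ c, c = x * y * x⁻¹ * y⁻¹ := ⟨_, rfl⟩
  have hcA : c ∈ A := by rw [hc]; exact E.comm x hx y hy
  have e1 : x * y = c * (y * x) := by rw [hc]; group
  have e2 : c * c = 1 := by
    have h1 : x * x * y = y * (x * x) := E.cenA _ (E.sq x hx) y hy
    have h2 : c * x = x * c := E.cenA c hcA x hx
    have h3 : x * x * y = c * c * (y * (x * x)) := by
      calc x * x * y = x * (x * y) := by group
        _ = x * (c * (y * x)) := by rw [e1]
        _ = (x * c) * (y * x) := by group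
        _ = (c * x) * (y * x) := by rw [h2]
        _ = c * (x * y) * x := by group
        _ = c * (c * (y * x)) * x := by rw [e1]
        _ = c * c * (y * (x * x)) := by group
    rw [h1] at h3
    exact (mul_eq_right.1 h3.symm)
  rcases sq_one E hcA e2 with h | h
  · exfalso
    rw [h, one_mul] at e1
    apply hxA
    apply E.cen x (E.FG hx)
    intro z hz
    rcases cover E hx hy hz hxA hyA hxy with h1 | h1 | h1 | h1
    · exact (E.cenA z h1 x hx).symm
    · have h2 := E.cenA _ h1 x hx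
      calc x * z = x * (x * (x⁻¹ * z)) := by group
        _ = x * ((x⁻¹ * z) * x) := by rw [h2]
        _ = z * x := by group
    · have h2 := E.cenA _ h1 x hx
      have h3 : z = y * (y⁻¹ * z) := by group
      calc x * z = x * (y * (y⁻¹ * z)) := by rw [← h3]
        _ = (x * y) * (y⁻¹ * z) := by group
        _ = (y * x) * (y⁻¹ * z) := by rw [e1]
        _ = y * (x * (y⁻¹ * z)) := by group
        _ = y * ((y⁻¹ * z) * x) := by rw [h2]
        _ = z * x := by group
    · have h2 := E.cenA _ h1 x hx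
      have h3 : z = (x * y) * ((x * y)⁻¹ * z) := by group
      calc x * z = x * ((x * y) * ((x * y)⁻¹ * z)) := by rw [← h3]
        _ = x * (x * y) * ((x * y)⁻¹ * z) := by group
        _ = x * (y * x) * ((x * y)⁻¹ * z) := by rw [e1]
        _ = (x * y) * (x * ((x * y)⁻¹ * z)) := by group
        _ = (x * y) * (((x * y)⁻¹ * z) * x) := by rw [h2]
        _ = z * x := by group
  · rw [h] at e1
    exact e1

theorem ng_mem (E : ETwo G A F) : ng p V ∈ A := by
  obtain ⟨x, hx, y, hy, hxA, hyA, hxy⟩ := exists_pair E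
  have h1 := anti E hx hy hxA hyA hxy
  have h2 := E.comm x hx y hy
  rw [h1] at h2
  have h3 : ng p V * (y * x) * x⁻¹ * y⁻¹ = ng p V := by group
  rwa [h3] at h2

/-- the elements of `F` commute with or invert ... : **the kernel of `G` on `F / A` and `A` is `F`** -/
theorem mem_F (E : ETwo G A F) {g : V ≃ₗ[ZMod p] V} (hg : g ∈ G) (hgA : ∀ a ∈ A, g * a = a * g)
    (hgF : ∀ x ∈ F, g * x * g⁻¹ * x⁻¹ ∈ A) : g ∈ F := by
  obtain ⟨x, hx, y, hy, hxA, hyA, hxy⟩ := exists_pair E
  -- the signs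
  have hsign : ∀ x ∈ F, g * x * g⁻¹ = x ∨ g * x * g⁻¹ = ng p V * x := by
    intro x hx
    obtain ⟨l, hl⟩ : ∃ l, l = g * x * g⁻¹ * x⁻¹ := ⟨_, rfl⟩
    have hlA : l ∈ A := by rw [hl]; exact hgF x hx
    have e1 : g * x * g⁻¹ = l * x := by rw [hl]; group
    have e2 : l * l = 1 := by
      have h1 : g * (x * x) = (x * x) * g := hgA _ (E.sq x hx)
      have h2 : l * x = x * l := E.cenA l hlA x hx
      have h3 : (l * x) * (l * x) = x * x := by
        rw [← e1]
        calc g * x * g⁻¹ * (g * x * g⁻¹) = g * (x * x) * g⁻¹ := by group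
          _ = x * x := by rw [h1]; group
      have h4 : (l * x) * (l * x) = l * l * (x * x) := by
        calc (l * x) * (l * x) = l * (x * l) * x := by group
          _ = l * (l * x) * x := by rw [h2]
          _ = l * l * (x * x) := by group
      rw [h4] at h3
      exact mul_eq_right.1 h3
    rcases sq_one E hlA e2 with h | h
    · left
      rw [e1, h, one_mul]
    · right
      rw [e1, h]
  have hxyn : x * y = ng p V * (y * x) := anti E hx hy hxA hyA hxy
  have hyxn : y * x = ng p V * (x * y) := by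
    rw [hxyn, ← mul_assoc, ng_mul_ng, one_mul]
  -- it suffices to find `n ∈ F` with `n * g` centralising `x`, `y`
  have key : ∀ n ∈ F, (n * g) * x = x * (n * g) → (n * g) * y = y * (n * g) → g ∈ F := by
    intro n hn h1 h2
    have h3 : n * g ∈ A := by
      apply E.cen _ (mul_mem (E.FG hn) hg)
      intro z hz
      have hA : ∀ a ∈ A, (n * g) * a = a * (n * g) := by
        intro a ha
        rw [mul_assoc, hgA a ha, ← mul_assoc, ← E.cenA a ha n hn, mul_assoc]
      rcases cover E hx hy hz hxA hyA hxy with h4 | h4 | h4 | h4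
      · exact hA z h4
      · have h3 : z = x * (x⁻¹ * z) := by group
        calc n * g * z = (n * g * x) * (x⁻¹ * z) := by group
          _ = x * ((n * g) * (x⁻¹ * z)) := by rw [h1]; group
          _ = x * ((x⁻¹ * z) * (n * g)) := by rw [hA _ h4]
          _ = z * (n * g) := by group
      · calc n * g * z = (n * g * y) * (y⁻¹ * z) := by group
          _ = y * ((n * g) * (y⁻¹ * z)) := by rw [h2]; group
          _ = y * ((y⁻¹ * z) * (n * g)) := by rw [hA _ h4]
          _ = z * (n * g) := by group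
      · calc n * g * z = (n * g * x) * y * ((x * y)⁻¹ * z) := by group
          _ = x * ((n * g) * y) * ((x * y)⁻¹ * z) := by rw [h1]; group
          _ = x * y * ((n * g) * ((x * y)⁻¹ * z)) := by rw [h2]; group
          _ = x * y * (((x * y)⁻¹ * z) * (n * g)) := by rw [hA _ h4]
          _ = z * (n * g) := by group
    have h4 : g = n⁻¹ * (n * g) := by group
    rw [h4]
    exact mul_mem (inv_mem hn) (E.AF h3)
  have hgx : g * x = (g * x * g⁻¹) * g := by group
  have hgy : g * y = (g * y * g⁻¹) * g := by group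
  rcases hsign x hx with h1 | h1 <;> rcases hsign y hy with h2 | h2
  · apply key 1 (one_mem _)
    · rw [one_mul, hgx, h1]
    · rw [one_mul, hgy, h2]
  · apply key x hx
    · rw [mul_assoc, hgx, h1]
    · rw [mul_assoc, hgy, h2]
      calc x * (ng p V * y * g) = (x * ng p V) * y * g := by group
        _ = ng p V * (x * y) * g := by rw [← ng_comm]; group
        _ = y * x * g := by rw [← hyxn]
        _ = y * (x * g) := by group
  · apply key y hy
    · rw [mul_assoc, hgx, h1]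
      calc y * (ng p V * x * g) = (y * ng p V) * x * g := by group
        _ = ng p V * (y * x) * g := by rw [← ng_comm]; group
        _ = x * y * g := by rw [← hxyn]
        _ = x * (y * g) := by group
    · rw [mul_assoc, hgy, h2]
  · apply key (x * y) (mul_mem hx hy)
    · rw [mul_assoc, hgx, h1]
      calc x * y * (ng p V * x * g) = x * ((y * ng p V) * x) * g := by group
        _ = x * (ng p V * (y * x)) * g := by rw [← ng_comm]; group
        _ = x * (x * y) * g := by rw [← hxyn]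
        _ = x * (x * y * g) := by group
    · rw [mul_assoc, hgy, h2]
      calc x * y * (ng p V * y * g) = (x * y * ng p V) * y * g := by group
        _ = (ng p V * (x * y)) * y * g := by rw [← ng_comm]
        _ = (y * x) * y * g := by rw [← hyxn]
        _ = y * (x * y * g) := by group

/-- **the action on the three nontrivial cosets of `A` in `F`**, `n i` representatives -/
structure Rho (G A F : Subgroup (V ≃ₗ[ZMod p] V)) (ρ : G →* Equiv.Perm (Fin 3)) (n : Fin 3 → (V ≃ₗ[ZMod p] V)) :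
    Prop where
  memF : ∀ i, n i ∈ F
  notA : ∀ i, n i ∉ A
  inj : ∀ i j, (n i)⁻¹ * n j ∈ A → i = j
  cov : ∀ z ∈ F, z ∈ A ∨ ∃ i, (n i)⁻¹ * z ∈ A
  act : ∀ (g : G) (i j : Fin 3), ρ g i = j ↔ (n j)⁻¹ * ((g : V ≃ₗ[ZMod p] V) * n i * (g : V ≃ₗ[ZMod p] V)⁻¹) ∈ A
  triv : ∀ g : G, ρ g = 1 ↔ ∀ x ∈ F, (g : V ≃ₗ[ZMod p] V) * x * (g : V ≃ₗ[ZMod p] V)⁻¹ * x⁻¹ ∈ A
  fpf : ∀ i, ∃ g : G, ρ g i ≠ i

theorem exists_rho (E : ETwo G A F) : ∃ (ρ : G →* Equiv.Perm (Fin 3)) (n : Fin 3 → (V ≃ₗ[ZMod p] V)),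
    Rho G A F ρ n := by
  obtain ⟨x, hx, y, hy, hxA, hyA, hxy⟩ := exists_pair E
  obtain ⟨n, hn0, hn1, hn2⟩ : ∃ n : Fin 3 → (V ≃ₗ[ZMod p] V), n 0 = x ∧ n 1 = y ∧ n 2 = x * y :=
    ⟨![x, y, x * y], rfl, rfl, rfl⟩
  have nA' : ∀ g ∈ G, ∀ a ∈ A, g * a * g⁻¹ ∈ A := E.nA
  have memF : ∀ i, n i ∈ F := by
    intro i
    fin_cases i
    · change n 0 ∈ F; rw [hn0]; exact hx
    · change n 1 ∈ F; rw [hn1]; exact hy
    · change n 2 ∈ F; rw [hn2]; exact mul_mem hx hy
  -- `x * y` is not in `A`, nor in `x A`, `y A`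
  have hxyA : x * y ∉ A := by
    intro h
    apply hxy
    have h1 : x⁻¹ * y = (x * x)⁻¹ * (x * y) := by group
    rw [h1]
    exact mul_mem (inv_mem (E.sq x hx)) h
  have notA : ∀ i, n i ∉ A := by
    intro i
    fin_cases i
    · change n 0 ∉ A; rw [hn0]; exact hxA
    · change n 1 ∉ A; rw [hn1]; exact hyA
    · change n 2 ∉ A; rw [hn2]; exact hxyA
  have hyx : y⁻¹ * (x * y) ∉ A := by
    intro h
    apply hxA
    have h1 : x = y * (y⁻¹ * (x * y)) * y⁻¹ := by group
    rw [h1]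
    exact E.nA y (E.FG hy) _ h
  have inj : ∀ i j, (n i)⁻¹ * n j ∈ A → i = j := by
    have hlt : ∀ i j, i < j → (n i)⁻¹ * n j ∉ A := by
      intro i j hij
      fin_cases i <;> fin_cases j
      · exact absurd hij (lt_irrefl _)
      · change (n 0)⁻¹ * n 1 ∉ A; rw [hn0, hn1]; exact hxy
      · change (n 0)⁻¹ * n 2 ∉ A; rw [hn0, hn2]
        have h1 : x⁻¹ * (x * y) = y := by group
        rw [h1]; exact hyA
      · exact absurd hij (by decide)
      · exact absurd hij (lt_irrefl _)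
      · change (n 1)⁻¹ * n 2 ∉ A; rw [hn1, hn2]; exact hyx
      · exact absurd hij (by decide)
      · exact absurd hij (by decide)
      · exact absurd hij (lt_irrefl _)
    intro i j h
    rcases lt_trichotomy i j with h1 | h1 | h1
    · exact absurd h (hlt i j h1)
    · exact h1
    · exfalso
      apply hlt j i h1
      have h2 : (n j)⁻¹ * n i = ((n i)⁻¹ * n j)⁻¹ := by group
      rw [h2]
      exact inv_mem h
  have cov : ∀ z ∈ F, z ∈ A ∨ ∃ i, (n i)⁻¹ * z ∈ A := by
    intro z hz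
    rcases cover E hx hy hz hxA hyA hxy with h | h | h | h
    · exact Or.inl h
    · exact Or.inr ⟨0, by rw [hn0]; exact h⟩
    · exact Or.inr ⟨1, by rw [hn1]; exact h⟩
    · exact Or.inr ⟨2, by rw [hn2]; exact h⟩
  have hex : ∀ (g : G) (i : Fin 3), ∃ j, (n j)⁻¹ * ((g : V ≃ₗ[ZMod p] V) * n i * (g : V ≃ₗ[ZMod p] V)⁻¹) ∈ A := by
    intro g i
    rcases cov _ (E.nF g g.2 _ (memF i)) with h | h
    · exfalso
      apply notA i
      have h1 := E.nA _ (inv_mem g.2) _ h
      have h2 : (g : V ≃ₗ[ZMod p] V)⁻¹ * ((g : V ≃ₗ[ZMod p] V) * n i * (g : V ≃ₗ[ZMod p] V)⁻¹) *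
        (g : V ≃ₗ[ZMod p] V)⁻¹⁻¹ = n i := by group
      rwa [h2] at h1
    · exact h
  have huniq : ∀ (z : V ≃ₗ[ZMod p] V) (j k : Fin 3), (n j)⁻¹ * z ∈ A → (n k)⁻¹ * z ∈ A → j = k := by
    intro z j k h1 h2
    apply inj
    have h3 : (n j)⁻¹ * n k = ((n j)⁻¹ * z) * ((n k)⁻¹ * z)⁻¹ := by group
    rw [h3]
    exact mul_mem h1 (inv_mem h2)
  choose f hf using hex
  obtain ⟨ρ₀, hρ₀⟩ : ∃ ρ₀ : G →* Function.End (Fin 3), ∀ g i, ρ₀ g i = f g i := by
    refine ⟨{ toFun := fun g i => f g i, map_one' := ?_, map_mul' := ?_ }, fun _ _ => rfl⟩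
    · funext i
      change f 1 i = i
      apply huniq (n i)
      · have := hf 1 i
        have h1 : ((1 : G) : V ≃ₗ[ZMod p] V) * n i * ((1 : G) : V ≃ₗ[ZMod p] V)⁻¹ = n i := by
          rw [Subgroup.coe_one]; group
        rwa [h1] at this
      · rw [inv_mul_cancel]; exact one_mem _
    · intro g h
      funext i
      change f (g * h) i = f g (f h i)
      apply huniq (((g * h : G) : V ≃ₗ[ZMod p] V) * n i * ((g * h : G) : V ≃ₗ[ZMod p] V)⁻¹) _ _ (hf (g * h) i)
      have h1 := hf h i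
      have h2 := hf g (f h i)
      have h3 : (n (f g (f h i)))⁻¹ * (((g * h : G) : V ≃ₗ[ZMod p] V) * n i * ((g * h : G) : V ≃ₗ[ZMod p] V)⁻¹) =
          ((n (f g (f h i)))⁻¹ * ((g : V ≃ₗ[ZMod p] V) * n (f h i) * (g : V ≃ₗ[ZMod p] V)⁻¹)) *
          ((g : V ≃ₗ[ZMod p] V) * ((n (f h i))⁻¹ * ((h : V ≃ₗ[ZMod p] V) * n i * (h : V ≃ₗ[ZMod p] V)⁻¹)) *
            (g : V ≃ₗ[ZMod p] V)⁻¹) := by
        rw [Subgroup.coe_mul]; group
      rw [h3]
      exact mul_mem h2 (E.nA g g.2 _ h1)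
  have hact : ∀ (g : G) (i j : Fin 3), MonoidHom.toHomPerm ρ₀ g i = j ↔
      (n j)⁻¹ * ((g : V ≃ₗ[ZMod p] V) * n i * (g : V ≃ₗ[ZMod p] V)⁻¹) ∈ A := by
    intro g i j
    have h0 : MonoidHom.toHomPerm ρ₀ g i = f g i := hρ₀ g i
    rw [h0]
    constructor
    · intro h
      rw [← h]
      exact hf g i
    · intro h
      exact huniq _ _ _ (hf g i) h
  refine ⟨MonoidHom.toHomPerm ρ₀, n, memF, notA, inj, cov, hact, ?_, ?_⟩
  · intro g
    constructor
    · intro h x hx
      have h1 : ∀ i, (n i)⁻¹ * ((g : V ≃ₗ[ZMod p] V) * n i * (g : V ≃ₗ[ZMod p] V)⁻¹) ∈ A := by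
        intro i
        rw [← hact, h]
        rfl
      rcases cov x hx with h2 | ⟨i, h2⟩
      · exact mul_mem (E.nA g g.2 x h2) (inv_mem h2)
      · have h3 : (g : V ≃ₗ[ZMod p] V) * x * (g : V ≃ₗ[ZMod p] V)⁻¹ * x⁻¹ =
            n i * (((n i)⁻¹ * ((g : V ≃ₗ[ZMod p] V) * n i * (g : V ≃ₗ[ZMod p] V)⁻¹)) *
              ((g : V ≃ₗ[ZMod p] V) * ((n i)⁻¹ * x) * (g : V ≃ₗ[ZMod p] V)⁻¹) * ((n i)⁻¹ * x)⁻¹) * (n i)⁻¹ := by
          group
        rw [h3]
        exact E.nA _ (E.FG (memF i)) _ (mul_mem (mul_mem (h1 i) (E.nA g g.2 _ h2)) (inv_mem h2))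
    · intro h
      ext1 i
      change MonoidHom.toHomPerm ρ₀ g i = i
      rw [hact]
      have h1 := h (n i) (memF i)
      have h2 := E.nA _ (inv_mem (E.FG (memF i))) _ h1
      have h3 : (n i)⁻¹ * ((g : V ≃ₗ[ZMod p] V) * n i * (g : V ≃ₗ[ZMod p] V)⁻¹ * (n i)⁻¹) * (n i)⁻¹⁻¹ =
        (n i)⁻¹ * ((g : V ≃ₗ[ZMod p] V) * n i * (g : V ≃ₗ[ZMod p] V)⁻¹) := by group
      rwa [h3] at h2
  · intro i
    by_contra hcon
    push Not at hcon
    apply notA i
    apply E.fpf (n i) (memF i)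
    intro g hg
    have h1 := (hact ⟨g, hg⟩ i i).1 (hcon ⟨g, hg⟩)
    have h2 := E.nA _ (E.FG (memF i)) _ h1
    have h3 : n i * ((n i)⁻¹ * (g * n i * g⁻¹)) * (n i)⁻¹ = g * n i * g⁻¹ * (n i)⁻¹ := by group
    rwa [h3] at h2

section count

variable {ρ : G →* Equiv.Perm (Fin 3)} {n : Fin 3 → (V ≃ₗ[ZMod p] V)} {K : Type u} [Field K] [Module K V]
  {χ : A →* Kˣ} {σ : G →* (K ≃+* K)}

theorem Rho.mem_of_eq (R : Rho G A F ρ n) (E : ETwo G A F) (hK : KS G A K χ σ) {g : G} (h1 : ρ g = 1)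
    (h2 : σ g = 1) : (g : V ≃ₗ[ZMod p] V) ∈ F :=
  mem_F E g.2 ((hK.cen g).1 h2) ((R.triv g).1 h1)

theorem Rho.rho_of_mem (R : Rho G A F ρ n) (E : ETwo G A F) {g : G} (h : (g : V ≃ₗ[ZMod p] V) ∈ F) : ρ g = 1 :=
  (R.triv g).2 fun x hx => E.comm _ h x hx

theorem sigma_of_mem (E : ETwo G A F) (hK : KS G A K χ σ) {g : G} (h : (g : V ≃ₗ[ZMod p] V) ∈ F) : σ g = 1 :=
  (hK.cen g).2 fun a ha => (E.cenA a ha _ h).symm

/-- two elements with the same images differ by an element of `F` -/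
theorem Rho.inv_mul_mem (R : Rho G A F ρ n) (E : ETwo G A F) (hK : KS G A K χ σ) {g g' : G} (h1 : ρ g = ρ g')
    (h2 : σ g = σ g') : ((g : V ≃ₗ[ZMod p] V)⁻¹ * (g' : V ≃ₗ[ZMod p] V)) ∈ F := by
  have h3 := R.mem_of_eq E hK (g := g⁻¹ * g') (by rw [map_mul, map_inv, h1, inv_mul_cancel])
    (by rw [map_mul, map_inv, h2, inv_mul_cancel])
  exact h3

/-- a general counting lemma -/
theorem card_le_mul_of {α β : Type*} [Finite α] [DecidableEq β] {S : α → Prop} (f : α → β) (t : Finset β)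
    (hf : ∀ a, S a → f a ∈ t) (B : ℕ) (hB : ∀ b ∈ t, Nat.card {a // S a ∧ f a = b} ≤ B) :
    Nat.card {a // S a} ≤ B * t.card := by
  classical
  have := Fintype.ofFinite α
  have h1 := Finset.card_le_mul_card_image_of_maps_to (f := f) (s := Finset.univ.filter S) (t := t)
    (fun a ha => hf a (Finset.mem_filter.1 ha).2) B (fun b hb => by
      have h2 := hB b hb
      rw [Nat.card_eq_fintype_card, Fintype.card_subtype] at h2
      rw [Finset.filter_filter]
      exact h2)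
  rw [Nat.card_eq_fintype_card, Fintype.card_subtype]
  exact h1

/-- a set inside one coset of `F` : at most four times the maximum over the cosets of `A` -/
theorem Rho.card_le_four (R : Rho G A F ρ n) (E : ETwo G A F) {S : G → Prop} (y₀ : G)
    (hS : ∀ y, S y → (y₀ : V ≃ₗ[ZMod p] V)⁻¹ * (y : V ≃ₗ[ZMod p] V) ∈ F) (B : ℕ)
    (hB : ∀ y₁, S y₁ → Nat.card {y // S y ∧ (y₁ : V ≃ₗ[ZMod p] V)⁻¹ * (y : V ≃ₗ[ZMod p] V) ∈ A} ≤ B) :
    Nat.card {y // S y} ≤ B * 4 := by
  classical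
  have := finite_gl (p := p) (V := V)
  let m : Fin 3 → G := fun i => ⟨n i, E.FG (R.memF i)⟩
  let f : G → G ⧸ A.subgroupOf G := fun y => QuotientGroup.mk y
  let t : Finset (G ⧸ A.subgroupOf G) := {f y₀, f (y₀ * m 0), f (y₀ * m 1), f (y₀ * m 2)}
  have ht : t.card ≤ 4 := Finset.card_le_four
  have hmk : ∀ y y' : G, f y = f y' ↔ (y : V ≃ₗ[ZMod p] V)⁻¹ * (y' : V ≃ₗ[ZMod p] V) ∈ A := by
    intro y y'
    exact QuotientGroup.eq (s := A.subgroupOf G) (a := y) (b := y')
  have h1 := card_le_mul_of (S := S) f t (fun y hy => by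
    rcases R.cov _ (hS y hy) with h | ⟨i, h⟩
    · have e : f y₀ = f y := (hmk _ _).2 h
      rw [← e]
      exact Finset.mem_insert_self _ _
    · have e : f (y₀ * m i) = f y := by
        rw [hmk]
        have h2 : ((y₀ * m i : G) : V ≃ₗ[ZMod p] V)⁻¹ * (y : V ≃ₗ[ZMod p] V) =
            (n i)⁻¹ * ((y₀ : V ≃ₗ[ZMod p] V)⁻¹ * (y : V ≃ₗ[ZMod p] V)) := by
          rw [Subgroup.coe_mul, mul_inv_rev, mul_assoc]
        rw [h2]
        exact h
      rw [← e]
      fin_cases i <;> simp only [t, _root_.Fin.isValue, _root_.Fin.zero_eta, _root_.Finset.mem_insert, _root_.Finset.mem_singleton, _root_.true_or, _root_.or_true, _root_.Fin.mk_one, _root_.Fin.reduceFinMk]) B (fun b _ => by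
    by_cases hne : ∃ y₁, S y₁ ∧ f y₁ = b
    · obtain ⟨y₁, h3, h4⟩ := hne
      refine le_trans (Nat.card_le_card_of_injective
        (fun y : {y // S y ∧ f y = b} => (⟨y.1, y.2.1, (hmk _ _).1 (h4.trans y.2.2.symm)⟩ :
          {y // S y ∧ (y₁ : V ≃ₗ[ZMod p] V)⁻¹ * (y : V ≃ₗ[ZMod p] V) ∈ A})) ?_) (hB y₁ h3)
      intro a b h
      have h5 : a.1 = b.1 := congrArg (fun z : {y // S y ∧ (y₁ : V ≃ₗ[ZMod p] V)⁻¹ * (y : V ≃ₗ[ZMod p] V) ∈ A} => z.1) h
      exact Subtype.ext h5
    · have : IsEmpty {y // S y ∧ f y = b} := ⟨fun y => hne ⟨y.1, y.2⟩⟩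
      rw [Nat.card_of_isEmpty]
      exact Nat.zero_le _)
  exact h1.trans (Nat.mul_le_mul_left B ht)

/-- one coset of `A`, linear elements -/
theorem coset_lin (E : ETwo G A F) (hK : KS G A K χ σ) {r : ℕ} (hr : 0 < r) {y₁ : G} (h1 : y₁ ^ r = 1)
    (h2 : σ y₁ = 1) : Nat.card {y : G // y ^ r = 1 ∧ (y₁ : V ≃ₗ[ZMod p] V)⁻¹ * (y : V ≃ₗ[ZMod p] V) ∈ A} ≤ r := by
  classical
  have := finite_gl (p := p) (V := V)
  have := E.cyc
  have := Fintype.ofFinite A
  have h3 := IsCyclic.card_pow_eq_one_le (α := A) hr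
  have h4 : Nat.card {a : A // a ^ r = 1} ≤ r := by
    rw [Nat.card_eq_fintype_card, Fintype.card_subtype]
    exact h3
  refine le_trans (Nat.card_le_card_of_injective
    (fun y : {y : G // y ^ r = 1 ∧ (y₁ : V ≃ₗ[ZMod p] V)⁻¹ * (y : V ≃ₗ[ZMod p] V) ∈ A} =>
      (⟨⟨(y₁ : V ≃ₗ[ZMod p] V)⁻¹ * (y.1 : V ≃ₗ[ZMod p] V), y.2.2⟩, ?_⟩ : {a : A // a ^ r = 1})) ?_) h4
  · apply Subtype.ext
    rw [Subgroup.coe_pow, Subgroup.coe_one]
    have hc : Commute (y₁ : V ≃ₗ[ZMod p] V)⁻¹ (y.1 : V ≃ₗ[ZMod p] V) := by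
      have h5 := (hK.cen y₁).1 h2 _ y.2.2
      have h6 : Commute (y₁ : V ≃ₗ[ZMod p] V) (y.1 : V ≃ₗ[ZMod p] V) := by
        have h7 : (y.1 : V ≃ₗ[ZMod p] V) = y₁ * ((y₁ : V ≃ₗ[ZMod p] V)⁻¹ * (y.1 : V ≃ₗ[ZMod p] V)) := by group
        rw [h7]
        exact (Commute.refl _).mul_right h5
      exact h6.inv_left
    have h5 : (y₁ : V ≃ₗ[ZMod p] V) ^ r = 1 := congrArg Subtype.val h1
    have h6 : (y.1 : V ≃ₗ[ZMod p] V) ^ r = 1 := congrArg Subtype.val y.2.1
    rw [hc.mul_pow, inv_pow, h5, h6, inv_one, one_mul]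
  · intro a b h
    have h5 := congrArg (fun z : {a : A // a ^ r = 1} => ((z.1 : A) : V ≃ₗ[ZMod p] V)) h
    have h6 : (a.1 : V ≃ₗ[ZMod p] V) = b.1 := mul_left_cancel h5
    exact Subtype.ext (Subtype.ext h6)

/-- one coset of `A`, semilinear elements -/
theorem coset_semi [Nontrivial V] (E : ETwo G A F) (hK : KS G A K χ σ) {r : ℕ} (hr : r.Prime) {y₁ : G}
    (h1 : y₁ ^ r = 1) (h2 : σ y₁ ≠ 1) : ∃ q₀ : ℕ, 2 ≤ q₀ ∧ Nat.card K = q₀ ^ r ∧
      (q₀ - 1) * Nat.card {y : G // y ^ r = 1 ∧ (y₁ : V ≃ₗ[ZMod p] V)⁻¹ * (y : V ≃ₗ[ZMod p] V) ∈ A} ≤ q₀ ^ r - 1 := by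
  classical
  have := finite_gl (p := p) (V := V)
  have := hK.fin
  have hit : ∀ (g : V ≃ₗ[ZMod p] V) (k : ℕ) (v : V), (fun w : V => g w)^[k] v = (g ^ k) v := by
    intro g k v
    induction k with
    | zero => rfl
    | succ k ih =>
      rw [Function.iterate_succ', Function.comp_apply, ih, pow_succ']
      rfl
  have h1' : (y₁ : V ≃ₗ[ZMod p] V) ^ r = 1 := congrArg Subtype.val h1
  obtain ⟨q₀, hq1, hq2, hq3⟩ := H528.HT.card_norm_semi (K := K) (W := V) (σ y₁) h2 hr
    (y₁ : V ≃ₗ[ZMod p] V).toAddEquiv (fun k w => hK.semi y₁ k w) (fun w => by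
      have := hit (y₁ : V ≃ₗ[ZMod p] V) r w
      rw [h1'] at this
      exact this)
  refine ⟨q₀, hq1, hq2, le_trans (Nat.mul_le_mul_left _ ?_) hq3⟩
  have hkf : Finite Kˣ := inferInstance
  -- `y = a' * y₁`
  have hmem : ∀ y : {y : G // y ^ r = 1 ∧ (y₁ : V ≃ₗ[ZMod p] V)⁻¹ * (y : V ≃ₗ[ZMod p] V) ∈ A},
      (y.1 : V ≃ₗ[ZMod p] V) * (y₁ : V ≃ₗ[ZMod p] V)⁻¹ ∈ A := by
    intro y
    have h3 := E.nA y₁ y₁.2 _ y.2.2
    have h4 : (y₁ : V ≃ₗ[ZMod p] V) * ((y₁ : V ≃ₗ[ZMod p] V)⁻¹ * (y.1 : V ≃ₗ[ZMod p] V)) *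
      (y₁ : V ≃ₗ[ZMod p] V)⁻¹ = (y.1 : V ≃ₗ[ZMod p] V) * (y₁ : V ≃ₗ[ZMod p] V)⁻¹ := by group
    rwa [h4] at h3
  refine Nat.card_le_card_of_injective
    (fun y => ⟨χ ⟨(y.1 : V ≃ₗ[ZMod p] V) * (y₁ : V ≃ₗ[ZMod p] V)⁻¹, hmem y⟩, ?_⟩) ?_
  · intro w
    have h3 : (fun w : V => ((χ ⟨(y.1 : V ≃ₗ[ZMod p] V) * (y₁ : V ≃ₗ[ZMod p] V)⁻¹, hmem y⟩ : Kˣ) : K) •
        (y₁ : V ≃ₗ[ZMod p] V).toAddEquiv w) = fun w : V => (y.1 : V ≃ₗ[ZMod p] V) w := by
      funext w
      have h4 := hK.act ⟨(y.1 : V ≃ₗ[ZMod p] V) * (y₁ : V ≃ₗ[ZMod p] V)⁻¹, hmem y⟩ ((y₁ : V ≃ₗ[ZMod p] V) w)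
      have h5 : ((y.1 : V ≃ₗ[ZMod p] V) * (y₁ : V ≃ₗ[ZMod p] V)⁻¹) ((y₁ : V ≃ₗ[ZMod p] V) w) =
          (y.1 : V ≃ₗ[ZMod p] V) w := by
        rw [← LinearEquiv.mul_apply, inv_mul_cancel_right]
      exact h4.symm.trans h5
    have h6 : (y.1 : V ≃ₗ[ZMod p] V) ^ r = 1 := congrArg Subtype.val y.2.1
    rw [h3, hit, h6]
    rfl
  · intro a b h
    have h5 := hK.inj (congrArg Subtype.val h)
    have h6 := congrArg Subtype.val h5
    have h7 : (a.1 : V ≃ₗ[ZMod p] V) = b.1 := mul_right_cancel h6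
    exact Subtype.ext (Subtype.ext h7)

end count

end etwo

end Cfsg.Agent.H583.HT
end

-- part: H583/HT/Three
section
/-!
# Elements of order at least three in the case `ETwo` (S3577 P4b; helper583)
-/

set_option autoImplicit false
set_option linter.unusedSectionVars false

open scoped commutatorElement
open Finset

namespace Cfsg.Agent.H583.HT

open Cfsg.Agent.H828.HT Cfsg.Agent.H662.HT

universe u

variable {p : ℕ} [Fact p.Prime] {V : Type u} [AddCommGroup V] [Module (ZMod p) V] [Finite V]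

section etwo

variable {G A F : Subgroup (V ≃ₗ[ZMod p] V)} {K : Type u} [Field K] [Module K V] {χ : A →* Kˣ} {σ : G →* (K ≃+* K)}

/-- an element of odd order of `F` is in `A` -/
theorem mem_A_of_odd (E : ETwo G A F) {y : V ≃ₗ[ZMod p] V} (hy : y ∈ F) {r : ℕ} (hr : Odd r) (h1 : y ^ r = 1) :
    y ∈ A := by
  obtain ⟨k, hk⟩ := hr
  have h2 : y = (y * y) ^ (k + 1) := by
    rw [← pow_two, ← pow_mul, show 2 * (k + 1) = r + 1 by omega, pow_succ, h1, one_mul]
  rw [h2]
  exact pow_mem (E.sq y hy) _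

theorem rho_ne_one {ρ : G →* Equiv.Perm (Fin 3)} {n : Fin 3 → (V ≃ₗ[ZMod p] V)} (R : Rho G A F ρ n)
    (E : ETwo G A F) (hK : KS G A K χ σ) {y : G} {r : ℕ} (hr : r.Prime) (h2 : r ≠ 2) (hy : orderOf y = r)
    (hfix : ∃ v : V, v ≠ 0 ∧ (y : V ≃ₗ[ZMod p] V) v = v) (hσ : σ y = 1) : ρ y ≠ 1 := by
  intro h
  have h1 := R.mem_of_eq E hK h hσ
  have h3 : (y : V ≃ₗ[ZMod p] V) ^ r = 1 := by
    have : y ^ r = 1 := by rw [← hy]; exact pow_orderOf_eq_one y
    exact congrArg Subtype.val this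
  have h4 := mem_A_of_odd E h1 (hr.odd_of_ne_two h2) h3
  have h5 : (y : V ≃ₗ[ZMod p] V) ≠ 1 := by
    intro h6
    have h7 : y = 1 := Subtype.ext h6
    rw [h7, orderOf_one] at hy
    exact hr.one_lt.ne hy
  obtain ⟨v, hv, hv'⟩ := hfix
  exact hv (E.semi _ h4 h5 v hv')

/-- P4b -/
theorem no_big_lin [Nontrivial V] (E : ETwo G A F) (hK : KS G A K χ σ) {r : ℕ} (hr : r.Prime) (h5 : 5 ≤ r)
    {y : G} (hy : orderOf y = r) (hfix : ∃ v : V, v ≠ 0 ∧ (y : V ≃ₗ[ZMod p] V) v = v) : σ y ≠ 1 := by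
  intro hσ
  obtain ⟨ρ, n, R⟩ := exists_rho E
  apply rho_ne_one R E hK hr (by omega) hy hfix hσ
  have h1 : (ρ y) ^ r = 1 := by rw [← map_pow, ← hy, pow_orderOf_eq_one, map_one]
  have h2 : (ρ y) ^ 6 = 1 := by
    have : (ρ y) ^ Nat.card (Equiv.Perm (Fin 3)) = 1 := pow_card_eq_one'
    rwa [Nat.card_perm, Nat.card_fin] at this
  have h3 : orderOf (ρ y) ∣ Nat.gcd r 6 := Nat.dvd_gcd (orderOf_dvd_of_pow_eq_one h1) (orderOf_dvd_of_pow_eq_one h2)
  have h4 : Nat.Coprime r 6 := by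
    rw [Nat.Prime.coprime_iff_not_dvd hr]
    intro h
    have h6 : r ∣ 2 * 3 := h
    rcases (hr.dvd_mul).1 h6 with h7 | h7
    · exact absurd (Nat.le_of_dvd (by norm_num) h7) (by omega)
    · exact absurd (Nat.le_of_dvd (by norm_num) h7) (by omega)
  rw [h4] at h3
  exact orderOf_eq_one_iff.1 (Nat.dvd_one.1 h3)

/-- P4b -/
theorem count_three_lin [Nontrivial V] (E : ETwo G A F) (hK : KS G A K χ σ) (_hp : 5 ≤ p) (_hcop : ¬ p ∣ Nat.card G) :
    Nat.card {y : G // orderOf y = 3 ∧ (∃ v : V, v ≠ 0 ∧ (y : V ≃ₗ[ZMod p] V) v = v) ∧ σ y = 1} ≤ 24 := by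
  classical
  have := finite_gl (p := p) (V := V)
  obtain ⟨ρ, n, R⟩ := exists_rho E
  have hcube : ∀ y : G, orderOf y = 3 → y ^ 3 = 1 := fun y hy => by rw [← hy]; exact pow_orderOf_eq_one y
  have ht : (Finset.univ.filter fun t : Equiv.Perm (Fin 3) => t ^ 3 = 1 ∧ t ≠ 1).card = 2 := by decide +kernel
  have h1 := card_le_mul_of
    (S := fun y : G => orderOf y = 3 ∧ (∃ v : V, v ≠ 0 ∧ (y : V ≃ₗ[ZMod p] V) v = v) ∧ σ y = 1) (fun y => ρ y)
    (Finset.univ.filter fun t : Equiv.Perm (Fin 3) => t ^ 3 = 1 ∧ t ≠ 1) (fun y hy => by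
      rw [Finset.mem_filter]
      refine ⟨Finset.mem_univ _, ?_, rho_ne_one R E hK Nat.prime_three (by norm_num) hy.1 hy.2.1 hy.2.2⟩
      rw [← map_pow, hcube y hy.1, map_one]) 12 (fun t _ => by
    by_cases hne : ∃ y₀ : G, (orderOf y₀ = 3 ∧ (∃ v : V, v ≠ 0 ∧ (y₀ : V ≃ₗ[ZMod p] V) v = v) ∧ σ y₀ = 1) ∧ ρ y₀ = t
    · obtain ⟨y₀, h3, h4⟩ := hne
      refine R.card_le_four E (S := fun y : G => (orderOf y = 3 ∧ (∃ v : V, v ≠ 0 ∧ (y : V ≃ₗ[ZMod p] V) v = v) ∧
        σ y = 1) ∧ ρ y = t) y₀ ?_ 3 ?_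
      · intro y hy
        exact R.inv_mul_mem E hK (h4.trans hy.2.symm) (h3.2.2.trans hy.1.2.2.symm)
      · intro y₁ hy₁
        refine le_trans (Nat.card_le_card_of_injective (fun y => (⟨y.1, hcube y.1 y.2.1.1.1, y.2.2⟩ :
          {y : G // y ^ 3 = 1 ∧ (y₁ : V ≃ₗ[ZMod p] V)⁻¹ * (y : V ≃ₗ[ZMod p] V) ∈ A})) ?_)
          (coset_lin E hK (by norm_num) (hcube y₁ hy₁.1.1) hy₁.1.2.2)
        intro a b h
        have h5 : a.1 = b.1 := congrArg (fun z : {y : G // y ^ 3 = 1 ∧
          (y₁ : V ≃ₗ[ZMod p] V)⁻¹ * (y : V ≃ₗ[ZMod p] V) ∈ A} => z.1) h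
        exact Subtype.ext h5
    · have : IsEmpty {y : G // (orderOf y = 3 ∧ (∃ v : V, v ≠ 0 ∧ (y : V ≃ₗ[ZMod p] V) v = v) ∧ σ y = 1) ∧
        ρ y = t} := ⟨fun y => hne ⟨y.1, y.2⟩⟩
      rw [Nat.card_of_isEmpty]
      exact Nat.zero_le _)
  rw [ht] at h1
  exact h1

/-- the fixed spaces of `y` and `n y n⁻¹` are disjoint -/
theorem card_sq_le {y n : V ≃ₗ[ZMod p] V} (h : ∀ w ∈ fx y, n w ∈ fx y → w = 0) :
    Nat.card (fx y) ^ 2 ≤ Nat.card V := by
  rw [pow_two, ← Nat.card_prod]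
  refine Nat.card_le_card_of_injective (fun z : fx y × fx y => (z.1 : V) + n (z.2 : V)) ?_
  rintro ⟨a, b⟩ ⟨a', b'⟩ hab
  have h1 : (a : V) + n (b : V) = a' + n (b' : V) := hab
  have h2 : n ((b : V) - b') = (a' : V) - a := by
    rw [map_sub]
    have h3 : n (b : V) - n (b' : V) = ((a : V) + n (b : V)) - a - n (b' : V) := by abel
    rw [h3, h1]
    abel
  have h3 : (b : V) - b' = 0 := by
    apply h _ (Submodule.sub_mem _ b.2 b'.2)
    rw [h2]
    exact Submodule.sub_mem _ a'.2 a.2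
  have h4 : (b : V) = b' := sub_eq_zero.1 h3
  rw [h4] at h1
  exact Prod.ext (Subtype.ext (add_right_cancel h1)) (Subtype.ext h4)

theorem no_fix_of_perm : ∀ t : Equiv.Perm (Fin 3), t ^ 3 = 1 → t ≠ 1 → t 0 ≠ 0 := by decide +kernel

/-- P4b -/
theorem card_three [Nontrivial V] (E : ETwo G A F) (hK : KS G A K χ σ) (hp : 5 ≤ p) (_hcop : ¬ p ∣ Nat.card G)
    {y : G} (hy : orderOf y = 3) (hfix : ∃ v : V, v ≠ 0 ∧ (y : V ≃ₗ[ZMod p] V) v = v) (hσ : σ y = 1) :
    Nat.card (fx (y : V ≃ₗ[ZMod p] V)) ^ 2 ≤ Nat.card V := by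
  obtain ⟨ρ, n, R⟩ := exists_rho E
  have hy3 : y ^ 3 = 1 := by rw [← hy]; exact pow_orderOf_eq_one y
  have h1 := rho_ne_one R E hK Nat.prime_three (by norm_num) hy hfix hσ
  have h2 : (ρ y) ^ 3 = 1 := by rw [← map_pow, hy3, map_one]
  have h3 := no_fix_of_perm _ h2 h1
  obtain ⟨j, hj⟩ : ∃ j, ρ y 0 = j := ⟨_, rfl⟩
  rw [hj] at h3
  have h4 := (R.act y 0 j).1 hj
  -- the anticommuting elements
  obtain ⟨m, hm⟩ : ∃ m, m = (y : V ≃ₗ[ZMod p] V) * n 0 * (y : V ≃ₗ[ZMod p] V)⁻¹ := ⟨_, rfl⟩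
  rw [← hm] at h4
  have hmF : m ∈ F := by rw [hm]; exact E.nF _ y.2 _ (R.memF 0)
  have hmA : m ∉ A := by
    intro h
    apply R.notA 0
    have h5 := E.nA _ (inv_mem y.2) _ h
    have h6 : (y : V ≃ₗ[ZMod p] V)⁻¹ * m * (y : V ≃ₗ[ZMod p] V)⁻¹⁻¹ = n 0 := by rw [hm]; group
    rwa [h6] at h5
  have h0m : (n 0)⁻¹ * m ∉ A := by
    intro h
    apply h3
    apply R.inj
    have h5 : (n j)⁻¹ * n 0 = ((n j)⁻¹ * m) * ((n 0)⁻¹ * m)⁻¹ := by group
    rw [h5]
    exact mul_mem h4 (inv_mem h)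
  have hanti := anti E (R.memF 0) hmF (R.notA 0) hmA h0m
  have hsq : m * m = n 0 * n 0 := by
    have h5 := (hK.cen y).1 hσ _ (E.sq _ (R.memF 0))
    calc m * m = ((y : V ≃ₗ[ZMod p] V) * (n 0 * n 0)) * (y : V ≃ₗ[ZMod p] V)⁻¹ := by rw [hm]; group
      _ = n 0 * n 0 := by rw [h5]; group
  -- `u = m n⁻¹`
  have hu : (m * (n 0)⁻¹) * (m * (n 0)⁻¹) = ng p V := by
    have h5 : (n 0)⁻¹ * m = ng p V * (m * (n 0)⁻¹) := by
      have h6 : (n 0)⁻¹ * (n 0 * m) * (n 0)⁻¹ = (n 0)⁻¹ * (ng p V * (m * n 0)) * (n 0)⁻¹ := by rw [hanti]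
      have h7 : (n 0)⁻¹ * (n 0 * m) * (n 0)⁻¹ = m * (n 0)⁻¹ := by group
      have h8 : (n 0)⁻¹ * (ng p V * (m * n 0)) * (n 0)⁻¹ = ((n 0)⁻¹ * ng p V) * m := by group
      rw [h7, h8, ← ng_comm, mul_assoc] at h6
      rw [h6, ← mul_assoc, ng_mul_ng, one_mul]
    calc (m * (n 0)⁻¹) * (m * (n 0)⁻¹) = m * ((n 0)⁻¹ * m) * (n 0)⁻¹ := by group
      _ = (m * ng p V) * (m * (n 0)⁻¹) * (n 0)⁻¹ := by rw [h5]; group
      _ = ng p V * (m * m) * (n 0 * n 0)⁻¹ := by rw [← ng_comm]; group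
      _ = ng p V := by rw [hsq]; group
  apply card_sq_le (n := n 0)
  intro w hw hnw
  rw [mem_fx] at hw hnw
  have h5 : (m * (n 0)⁻¹) (n 0 w) = n 0 w := by
    have h6 : (m * (n 0)⁻¹) (n 0 w) = m w := by
      rw [← LinearEquiv.mul_apply, inv_mul_cancel_right]
    have h7 : m w = (y : V ≃ₗ[ZMod p] V) (n 0 ((y : V ≃ₗ[ZMod p] V)⁻¹ w)) := by rw [hm]; rfl
    have h8 : (y : V ≃ₗ[ZMod p] V)⁻¹ w = w := by
      have h9 : (y : V ≃ₗ[ZMod p] V)⁻¹ ((y : V ≃ₗ[ZMod p] V) w) = w := by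
        rw [← LinearEquiv.mul_apply, inv_mul_cancel]; rfl
      rwa [hw] at h9
    rw [h6, h7, h8, hnw]
  have h6 : n 0 w = -(n 0 w) := by
    have h7 : ((m * (n 0)⁻¹) * (m * (n 0)⁻¹)) (n 0 w) = n 0 w := by
      rw [LinearEquiv.mul_apply, h5, h5]
    rw [hu, ng_apply] at h7
    exact h7.symm
  have h7 : n 0 w = 0 := by
    have h8 : (2 : ZMod p) • n 0 w = 0 := by
      rw [two_smul]
      nth_rewrite 1 [h6]
      exact neg_add_cancel _
    rcases smul_eq_zero.1 h8 with h9 | h9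
    · exfalso
      have h10 : ((2 : ℕ) : ZMod p) = 0 := by exact_mod_cast h9
      rw [ZMod.natCast_eq_zero_iff] at h10
      exact absurd (Nat.le_of_dvd (by norm_num) h10) (by omega)
    · exact h9
  exact (LinearEquiv.map_eq_zero_iff (n 0)).1 h7

/-! ### the semilinear elements -/

theorem finite_aut (hK : KS G A K χ σ) : Finite (K ≃+* K) := by
  have := hK.fin
  exact Finite.of_injective (fun f : K ≃+* K => (f : K → K)) DFunLike.coe_injective

theorem card_aut_le (hK : KS G A K χ σ) [Fintype (K ≃+* K)] [DecidableEq (K ≃+* K)] {r : ℕ} (hr : 0 < r) :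
    (Finset.univ.filter fun t : K ≃+* K => t ^ r = 1 ∧ t ≠ 1).card ≤ r - 1 := by
  have := hK.fin
  have hc : IsCyclic (K ≃+* K) := Cfsg.Agent.LieRecognition.FieldSemilinear.isCyclic_ringAut K
  have h1 := IsCyclic.card_pow_eq_one_le (α := K ≃+* K) hr
  have h2 : (Finset.univ.filter fun t : K ≃+* K => t ^ r = 1 ∧ t ≠ 1) =
      (Finset.univ.filter fun t : K ≃+* K => t ^ r = 1).erase 1 := by
    ext t
    simp only [Finset.mem_filter, Finset.mem_univ, true_and, Finset.mem_erase]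
    exact and_comm
  rw [h2, Finset.card_erase_of_mem (by simp only [_root_.Finset.mem_filter, _root_.Finset.mem_univ, _root_.one_pow, _root_.and_self])]
  omega

/-- a set inside a coset of `A` of elements of order `r` -/
theorem coset_semi' [Nontrivial V] (E : ETwo G A F) (hK : KS G A K χ σ) {r : ℕ} (hr : r.Prime) {q₀ : ℕ}
    (hq : Nat.card K = q₀ ^ r) {S : G → Prop} (hS : ∀ y, S y → y ^ r = 1 ∧ σ y ≠ 1) {y₁ : G} (hy₁ : S y₁) :
    Nat.card {y // S y ∧ (y₁ : V ≃ₗ[ZMod p] V)⁻¹ * (y : V ≃ₗ[ZMod p] V) ∈ A} ≤ (q₀ ^ r - 1) / (q₀ - 1) := by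
  have := finite_gl (p := p) (V := V)
  obtain ⟨q, hq2, hqK, hle⟩ := coset_semi E hK hr (hS y₁ hy₁).1 (hS y₁ hy₁).2
  have e : q = q₀ := by
    rw [hq] at hqK
    exact (Nat.pow_left_injective hr.ne_zero hqK).symm
  rw [e] at hle hq2
  rw [Nat.le_div_iff_mul_le (by omega), mul_comm]
  refine le_trans (Nat.mul_le_mul_left _ (Nat.card_le_card_of_injective (fun y =>
    (⟨y.1, (hS y.1 y.2.1).1, y.2.2⟩ : {y : G // y ^ r = 1 ∧
      (y₁ : V ≃ₗ[ZMod p] V)⁻¹ * (y : V ≃ₗ[ZMod p] V) ∈ A})) ?_)) hle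
  intro a b h
  have h5 : a.1 = b.1 := congrArg (fun z : {y : G // y ^ r = 1 ∧
    (y₁ : V ≃ₗ[ZMod p] V)⁻¹ * (y : V ≃ₗ[ZMod p] V) ∈ A} => z.1) h
  exact Subtype.ext h5

/-- elements of order `r` outside `C`, with prescribed action on `F / A` -/
theorem count_semi [Nontrivial V] (E : ETwo G A F) (hK : KS G A K χ σ) {ρ : G →* Equiv.Perm (Fin 3)}
    {n : Fin 3 → (V ≃ₗ[ZMod p] V)} (R : Rho G A F ρ n) {r : ℕ} (hr : r.Prime) {q₀ : ℕ}
    (hq : Nat.card K = q₀ ^ r) {S : G → Prop} (hS : ∀ y, S y → y ^ r = 1 ∧ σ y ≠ 1)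
    (t : Finset (Equiv.Perm (Fin 3))) (ht : ∀ y, S y → ρ y ∈ t) :
    Nat.card {y // S y} ≤ (q₀ ^ r - 1) / (q₀ - 1) * 4 * ((r - 1) * t.card) := by
  classical
  have := finite_gl (p := p) (V := V)
  have := finite_aut hK
  have := Fintype.ofFinite (K ≃+* K)
  have h0 := card_aut_le hK hr.pos
  have h1 := card_le_mul_of (S := S) (fun y => (σ y, ρ y))
    ((Finset.univ.filter fun t : K ≃+* K => t ^ r = 1 ∧ t ≠ 1) ×ˢ t) (fun y hy => by
      rw [Finset.mem_product, Finset.mem_filter]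
      exact ⟨⟨Finset.mem_univ _, by rw [← map_pow, (hS y hy).1, map_one], (hS y hy).2⟩, ht y hy⟩)
    ((q₀ ^ r - 1) / (q₀ - 1) * 4) (fun b _ => by
    by_cases hne : ∃ y₀ : G, S y₀ ∧ (σ y₀, ρ y₀) = b
    · obtain ⟨y₀, h3, h4⟩ := hne
      refine R.card_le_four E (S := fun y : G => S y ∧ (σ y, ρ y) = b) y₀ ?_ _ ?_
      · intro y hy
        have h5 := h4.trans hy.2.symm
        exact R.inv_mul_mem E hK (congrArg Prod.snd h5) (congrArg Prod.fst h5)
      · intro y₁ hy₁
        exact coset_semi' E hK hr hq (S := fun y : G => S y ∧ (σ y, ρ y) = b) (fun y hy => hS y hy.1) hy₁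
    · have : IsEmpty {y : G // S y ∧ (σ y, ρ y) = b} := ⟨fun y => hne ⟨y.1, y.2⟩⟩
      rw [Nat.card_of_isEmpty]
      exact Nat.zero_le _)
  refine h1.trans (Nat.mul_le_mul_left _ ?_)
  rw [Finset.card_product]
  exact Nat.mul_le_mul_right _ h0

/-- P4b -/
theorem count_big_semi [Nontrivial V] (E : ETwo G A F) (hK : KS G A K χ σ) (_hp : 5 ≤ p) (_hcop : ¬ p ∣ Nat.card G)
    {r : ℕ} (hr : r.Prime) (_h5 : 5 ≤ r) {q₀ : ℕ} (hq : Nat.card K = q₀ ^ r) :
    (q₀ - 1) * Nat.card {y : G // orderOf y = r ∧ σ y ≠ 1} ≤ 24 * (r - 1) * (q₀ ^ r - 1) := by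
  obtain ⟨ρ, n, R⟩ := exists_rho E
  have h1 := count_semi E hK R hr hq (S := fun y : G => orderOf y = r ∧ σ y ≠ 1)
    (fun y hy => ⟨by rw [← hy.1]; exact pow_orderOf_eq_one y, hy.2⟩) Finset.univ (fun y _ => Finset.mem_univ _)
  have h2 : (Finset.univ : Finset (Equiv.Perm (Fin 3))).card = 6 := by decide
  rw [h2] at h1
  have h3 : (q₀ - 1) * ((q₀ ^ r - 1) / (q₀ - 1)) ≤ q₀ ^ r - 1 := Nat.mul_div_le _ _
  calc (q₀ - 1) * Nat.card {y : G // orderOf y = r ∧ σ y ≠ 1}
      ≤ (q₀ - 1) * ((q₀ ^ r - 1) / (q₀ - 1) * 4 * ((r - 1) * 6)) := Nat.mul_le_mul_left _ h1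
    _ = 24 * (r - 1) * ((q₀ - 1) * ((q₀ ^ r - 1) / (q₀ - 1))) := by ring
    _ ≤ 24 * (r - 1) * (q₀ ^ r - 1) := Nat.mul_le_mul_left _ h3

/-- elements of order three with the same action on `A` and trivial action on `F / A` are in one coset of `A` -/
theorem mem_A_of_triv (E : ETwo G A F) (hK : KS G A K χ σ) {ρ : G →* Equiv.Perm (Fin 3)}
    {n : Fin 3 → (V ≃ₗ[ZMod p] V)} (R : Rho G A F ρ n) {y y₁ : G} (hy : y ^ 3 = 1) (hy₁ : y₁ ^ 3 = 1)
    (h1 : ρ y = 1) (h2 : ρ y₁ = 1) (h3 : σ y₁ = σ y) : (y₁ : V ≃ₗ[ZMod p] V)⁻¹ * (y : V ≃ₗ[ZMod p] V) ∈ A := by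
  have hN : (A.subgroupOf G).Normal := ⟨fun a ha g => E.nA g g.2 a ha⟩
  have hF := R.inv_mul_mem E hK (h2.trans h1.symm) h3
  have hmk : ∀ g : G, (QuotientGroup.mk g : G ⧸ A.subgroupOf G) = 1 ↔ (g : V ≃ₗ[ZMod p] V) ∈ A := fun g =>
    QuotientGroup.eq_one_iff g
  obtain ⟨m, hm⟩ : ∃ m : G, m = y₁⁻¹ * y := ⟨_, rfl⟩
  have hmF : (m : V ≃ₗ[ZMod p] V) ∈ F := by rw [hm]; exact hF
  have e1 : y = y₁ * m := by rw [hm]; group
  have hcomm : Commute (QuotientGroup.mk y₁ : G ⧸ A.subgroupOf G) (QuotientGroup.mk m) := by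
    have h4 := (R.triv y₁).1 h2 _ hmF
    have h5 : (QuotientGroup.mk (y₁ * m * y₁⁻¹ * m⁻¹) : G ⧸ A.subgroupOf G) = 1 := (hmk _).2 h4
    rw [QuotientGroup.mk_mul, QuotientGroup.mk_mul, QuotientGroup.mk_mul, QuotientGroup.mk_inv,
      QuotientGroup.mk_inv] at h5
    exact mul_inv_eq_iff_eq_mul.1 (mul_inv_eq_one.1 h5)
  have h4 : (QuotientGroup.mk m : G ⧸ A.subgroupOf G) ^ 3 = 1 := by
    have h5 : (QuotientGroup.mk y₁ : G ⧸ A.subgroupOf G) ^ 3 * (QuotientGroup.mk m) ^ 3 = 1 := by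
      rw [← hcomm.mul_pow, ← QuotientGroup.mk_mul, ← e1, ← QuotientGroup.mk_pow, hy]
      rfl
    rw [← QuotientGroup.mk_pow, hy₁] at h5
    rw [QuotientGroup.mk_one, one_mul] at h5
    exact h5
  have h5 : (QuotientGroup.mk m : G ⧸ A.subgroupOf G) ^ 2 = 1 := by
    rw [← QuotientGroup.mk_pow, hmk, pow_two]
    exact E.sq _ hmF
  have h6 : (QuotientGroup.mk m : G ⧸ A.subgroupOf G) = 1 := by
    rw [pow_succ, h5, one_mul] at h4
    exact h4
  rw [hm] at h6
  exact (hmk _).1 h6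

/-- P4b -/
theorem count_three_semi [Nontrivial V] (E : ETwo G A F) (hK : KS G A K χ σ) (_hp : 5 ≤ p) (_hcop : ¬ p ∣ Nat.card G)
    {q₀ : ℕ} (hq : Nat.card K = q₀ ^ 3) :
    Nat.card {y : G // orderOf y = 3 ∧ σ y ≠ 1} ≤ 18 * (q₀ ^ 2 + q₀ + 1) := by
  classical
  have := finite_gl (p := p) (V := V)
  have := finite_aut hK
  have := Fintype.ofFinite (K ≃+* K)
  have := hK.fin
  obtain ⟨ρ, n, R⟩ := exists_rho E
  have hq2 : 2 ≤ q₀ := by
    by_contra hlt
    have h1 : 1 < Nat.card K := Finite.one_lt_card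
    rw [hq] at h1
    interval_cases q₀ <;> simp at h1
  have hdiv : (q₀ ^ 3 - 1) / (q₀ - 1) = q₀ ^ 2 + q₀ + 1 := by
    obtain ⟨k, rfl⟩ := Nat.exists_eq_add_of_le' (show 1 ≤ q₀ by omega)
    have h1 : (k + 1) ^ 3 - 1 = k * ((k + 1) ^ 2 + (k + 1) + 1) := by
      rw [show (k + 1) ^ 3 = k * ((k + 1) ^ 2 + (k + 1) + 1) + 1 by ring]
      rfl
    rw [h1, Nat.add_sub_cancel, Nat.mul_div_cancel_left _ (by omega)]
  have hcube : ∀ y : G, orderOf y = 3 → y ^ 3 = 1 := fun y hy => by rw [← hy]; exact pow_orderOf_eq_one y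
  -- the part acting as a three-cycle
  have h1 := count_semi E hK R Nat.prime_three hq (S := fun y : G => (orderOf y = 3 ∧ σ y ≠ 1) ∧ ρ y ≠ 1)
    (fun y hy => ⟨hcube y hy.1.1, hy.1.2⟩) (Finset.univ.filter fun t : Equiv.Perm (Fin 3) => t ^ 3 = 1 ∧ t ≠ 1)
    (fun y hy => by
      rw [Finset.mem_filter]
      exact ⟨Finset.mem_univ _, by rw [← map_pow, hcube y hy.1.1, map_one], hy.2⟩)
  have ht : (Finset.univ.filter fun t : Equiv.Perm (Fin 3) => t ^ 3 = 1 ∧ t ≠ 1).card = 2 := by decide +kernel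
  rw [ht, hdiv] at h1
  -- the part acting trivially
  have h0 := card_aut_le hK (show 0 < 3 by norm_num)
  have h2 := card_le_mul_of (S := fun y : G => (orderOf y = 3 ∧ σ y ≠ 1) ∧ ρ y = 1) (fun y => σ y)
    (Finset.univ.filter fun t : K ≃+* K => t ^ 3 = 1 ∧ t ≠ 1) (fun y hy => by
      rw [Finset.mem_filter]
      exact ⟨Finset.mem_univ _, by rw [← map_pow, hcube y hy.1.1, map_one], hy.1.2⟩)
    (q₀ ^ 2 + q₀ + 1) (fun b _ => by
    by_cases hne : ∃ y₁ : G, ((orderOf y₁ = 3 ∧ σ y₁ ≠ 1) ∧ ρ y₁ = 1) ∧ σ y₁ = b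
    · obtain ⟨y₁, h3, h4⟩ := hne
      have h5 := coset_semi' E hK Nat.prime_three hq (S := fun y : G => orderOf y = 3 ∧ σ y ≠ 1)
        (fun y hy => ⟨hcube y hy.1, hy.2⟩) h3.1
      rw [hdiv] at h5
      refine le_trans (Nat.card_le_card_of_injective (fun y : {y : G // ((orderOf y = 3 ∧ σ y ≠ 1) ∧ ρ y = 1) ∧
        σ y = b} => (⟨y.1, y.2.1.1, mem_A_of_triv E hK R (hcube _ y.2.1.1.1) (hcube _ h3.1.1) y.2.1.2 h3.2
          (h4.trans y.2.2.symm)⟩ : {y : G // (orderOf y = 3 ∧ σ y ≠ 1) ∧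
          (y₁ : V ≃ₗ[ZMod p] V)⁻¹ * (y : V ≃ₗ[ZMod p] V) ∈ A})) ?_) h5
      intro a b h
      have h6 : a.1 = b.1 := congrArg (fun z : {y : G // (orderOf y = 3 ∧ σ y ≠ 1) ∧
        (y₁ : V ≃ₗ[ZMod p] V)⁻¹ * (y : V ≃ₗ[ZMod p] V) ∈ A} => z.1) h
      exact Subtype.ext h6
    · have : IsEmpty {y : G // ((orderOf y = 3 ∧ σ y ≠ 1) ∧ ρ y = 1) ∧ σ y = b} := ⟨fun y => hne ⟨y.1, y.2⟩⟩
      rw [Nat.card_of_isEmpty]
      exact Nat.zero_le _)
  have h3 : Nat.card {y : G // (orderOf y = 3 ∧ σ y ≠ 1) ∧ ρ y = 1} ≤ (q₀ ^ 2 + q₀ + 1) * 2 :=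
    h2.trans (Nat.mul_le_mul_left _ h0)
  have h4 : Nat.card {y : G // orderOf y = 3 ∧ σ y ≠ 1} =
      Nat.card {y : G // (orderOf y = 3 ∧ σ y ≠ 1) ∧ ρ y = 1} +
      Nat.card {y : G // (orderOf y = 3 ∧ σ y ≠ 1) ∧ ρ y ≠ 1} := by
    have := Fintype.ofFinite G
    rw [Nat.card_eq_fintype_card, Nat.card_eq_fintype_card, Nat.card_eq_fintype_card, Fintype.card_subtype,
      Fintype.card_subtype, Fintype.card_subtype]
    have h6 := Finset.card_filter_add_card_filter_not
      (s := Finset.univ.filter fun y : G => orderOf y = 3 ∧ σ y ≠ 1) (fun y => ρ y = 1)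
    rw [Finset.filter_filter, Finset.filter_filter] at h6
    exact h6.symm
  rw [h4]
  calc _ ≤ (q₀ ^ 2 + q₀ + 1) * 2 + (q₀ ^ 2 + q₀ + 1) * 4 * ((3 - 1) * 2) := Nat.add_le_add h3 h1
    _ = 18 * (q₀ ^ 2 + q₀ + 1) := by ring

end etwo

end Cfsg.Agent.H583.HT
end

private theorem dce_a0ef96393023 : _root_.True := by
  try have : _root_.True := by simp only [_root_.Cfsg.Agent.H528.HT.nrm.eq_1]
  exact _root_.True.intro
end

-- part: H19/HT/Irr
section
set_option linter.all false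
open scoped Cfsg.Agent.FastGrp

/-!
# Half-transitive linear groups of order divisible by `p` are irreducible (S3512)
-/

set_option autoImplicit false

open scoped Classical
open Cfsg.Agent.H828.HT

namespace Cfsg.Agent.H19.HT

universe u

variable {p : ℕ} [Fact p.Prime] {V : Type u} [AddCommGroup V] [Module (ZMod p) V] [Finite V]
  {G : Subgroup (V ≃ₗ[ZMod p] V)} {h : ℕ}

theorem h_pos (hh : Half G h) {v : V} (hv : v ≠ 0) : 0 < h := by
  rw [← hh v hv]; exact Nat.card_pos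

theorem h_dvd (hh : Half G h) {v : V} (hv : v ≠ 0) : h ∣ Nat.card G := by
  rw [← hh v hv]; exact Subgroup.card_subgroup_dvd_card _

/-- `p ∣ |G|` implies `p ∣ h` -/
theorem p_dvd_h (hh : Half G h) [Nontrivial V] (hp : p ∣ Nat.card G) : p ∣ h := by
  obtain ⟨v, hv⟩ := exists_ne (0 : V)
  have h1 := factorization_eq hh
  have h2 : 0 < (Nat.card G).factorization p :=
    (Fact.out : p.Prime).factorization_pos_of_dvd Nat.card_pos.ne' hp
  exact Nat.dvd_of_factorization_pos (by omega)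

/-- `m` is prime to `p` -/
theorem p_not_dvd_m (hh : Half G h) [Nontrivial V] {m : ℕ} (hm : m * h = Nat.card G) :
    ¬ p ∣ m := by
  obtain ⟨v, hv⟩ := exists_ne (0 : V)
  have h0 := h_pos hh hv
  have hm0 : m ≠ 0 := by
    rintro rfl
    rw [zero_mul] at hm
    exact Nat.card_pos.ne' hm.symm
  have h1 := factorization_eq hh
  rw [← hm, Nat.factorization_mul hm0 h0.ne', Finsupp.add_apply] at h1
  intro hd
  have := (Fact.out : p.Prime).factorization_pos_of_dvd hm0 hd
  omega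

/-- a subgroup `S` of `G` all of whose stabilisers on a set of `p`-power size have order `h` has order `h` -/
theorem card_eq_of_orbits (hh : Half G h) [Nontrivial V] (S : Subgroup G) {X : Type*} [Finite X]
    [MulAction S X] {k : ℕ} (hX : Nat.card X = p ^ k)
    (hst : ∀ x : X, Nat.card (MulAction.stabilizer S x) = h) : Nat.card S = h := by
  obtain ⟨v, hv⟩ := exists_ne (0 : V)
  have h0 := h_pos hh hv
  haveI : Nonempty X := by
    by_contra hc
    rw [not_nonempty_iff] at hc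
    rw [Nat.card_of_isEmpty] at hX
    exact (pow_pos (Fact.out : p.Prime).pos k).ne hX
  obtain ⟨x0⟩ := this
  set c := Nat.card (MulAction.orbit S x0) with hc
  have hor : ∀ x : X, Nat.card (MulAction.orbit S x) * h = Nat.card S := by
    intro x
    rw [← hst x]
    exact Nat.card_congr (MulAction.orbitProdStabilizerEquivGroup S x) ▸
      (Nat.card_prod _ _).symm
  have hc1 : c * h = Nat.card S := hor x0
  have hcX : c ∣ Nat.card X := by
    refine dvd_card_of_orbits (K := S) ?_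
    intro x
    exact Nat.eq_of_mul_eq_mul_right h0 ((hor x).trans hc1.symm)
  rw [hX] at hcX
  obtain ⟨j, -, hj⟩ := (Nat.dvd_prime_pow (Fact.out : p.Prime)).1 hcX
  have hSG : Nat.card S ∣ Nat.card G := Subgroup.card_subgroup_dvd_card _
  have h3 := (Nat.factorization_le_iff_dvd Nat.card_pos.ne' Nat.card_pos.ne').2 hSG p
  have hc0 : c ≠ 0 := by rw [hj]; exact (pow_pos (Fact.out : p.Prime).pos j).ne'
  rw [← hc1, Nat.factorization_mul hc0 h0.ne', Finsupp.add_apply, factorization_eq hh, hj,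
    (Fact.out : p.Prime).factorization_pow, Finsupp.single_eq_same] at h3
  have hj0 : j = 0 := by omega
  rw [← hc1, hj, hj0, pow_zero, one_mul]

/-- **R1.** A half-transitive linear group of order divisible by `p` is irreducible. -/
theorem irred (hh : Half G h) (hp : p ∣ Nat.card G) (W : Submodule (ZMod p) V)
    (hW : ∀ g ∈ G, ∀ w ∈ W, g w ∈ W) : W = ⊥ ∨ W = ⊤ := by
  by_contra hcon
  push Not at hcon
  obtain ⟨hb, ht⟩ := hcon
  obtain ⟨v, hv⟩ : ∃ v, v ∉ W := by
    by_contra hc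
    push Not at hc
    exact ht (eq_top_iff.2 fun v _ => hc v)
  obtain ⟨w0, hw0, hw0'⟩ := Submodule.exists_mem_ne_zero_of_ne_bot hb
  haveI : Nontrivial V := ⟨⟨w0, 0, hw0'⟩⟩
  have hv0 : v ≠ 0 := fun h => hv (h ▸ W.zero_mem)
  have h0 := h_pos hh hv0
  let S : Subgroup G :=
    { carrier := {g | (g : V ≃ₗ[ZMod p] V) v - v ∈ W}
      one_mem' := by
        change (1 : V ≃ₗ[ZMod p] V) v - v ∈ W
        rw [LinearEquiv.coe_one, id, sub_self]
        exact W.zero_mem
      mul_mem' := by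
        intro a b ha hb
        change (a : V ≃ₗ[ZMod p] V) ((b : V ≃ₗ[ZMod p] V) v) - v ∈ W
        have e : (a : V ≃ₗ[ZMod p] V) ((b : V ≃ₗ[ZMod p] V) v) - v =
            (a : V ≃ₗ[ZMod p] V) ((b : V ≃ₗ[ZMod p] V) v - v) +
              ((a : V ≃ₗ[ZMod p] V) v - v) := by
          rw [map_sub]; abel
        rw [e]
        exact W.add_mem (hW _ a.2 _ hb) ha
      inv_mem' := by
        intro a ha
        change ((a⁻¹ : G) : V ≃ₗ[ZMod p] V) v - v ∈ W
        have e : ((a⁻¹ : G) : V ≃ₗ[ZMod p] V) v - v =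
            - ((a⁻¹ : G) : V ≃ₗ[ZMod p] V) ((a : V ≃ₗ[ZMod p] V) v - v) := by
          rw [map_sub]
          have : ((a⁻¹ : G) : V ≃ₗ[ZMod p] V) ((a : V ≃ₗ[ZMod p] V) v) = v := by
            change ((a⁻¹ * a : G) : V ≃ₗ[ZMod p] V) v = v
            rw [inv_mul_cancel]; rfl
          rw [this]; abel
        rw [e]
        exact W.neg_mem (hW _ (a⁻¹ : G).2 _ ha) }
  have hS : ∀ g : G, g ∈ S ↔ (g : V ≃ₗ[ZMod p] V) v - v ∈ W := fun g => Iff.rfl
  let X := {u : V // u - v ∈ W}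
  letI : MulAction S X :=
    { smul := fun g u => ⟨((g : G) : V ≃ₗ[ZMod p] V) u.1, by
        have e : ((g : G) : V ≃ₗ[ZMod p] V) u.1 - v =
            ((g : G) : V ≃ₗ[ZMod p] V) (u.1 - v) + (((g : G) : V ≃ₗ[ZMod p] V) v - v) := by
          rw [map_sub]; abel
        rw [e]
        exact W.add_mem (hW _ (g : G).2 _ u.2) g.2⟩
      one_smul := fun u => Subtype.ext rfl
      mul_smul := fun a b u => Subtype.ext rfl }
  have hne : ∀ u : X, u.1 ≠ 0 := by
    intro u hu
    have := u.2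
    rw [hu, zero_sub] at this
    exact hv ((neg_mem_iff).1 this)
  have hle : ∀ u : X, MulAction.stabilizer G u.1 ≤ S := by
    intro u g hg
    rw [hS]
    have hg' : (g : V ≃ₗ[ZMod p] V) u.1 = u.1 := hg
    have e : (g : V ≃ₗ[ZMod p] V) v - v =
        (u.1 - v) - (g : V ≃ₗ[ZMod p] V) (u.1 - v) := by
      rw [map_sub, hg']; abel
    rw [e]
    exact W.sub_mem u.2 (hW _ g.2 _ u.2)
  have hst : ∀ u : X, Nat.card (MulAction.stabilizer S u) = h := by
    intro u
    rw [← hh u.1 (hne u)]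
    refine Nat.card_congr ⟨fun g => ⟨g.1.1, ?_⟩, fun g => ⟨⟨g.1, hle u g.2⟩, ?_⟩, ?_, ?_⟩
    · exact congrArg Subtype.val g.2
    · exact Subtype.ext g.2
    · intro g; rfl
    · intro g; rfl
  have hXc : Nat.card X = p ^ Module.finrank (ZMod p) W := by
    rw [← card_eq_pow (p := p) W]
    refine Nat.card_congr ⟨fun u => ⟨u.1 - v, u.2⟩, fun w => ⟨w.1 + v, by
      rw [add_sub_cancel_right]; exact w.2⟩, ?_, ?_⟩
    · intro u; exact Subtype.ext (sub_add_cancel _ _)
    · intro w; exact Subtype.ext (add_sub_cancel_right _ _)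
  have hSh := card_eq_of_orbits hh S hXc hst
  -- all stabilisers of vectors in `v + W` are `S`
  have hall : ∀ u : X, MulAction.stabilizer G u.1 = S :=
    fun u => Subgroup.eq_of_le_of_card_ge (hle u) (by rw [hSh, hh u.1 (hne u)])
  have h2 : 2 ≤ h := (Fact.out : p.Prime).two_le.trans (Nat.le_of_dvd h0 (p_dvd_h hh hp))
  obtain ⟨g0, hg0⟩ : ∃ g0 : S, g0 ≠ 1 := by
    haveI : Nontrivial S := by
      rw [← Finite.one_lt_card_iff_nontrivial, hSh]; omega
    exact exists_ne 1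
  have hfix : W ≤ fx ((g0 : G) : V ≃ₗ[ZMod p] V) := by
    intro w hw
    rw [mem_fx]
    have h3 : (g0 : G) ∈ MulAction.stabilizer G (v + w) := by
      rw [hall ⟨v + w, by rw [add_sub_cancel_left]; exact hw⟩]; exact g0.2
    have h4 : (g0 : G) ∈ MulAction.stabilizer G v := by
      rw [hall ⟨v, by rw [sub_self]; exact W.zero_mem⟩]; exact g0.2
    have h3' : ((g0 : G) : V ≃ₗ[ZMod p] V) (v + w) = v + w := h3
    have h4' : ((g0 : G) : V ≃ₗ[ZMod p] V) v = v := h4
    rw [map_add, h4'] at h3'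
    exact add_left_cancel h3'
  obtain ⟨m, hm, hm0⟩ := exists_m hh ⟨v, hv0⟩
  have h5 := fx_lt hh h0 hm (g₀ := (g0 : G)) (fun hc => hg0 (Subtype.ext hc))
  have h6 : Nat.card W ≤ Nat.card (fx ((g0 : G) : V ≃ₗ[ZMod p] V)) :=
    Nat.card_le_card_of_injective _ (Submodule.inclusion_injective hfix)
  have h7 := dvd_invariant hh h0 hm {w : V | w ∈ W ∧ w ≠ 0} (by simp) (by
    rintro g hg w ⟨hw, hw'⟩
    exact ⟨hW g hg w hw, by simpa using hw'⟩)
  have h8 : Nat.card {w : V | w ∈ W ∧ w ≠ 0} + 1 = Nat.card W := by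
    have e : Nat.card {w : V | w ∈ W ∧ w ≠ 0} =
        Nat.card {w : W // w ∈ Finset.univ.erase (0 : W)} := by
      refine Nat.card_congr ⟨fun w => ⟨⟨w.1, w.2.1⟩, ?_⟩, fun w => ⟨w.1.1, w.1.2, ?_⟩, ?_, ?_⟩
      · rw [Finset.mem_erase]
        exact ⟨fun hc => w.2.2 (congrArg Subtype.val hc), Finset.mem_univ _⟩
      · intro hc
        exact (Finset.mem_erase.1 w.2).1 (Subtype.ext hc)
      · intro w; rfl
      · intro w; rfl
    rw [e, Nat.card_eq_fintype_card, Fintype.card_coe,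
      Finset.card_erase_of_mem (Finset.mem_univ _), Finset.card_univ, Nat.card_eq_fintype_card]
    exact Nat.sub_add_cancel Fintype.card_pos
  have h9 : 0 < Nat.card {w : V | w ∈ W ∧ w ≠ 0} := by
    haveI : Nonempty {w : V | w ∈ W ∧ w ≠ 0} := ⟨⟨w0, hw0, hw0'⟩⟩
    exact Nat.card_pos
  have h10 := Nat.le_of_dvd h9 h7
  omega

end Cfsg.Agent.H19.HT
end

-- part: H19/HT/Blk
section
prune_inst 0x21000000000000000000000000000020040000000000000060010146080250608000200040800c034820018000000008111000000000000000200000000000000022000011340c04000006000002000000000000000000000000000000041000000000000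
set_option linter.all false
open scoped Cfsg.Agent.FastGrp

/-!
# Imprimitive half-transitive linear groups of order divisible by `p` (S3512, R4)
-/

set_option autoImplicit false
set_option linter.style.haveILetI false
set_option linter.unusedSectionVars false

open scoped Classical
open Cfsg.Agent.H828.HT Cfsg.Agent.H960.HT

namespace Cfsg.Agent.H19.HT

universe u

variable {p : ℕ} [Fact p.Prime] {V : Type u} [AddCommGroup V] [Module (ZMod p) V] [Finite V]
  {G : Subgroup (V ≃ₗ[ZMod p] V)} {h : ℕ} {B : Set (Submodule (ZMod p) V)}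

/-- blocks are independent: a vector of one block which is a sum of vectors of other blocks is zero -/
theorem sys_zero (H : Sys G B) {X : Submodule (ZMod p) V} (hX : X ∈ B) {x y : V} (hx : x ∈ X)
    (hxy : x = y) (hy : y ∈ sSup (B \ {X})) : x = 0 :=
  Submodule.disjoint_def.1 (H.ind hX) x hx (hxy ▸ hy)

theorem mem_rest {X Y : Submodule (ZMod p) V} (hY : Y ∈ B) (hYX : Y ≠ X) {y : V} (hy : y ∈ Y) :
    y ∈ sSup (B \ {X}) :=
  (le_sSup (s := B \ {X}) ⟨hY, hYX⟩) hy

theorem map_ne {g : V ≃ₗ[ZMod p] V} {X Y : Submodule (ZMod p) V} (hXY : X ≠ Y) :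
    X.map (g : V →ₗ[ZMod p] V) ≠ Y.map (g : V →ₗ[ZMod p] V) := by
  intro hc
  exact hXY (Submodule.map_injective_of_injective (f := (g : V →ₗ[ZMod p] V)) g.injective hc)

/-- the stabiliser of the sum of two block vectors permutes them -/
theorem sum_stab (H : Sys G B) {X Y : Submodule (ZMod p) V} (hX : X ∈ B) (hY : Y ∈ B)
    (hXY : X ≠ Y) {v w : V} (hv : v ∈ X) (hv0 : v ≠ 0) (hw : w ∈ Y)
    {s : V ≃ₗ[ZMod p] V} (hsG : s ∈ G) (hs : s (v + w) = v + w) :
    (s v = v ∧ s w = w) ∨ s v = w := by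
  have hsv : s v ∈ X.map (s : V →ₗ[ZMod p] V) := ⟨v, hv, rfl⟩
  have hsw : s w ∈ Y.map (s : V →ₗ[ZMod p] V) := ⟨w, hw, rfl⟩
  have hsX := H.perm s hsG X hX
  have hsY := H.perm s hsG Y hY
  have hne := map_ne (g := s) hXY
  rw [map_add] at hs
  by_cases h1 : X.map (s : V →ₗ[ZMod p] V) = X
  · left
    have h2 : s v - v = w - s w := by
      rw [sub_eq_sub_iff_add_eq_add, hs, add_comm]
    have h3 := sys_zero H hX (X.sub_mem (h1 ▸ hsv) hv) h2
      ((sSup (B \ {X})).sub_mem (mem_rest hY hXY.symm hw)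
        (mem_rest hsY (fun h => hne (h1.trans h.symm)) hsw))
    have h4 : s v = v := sub_eq_zero.1 h3
    refine ⟨h4, ?_⟩
    rw [h4] at hs
    exact add_left_cancel hs
  · by_cases h2 : X.map (s : V →ₗ[ZMod p] V) = Y
    · right
      have h3 : s v - w = v - s w := by
        rw [sub_eq_sub_iff_add_eq_add, hs]
      have h4 := sys_zero H hY (Y.sub_mem (h2 ▸ hsv) hw) h3
        ((sSup (B \ {Y})).sub_mem (mem_rest hX hXY hv)
          (mem_rest hsY (fun h => hne (h2.trans h.symm)) hsw))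
      exact sub_eq_zero.1 h4
    · exfalso
      have h3 : s v = v + w - s w := by rw [← hs, add_sub_cancel_right]
      have h4 := sys_zero H hsX hsv h3
        ((sSup (B \ {X.map (s : V →ₗ[ZMod p] V)})).sub_mem
          ((sSup (B \ {X.map (s : V →ₗ[ZMod p] V)})).add_mem
            (mem_rest hX (fun h => h1 h.symm) hv) (mem_rest hY (fun h => h2 h.symm) hw))
          (mem_rest hsY hne.symm hsw))
      exact hv0 ((map_eq_zero_iff _ s.injective).1 h4)

/-- **Key lemma.** squares of elements fixing a block vector fix all vectors of the other blocks -/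
theorem sq_fix (hh : Half G h) (H : Sys G B) {X Y : Submodule (ZMod p) V} (hX : X ∈ B)
    (hY : Y ∈ B) (hXY : X ≠ Y) {v w : V} (hv : v ∈ X) (hv0 : v ≠ 0) (hw : w ∈ Y)
    {g : G} (hg : (g : V ≃ₗ[ZMod p] V) v = v) :
    ((g * g : G) : V ≃ₗ[ZMod p] V) w = w := by
  have hvw : v + w ≠ 0 := by
    intro hc
    have h1 : v = -w := eq_neg_of_add_eq_zero_left hc
    exact hv0 (sys_zero H hX hv h1 ((sSup (B \ {X})).neg_mem (mem_rest hY hXY.symm hw)))
  let S := MulAction.stabilizer G (v + w)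
  let T := MulAction.stabilizer G v
  let D : Subgroup G := T ⊓ MulAction.stabilizer G w
  have hS : Nat.card S = h := hh _ hvw
  have hT : Nat.card T = h := hh _ hv0
  have hSD : Nat.card S ≤ 2 * Nat.card D := by
    have h1 := Nat.card_congr (MulAction.orbitProdStabilizerEquivGroup S v)
    rw [Nat.card_prod] at h1
    have h2 : Nat.card (MulAction.orbit S v) ≤ 2 := by
      have hsub : MulAction.orbit S v ⊆ {v, w} := by
        rintro _ ⟨s, rfl⟩
        rcases sum_stab H hX hY hXY hv hv0 hw s.1.2 s.2 with h | h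
        · left; exact h.1
        · right; exact h
      calc Nat.card (MulAction.orbit S v) ≤ Nat.card ({v, w} : Set V) :=
            Nat.card_mono (Set.toFinite _) hsub
        _ ≤ 2 := by
            rw [Nat.card_coe_set_eq]
            exact (Set.ncard_insert_le _ _).trans (by rw [Set.ncard_singleton])
    have h3 : Nat.card (MulAction.stabilizer S v) ≤ Nat.card D := by
      refine Nat.card_le_card_of_injective
        (fun s => (⟨s.1.1, ?_⟩ : D)) ?_
      · have hs1 : ((s.1.1 : G) : V ≃ₗ[ZMod p] V) v = v := s.2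
        have hs2 : ((s.1.1 : G) : V ≃ₗ[ZMod p] V) (v + w) = v + w := s.1.2
        refine ⟨hs1, ?_⟩
        rw [map_add, hs1] at hs2
        exact add_left_cancel hs2
      · intro a b hab
        apply Subtype.ext
        apply Subtype.ext
        exact congrArg (fun x : D => x.1) hab
    rw [← h1]
    exact Nat.mul_le_mul h2 h3
  have hDT : D ≤ T := inf_le_left
  have hidx : (D.subgroupOf T).index ≤ 2 := by
    have h1 := (D.subgroupOf T).card_mul_index
    have h2 : Nat.card (D.subgroupOf T) = Nat.card D :=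
      Nat.card_congr (Subgroup.subgroupOfEquivOfLe hDT).toEquiv
    rw [h2] at h1
    have h3 : 0 < Nat.card D := Nat.card_pos
    by_contra hc
    push Not at hc
    have h4 : Nat.card D * 3 ≤ Nat.card D * (D.subgroupOf T).index :=
      Nat.mul_le_mul_left _ hc
    have h5 : Nat.card D * (D.subgroupOf T).index = h := h1.trans hT
    omega
  have hmem : (⟨g, hg⟩ : T) * ⟨g, hg⟩ ∈ D.subgroupOf T := by
    have h0 : (D.subgroupOf T).index ≠ 0 := Subgroup.index_ne_zero_of_finite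
    have h1 : (D.subgroupOf T).index = 1 ∨ (D.subgroupOf T).index = 2 := by omega
    rcases h1 with h1 | h1
    · rw [Subgroup.index_eq_one.1 h1]; trivial
    · exact Subgroup.mul_self_mem_of_index_two h1 _
  rw [Subgroup.mem_subgroupOf] at hmem
  exact hmem.2

/-- an element of odd order fixing a block vector is trivial -/
theorem odd_trivial (hh : Half G h) (hirr : Irr G) (H : Sys G B) {X : Submodule (ZMod p) V}
    (hX : X ∈ B) {v : V} (hv : v ∈ X) (hv0 : v ≠ 0) {g : G}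
    (hg : (g : V ≃ₗ[ZMod p] V) v = v) (ho : Odd (orderOf g)) : g = 1 := by
  have hpow : ∀ w : V, ((g * g : G) : V ≃ₗ[ZMod p] V) w = w → (g : V ≃ₗ[ZMod p] V) w = w := by
    intro w hw
    obtain ⟨l, hl⟩ := ho
    have h1 : ∀ n : ℕ, (((g * g) ^ n : G) : V ≃ₗ[ZMod p] V) w = w := by
      intro n
      induction n with
      | zero => rfl
      | succ n ih =>
        rw [pow_succ']
        change ((g * g : G) : V ≃ₗ[ZMod p] V) ((((g * g) ^ n : G) : V ≃ₗ[ZMod p] V) w) = w
        rw [ih, hw]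
    have h2 : (g * g) ^ (l + 1) = g := by
      rw [← pow_two, ← pow_mul]
      have : 2 * (l + 1) = orderOf g + 1 := by omega
      rw [this, pow_succ, pow_orderOf_eq_one, one_mul]
    have h3 := h1 (l + 1)
    rw [h2] at h3
    exact h3
  obtain ⟨Y, hY, hYX⟩ := H.nt.exists_ne X
  obtain ⟨w, hw, hw0⟩ := Submodule.exists_mem_ne_zero_of_ne_bot (H.ne Y hY)
  have h1 : ∀ Z ∈ B, Z ≠ X → ∀ z ∈ Z, (g : V ≃ₗ[ZMod p] V) z = z :=
    fun Z hZ hZX z hz => hpow z (sq_fix hh H hX hZ hZX.symm hv hv0 hz hg)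
  have h2 : ∀ x ∈ X, (g : V ≃ₗ[ZMod p] V) x = x :=
    fun x hx => hpow x (sq_fix hh H hY hX hYX hw hw0 hx (h1 Y hY hYX w hw))
  have h3 : ∀ Z ∈ B, Z ≤ fx (g : V ≃ₗ[ZMod p] V) := by
    intro Z hZ z hz
    rw [mem_fx]
    by_cases h : Z = X
    · subst h; exact h2 z hz
    · exact h1 Z hZ h z hz
  have h4 : fx (g : V ≃ₗ[ZMod p] V) = ⊤ := by
    rw [eq_top_iff, ← H.iSup_top hirr subset_rfl H.nt.nonempty H.perm]
    exact sSup_le h3
  apply Subtype.ext
  apply LinearEquiv.ext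
  intro z
  have : z ∈ fx (g : V ≃ₗ[ZMod p] V) := by rw [h4]; trivial
  exact mem_fx.1 this

/-- the number of blocks divides the orbit length -/
theorem ncard_dvd (hh : Half G h) (hirr : Irr G) (H : Sys G B) {m : ℕ}
    (hm : m * h = Nat.card G) : B.ncard ∣ m := by
  obtain ⟨X, hX⟩ := H.nt.nonempty
  obtain ⟨v, hv, hv0⟩ := Submodule.exists_mem_ne_zero_of_ne_bot (H.ne X hX)
  letI act : MulAction G B :=
    { smul := fun g Z => ⟨Z.1.map ((g : V ≃ₗ[ZMod p] V) : V →ₗ[ZMod p] V), H.perm g g.2 Z.1 Z.2⟩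
      one_smul := fun Z => Subtype.ext (Submodule.map_id Z.1)
      mul_smul := fun a b Z => Subtype.ext (by
        change Submodule.map _ _ = Submodule.map _ (Submodule.map _ _)
        rw [← Submodule.map_comp]
        rfl) }
  have hsm : ∀ (g : G) (Z : B), (g • Z).1 =
      Z.1.map ((g : V ≃ₗ[ZMod p] V) : V →ₗ[ZMod p] V) := fun g Z => rfl
  have h1 := Nat.card_congr (MulAction.orbitProdStabilizerEquivGroup G (⟨X, hX⟩ : B))
  rw [Nat.card_prod] at h1
  have h2 : MulAction.orbit G (⟨X, hX⟩ : B) = Set.univ := by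
    rw [Set.eq_univ_iff_forall]
    intro Z
    obtain ⟨g, hg, h⟩ := H.trans hirr hX Z.2
    exact ⟨⟨g, hg⟩, Subtype.ext h⟩
  have h3 : Nat.card (MulAction.orbit G (⟨X, hX⟩ : B)) = B.ncard := by
    rw [h2, Nat.card_congr (Equiv.Set.univ _), Nat.card_coe_set_eq]
  have h4 : h ∣ Nat.card (MulAction.stabilizer G (⟨X, hX⟩ : B)) := by
    rw [← hh v hv0]
    refine Subgroup.card_dvd_of_le ?_
    intro g hg
    have hg' : (g : V ≃ₗ[ZMod p] V) v = v := hg
    rw [MulAction.mem_stabilizer_iff]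
    apply Subtype.ext
    rw [hsm]
    by_contra hc
    have h5 : v ∈ X.map ((g : V ≃ₗ[ZMod p] V) : V →ₗ[ZMod p] V) := ⟨v, hv, hg'⟩
    exact hv0 (sys_zero H hX hv rfl (mem_rest (H.perm g g.2 X hX) hc h5))
  obtain ⟨c, hc⟩ := h4
  rw [h3, hc] at h1
  have h0 := h_pos hh hv0
  refine ⟨c, ?_⟩
  have h5 : m * h = (B.ncard * c) * h := by rw [hm, ← h1]; ring
  exact Nat.eq_of_mul_eq_mul_right h0 h5

theorem four_pow_gt (j : ℕ) : 2 * (j + 5) ^ 2 < 4 ^ (j + 3) := by
  induction j with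
  | zero => norm_num
  | succ j ih =>
    have : 4 ^ (j + 1 + 3) = 4 * 4 ^ (j + 3) := by ring
    nlinarith

theorem two_pow_gt' (j : ℕ) : 2 * (j + 7) ^ 2 < 2 ^ (j + 7) := by
  induction j with
  | zero => norm_num
  | succ j ih =>
    have e : 2 ^ (j + 1 + 7) = 2 * 2 ^ (j + 7) := by ring
    have h1 : (j + 1 + 7) ^ 2 ≤ 2 * (j + 7) ^ 2 := by linarith only [_root_.mul_self_nonneg (↑j : ℤ), _root_.Nat.cast_nonneg (α := ℤ) (j)]
    omega

/-- the arithmetic of the imprimitive case in characteristic two -/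
theorem num_two {n k m : ℕ} (hn : 2 ≤ n) (hodd : ¬ 2 ∣ n) (hk : 1 ≤ k) (h1 : n ∣ m)
    (h2 : m ∣ n * (2 ^ k - 1)) (h3 : m ∣ 2 ^ (n * k) - 1) (h4 : 2 ^ (n * k) ≤ 2 * m ^ 2) :
    n = 3 ∧ k = 2 ∧ m = 9 := by
  obtain ⟨r, hr⟩ : ∃ r, 2 ^ k = r + 1 := ⟨2 ^ k - 1, by have := Nat.one_le_two_pow (n := k); omega⟩
  have hr1 : 1 ≤ r := by
    have : 2 ^ 1 ≤ 2 ^ k := Nat.pow_le_pow_right (by norm_num) hk
    omega
  have e2 : 2 ^ k - 1 = r := by omega
  rw [e2] at h2
  have hpos : 0 < n * r := by positivity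
  have hm := Nat.le_of_dvd hpos h2
  have h5 : (r + 1) ^ n ≤ 2 * (n * r) ^ 2 := by
    calc (r + 1) ^ n = 2 ^ (n * k) := by rw [← hr, ← pow_mul, mul_comm]
      _ ≤ 2 * m ^ 2 := h4
      _ ≤ 2 * (n * r) ^ 2 := Nat.mul_le_mul_left _ (Nat.pow_le_pow_left hm 2)
  have hn3 : 3 ≤ n := by
    rcases Nat.lt_or_ge n 3 with h | h
    · exfalso
      have : n = 2 := by omega
      subst this
      exact hodd (dvd_refl 2)
    · exact h
  rcases Nat.lt_or_ge n 5 with hn5 | hn5
  · -- n = 3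
    have hn3' : n = 3 := by
      rcases Nat.lt_or_ge n 4 with h | h
      · omega
      · exfalso
        have : n = 4 := by omega
        subst this
        exact hodd (by norm_num)
    subst hn3'
    rcases Nat.lt_or_ge k 5 with hk5 | hk5
    · interval_cases k
      · exfalso
        have hr' : r = 1 := by omega
        subst hr'
        have h6 := h1.trans h3
        norm_num at h6
      · have hr' : r = 3 := by omega
        subst hr'
        have hmle : m ≤ 9 := by omega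
        interval_cases m <;> simp_all only [_root_.Nat.reduceLeDiff, _root_.Nat.reduceDvd, _root_.not_false_eq_true, _root_.Std.le_refl, _root_.Nat.reduceLT, _root_.Nat.one_le_ofNat, _root_.Nat.reduceMul, _root_.Nat.ofNat_pos, _root_.Nat.reduceAdd, _root_.Nat.reducePow, _root_.Nat.add_one_sub_one, _root_.dvd_zero, _root_.zero_dvd_iff, _root_.OfNat.ofNat_ne_zero, _root_.Nat.dvd_one, _root_.OfNat.ofNat_ne_one, _root_.dvd_refl, _root_.and_self]
      · exfalso
        have h6 := h1.trans h3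
        norm_num at h6
      · exfalso
        have hr' : r = 15 := by omega
        subst hr'
        linarith only [h5]
    · exfalso
      have h6 : 2 ^ 5 ≤ 2 ^ k := Nat.pow_le_pow_right (by norm_num) hk5
      have h7 : 31 ≤ r := by omega
      nlinarith only [hr, h5, h6]
  · exfalso
    rcases Nat.lt_or_ge k 2 with hk2 | hk2
    · have : k = 1 := by omega
      subst this
      have hr' : r = 1 := by omega
      subst hr'
      rcases Nat.lt_or_ge n 7 with hn7 | hn7
      · interval_cases n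
        · have h6 := h1.trans h3
          norm_num at h6
        · exact hodd (by norm_num)
      · obtain ⟨j, rfl⟩ := Nat.exists_eq_add_of_le hn7
        have h6 := two_pow_gt' j
        rw [Nat.add_comm 7 j] at h5
        norm_num at h5
        omega
    · have h6 : 2 ^ 2 ≤ 2 ^ k := Nat.pow_le_pow_right (by norm_num) hk2
      have h7 : 3 ≤ r := by omega
      obtain ⟨j, rfl⟩ := Nat.exists_eq_add_of_le hn5
      rw [Nat.add_comm 5 j] at h5
      have h8 := four_pow_gt j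
      have h9 : (4 : ℕ) ^ (j + 3) ≤ (r + 1) ^ (j + 3) := Nat.pow_le_pow_left (by omega) _
      have h10 : 2 * ((j + 5) * r) ^ 2 < (r + 1) ^ (j + 5) := by
        calc 2 * ((j + 5) * r) ^ 2 = (2 * (j + 5) ^ 2) * r ^ 2 := by ring
          _ < (r + 1) ^ (j + 3) * r ^ 2 :=
              Nat.mul_lt_mul_of_pos_right (lt_of_lt_of_le h8 h9) (pow_pos (by omega) 2)
          _ ≤ (r + 1) ^ (j + 3) * (r + 1) ^ 2 :=
              Nat.mul_le_mul_left _ (Nat.pow_le_pow_left (by omega) 2)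
          _ = (r + 1) ^ (j + 5) := by rw [← pow_add]
      omega

/-- if `|V| = (m - 1)²`, a semiregular subgroup of order `m` is normal -/
theorem normal_of_card (hh : Half G h) (h0 : 0 < h) {m : ℕ} (hm2 : 3 ≤ m)
    (hm : m * h = Nat.card G) (hV : Nat.card V = (m - 1) ^ 2) (R : Subgroup G)
    (hR : Nat.card R = m) (hsr : ∀ g ∈ R, g ≠ 1 → fx (g : V ≃ₗ[ZMod p] V) = ⊥) : R.Normal := by
  have h1 := sum_fx_half hh
  rw [← Finset.add_sum_erase _ _ (Finset.mem_univ (1 : G))] at h1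
  have e1 : Nat.card (fx ((1 : G) : V ≃ₗ[ZMod p] V)) = Nat.card V := by
    rw [Subgroup.coe_one, fx_one]
    exact Nat.card_congr Submodule.topEquiv.toEquiv
  rw [e1] at h1
  have hle : ∀ g : G, g ≠ 1 → Nat.card (fx (g : V ≃ₗ[ZMod p] V)) ≤ m - 1 := fun g hg => by
    have := fx_lt hh h0 hm (g₀ := g) hg
    omega
  have hbot : ∀ g ∈ R, g ≠ 1 → Nat.card (fx (g : V ≃ₗ[ZMod p] V)) = 1 := by
    intro g hg hg1
    rw [hsr g hg hg1]
    simp
  -- the elements with exactly one fixed vector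
  by_contra hcon
  obtain ⟨g, hg, k, hk⟩ : ∃ g ∈ R, ∃ k : G, k * g * k⁻¹ ∉ R := by
    by_contra hc
    push Not at hc
    exact hcon ⟨fun g hg k => hc g hg k⟩
  have hg1 : g ≠ 1 := by
    rintro rfl
    apply hk
    rw [mul_one, mul_inv_cancel]
    exact R.one_mem
  set g' := k * g * k⁻¹ with hg'
  have hg'1 : g' ≠ 1 := by
    intro hc
    apply hg1
    rw [hg', mul_inv_eq_one] at hc
    exact mul_eq_left.1 hc
  have hfx' : Nat.card (fx (g' : V ≃ₗ[ZMod p] V)) = 1 := by
    have h2 : fx (g' : V ≃ₗ[ZMod p] V) = ⊥ := by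
      rw [eq_bot_iff]
      intro v hv
      rw [mem_fx] at hv
      have h3 : ((k⁻¹ : G) : V ≃ₗ[ZMod p] V) v ∈ fx (g : V ≃ₗ[ZMod p] V) := by
        rw [mem_fx]
        have e : g * k⁻¹ = k⁻¹ * g' := by rw [hg']; group
        change ((g * k⁻¹ : G) : V ≃ₗ[ZMod p] V) v = _
        rw [e]
        change ((k⁻¹ : G) : V ≃ₗ[ZMod p] V) ((g' : V ≃ₗ[ZMod p] V) v) = _
        rw [hv]
      rw [hsr g hg hg1, Submodule.mem_bot] at h3
      exact (Submodule.mem_bot _).2 ((map_eq_zero_iff _ (LinearEquiv.injective _)).1 h3)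
    rw [h2]
    simp
  -- split the sum
  let E : Finset G := Finset.univ.filter (fun x => x ∈ R ∧ x ≠ 1)
  have hEcard : E.card + 1 = m := by
    rw [← hR, Nat.card_eq_fintype_card, Fintype.card_subtype]
    have : E = (Finset.univ.filter (fun x : G => x ∈ R)).erase 1 := by
      ext x
      simp only [E, Finset.mem_filter, Finset.mem_univ, true_and, Finset.mem_erase]
      (clear * -; tauto)
    rw [this, Finset.card_erase_of_mem (by simp only [R.one_mem, _root_.Finset.mem_filter, _root_.Finset.mem_univ, _root_.and_self])]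
    have : 0 < (Finset.univ.filter (fun x : G => x ∈ R)).card :=
      Finset.card_pos.2 ⟨1, by simp [R.one_mem]⟩
    omega
  have hgE : g' ∉ E := by
    intro hc
    exact hk (Finset.mem_filter.1 hc).2.1
  let E' := insert g' E
  have hE'sub : E' ⊆ Finset.univ.erase (1 : G) := by
    intro x hx
    rw [Finset.mem_erase]
    refine ⟨?_, Finset.mem_univ _⟩
    rcases Finset.mem_insert.1 hx with rfl | hx
    · exact hg'1
    · exact (Finset.mem_filter.1 hx).2.2
  have hE'card : E'.card = m := by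
    rw [Finset.card_insert_of_notMem hgE, hEcard]
  have hsum1 : ∑ x ∈ E', Nat.card (fx (x : V ≃ₗ[ZMod p] V)) = m := by
    rw [Finset.sum_congr rfl (g := fun _ => 1), Finset.sum_const, hE'card, smul_eq_mul, mul_one]
    intro x hx
    rcases Finset.mem_insert.1 hx with rfl | hx
    · exact hfx'
    · exact hbot x (Finset.mem_filter.1 hx).2.1 (Finset.mem_filter.1 hx).2.2
  have hsum2 : ∑ x ∈ (Finset.univ.erase (1 : G)) \ E', Nat.card (fx (x : V ≃ₗ[ZMod p] V)) ≤
      ((Finset.univ.erase (1 : G)) \ E').card * (m - 1) := by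
    rw [← smul_eq_mul, ← Finset.sum_const]
    refine Finset.sum_le_sum ?_
    intro x hx
    exact hle x (Finset.mem_erase.1 (Finset.mem_sdiff.1 hx).1).1
  have hcard3 : ((Finset.univ.erase (1 : G)) \ E').card + m + 1 = m * h := by
    rw [hm]
    have h5 := Finset.card_sdiff_add_card_eq_card hE'sub
    rw [hE'card, Finset.card_erase_of_mem (Finset.mem_univ _), Finset.card_univ,
      Nat.card_eq_fintype_card] at *
    have : 0 < Fintype.card G := Fintype.card_pos
    (clear * - h5 this; omega)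
  have hsum3 := Finset.sum_sdiff (f := fun x : G => Nat.card (fx (x : V ≃ₗ[ZMod p] V))) hE'sub
  rw [hsum1] at hsum3
  rw [← hsum3, hV, ← hm] at h1
  set S := ∑ x ∈ (Finset.univ.erase (1 : G)) \ E', Nat.card (fx (x : V ≃ₗ[ZMod p] V))
  set c := ((Finset.univ.erase (1 : G)) \ E').card
  obtain ⟨a, rfl⟩ : ∃ a, m = a + 3 := ⟨m - 3, by (clear * - hm2; omega)⟩
  have e3 : a + 3 - 1 = a + 2 := by (clear * -; omega)
  rw [e3] at h1 hsum2
  -- `(a+2)^2 + (S + (a+3)) + h = (a+3) h + h (a+2)^2`, `S ≤ c (a+2)`, `c + (a+3) + 1 = (a+3) h`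
  have h6 : (c + (a + 3) + 1) * (a + 2) = (a + 3) * h * (a + 2) := by rw [hcard3]
  linarith only [h1, hsum2, h6]

theorem card_nz' (W : Submodule (ZMod p) V) :
    Nat.card {w : V | w ∈ W ∧ w ≠ 0} + 1 = Nat.card W := by
  have e : Nat.card {w : V | w ∈ W ∧ w ≠ 0} =
      Nat.card {w : W // w ∈ Finset.univ.erase (0 : W)} := by
    refine Nat.card_congr ⟨fun w => ⟨⟨w.1, w.2.1⟩, ?_⟩, fun w => ⟨w.1.1, w.1.2, ?_⟩, ?_, ?_⟩
    · rw [Finset.mem_erase]
      exact ⟨fun hc => w.2.2 (congrArg Subtype.val hc), Finset.mem_univ _⟩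
    · intro hc
      exact (Finset.mem_erase.1 w.2).1 (Subtype.ext hc)
    · intro w; rfl
    · intro w; rfl
  rw [e, Nat.card_eq_fintype_card, Fintype.card_coe,
    Finset.card_erase_of_mem (Finset.mem_univ _), Finset.card_univ, Nat.card_eq_fintype_card]
  exact Nat.sub_add_cancel Fintype.card_pos

/-- **R4.** An imprimitive half-transitive linear group of order divisible by `p` is semilinear. -/
theorem imp_semi (hh : Half G h) (hp : p ∣ Nat.card G) (H : Sys G B) : Semi G := by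
  have hirr : Irr G := fun W hW => irred hh hp W hW
  obtain ⟨X, hX⟩ := H.nt.nonempty
  obtain ⟨v, hv, hv0⟩ := Submodule.exists_mem_ne_zero_of_ne_bot (H.ne X hX)
  haveI : Nontrivial V := ⟨⟨v, 0, hv0⟩⟩
  have h0 := h_pos hh hv0
  have hodd : ∀ r : ℕ, r.Prime → r ≠ 2 → ¬ r ∣ h := by
    intro r hr hr2 hd
    haveI : Fact r.Prime := ⟨hr⟩
    rw [← hh v hv0] at hd
    obtain ⟨g, hg⟩ := exists_prime_orderOf_dvd_card' r hd
    have h1 : (g : G) = 1 := odd_trivial hh hirr H hX hv hv0 (g := g.1) g.2 (by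
      rw [Subgroup.orderOf_coe, hg]
      exact hr.odd_of_ne_two hr2)
    have h2 : g = 1 := Subtype.ext h1
    rw [h2, orderOf_one] at hg
    exact hr.one_lt.ne hg
  have hp2 : p = 2 := by
    by_contra hne
    exact hodd p Fact.out hne (p_dvd_h hh hp)
  subst hp2
  obtain ⟨m, hm, hm0⟩ := exists_m hh ⟨v, hv0⟩
  have hnm := ncard_dvd hh hirr H hm
  have hm2 : ¬ 2 ∣ m := p_not_dvd_m hh hm
  have hBf : B.Finite := Set.toFinite B
  have hn2 : 2 ≤ B.ncard := (Set.one_lt_ncard hBf).2 H.nt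
  have hk : ∀ Y ∈ B, Module.finrank (ZMod 2) Y = Module.finrank (ZMod 2) X :=
    fun Y hY => H.card_block hirr hY hX
  have hk1 : 1 ≤ Module.finrank (ZMod 2) X := by
    haveI : Nontrivial X := Submodule.nontrivial_iff_ne_bot.2 (H.ne X hX)
    exact Module.finrank_pos
  have hVc : Nat.card V = 2 ^ (B.ncard * Module.finrank (ZMod 2) X) := by
    rw [card_eq_pow (p := 2), H.finrank_eq hirr hk]
  have h2 : m ∣ B.ncard * (2 ^ Module.finrank (ZMod 2) X - 1) := by
    rw [← H.card_union hk]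
    refine dvd_invariant hh h0 hm {v : V | v ≠ 0 ∧ ∃ X ∈ B, v ∈ X} (by simp) ?_
    rintro g hg w ⟨hw0, Y, hY, hw⟩
    exact ⟨fun hc => hw0 ((map_eq_zero_iff _ g.injective).1 hc), _, H.perm g hg Y hY, w, hw, rfl⟩
  have h3 := dvd_card_sub_one hh h0 hm
  have h2h : 2 ≤ h := Nat.le_of_dvd h0 (p_dvd_h hh hp)
  have h4 := card_le hh h2h hm
  rw [hVc] at h3 h4
  obtain ⟨hn3, hk2, hm9⟩ := num_two hn2 (fun hd => hm2 (hd.trans hnm)) hk1 hnm h2 h3 h4
  subst hm9
  rw [hn3, hk2] at hVc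
  -- a Sylow 3-subgroup
  haveI : Fact (Nat.Prime 3) := ⟨Nat.prime_three⟩
  obtain ⟨R⟩ : Nonempty (Sylow 3 G) := inferInstance
  have h3h : ¬ 3 ∣ h := hodd 3 Nat.prime_three (by norm_num)
  have hRc : Nat.card (R : Subgroup G) = 9 := by
    rw [R.card_eq_multiplicity, ← hm, Nat.factorization_mul (by norm_num) h0.ne',
      Finsupp.add_apply, Nat.factorization_eq_zero_of_not_dvd h3h]
    have : (9 : ℕ).factorization 3 = 2 := by
      rw [show (9 : ℕ) = 3 ^ 2 by norm_num, Nat.prime_three.factorization_pow,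
        Finsupp.single_eq_same]
    rw [this]
    norm_num
  have hsr : ∀ g ∈ (R : Subgroup G), g ≠ 1 → ∀ w : V, w ≠ 0 → (g : V ≃ₗ[ZMod 2] V) w ≠ w := by
    intro g hg hg1 w hw hgw
    have h5 : orderOf g ∣ h := by
      rw [← hh w hw]
      have h6 : g ∈ MulAction.stabilizer G w := hgw
      have h7 := orderOf_dvd_natCard (⟨g, h6⟩ : MulAction.stabilizer G w)
      rwa [← Subgroup.orderOf_coe] at h7
    have h8 : orderOf g ∣ 3 ^ 2 := by
      have h7 := orderOf_dvd_natCard (⟨g, hg⟩ : (R : Subgroup G))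
      rw [← Subgroup.orderOf_coe, hRc] at h7
      exact h7
    obtain ⟨j, -, hj⟩ := (Nat.dvd_prime_pow Nat.prime_three).1 h8
    have hj0 : j ≠ 0 := by
      rintro rfl
      rw [pow_zero, orderOf_eq_one_iff] at hj
      exact hg1 hj
    apply h3h
    refine dvd_trans ?_ h5
    rw [hj]
    exact dvd_pow_self 3 hj0
  have hRn : (R : Subgroup G).Normal := by
    refine normal_of_card hh h0 (by norm_num) hm (by rw [hVc]; norm_num) _ hRc ?_
    intro g hg hg1
    rw [eq_bot_iff]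
    intro w hw
    rw [mem_fx] at hw
    rw [Submodule.mem_bot]
    by_contra hw0
    exact hsr g hg hg1 w hw0 hw
  -- as a linear group
  let A : Subgroup (V ≃ₗ[ZMod 2] V) := (R : Subgroup G).map G.subtype
  have hAc : Nat.card A = 9 := by
    rw [← hRc]
    exact (Nat.card_congr ((R : Subgroup G).equivMapOfInjective _ G.subtype_injective).toEquiv).symm
  have hA1 : Half A 1 := by
    intro w hw
    rw [Nat.card_eq_one_iff_unique]
    refine ⟨⟨fun a b => ?_⟩, ⟨1⟩⟩
    have hall : ∀ a : MulAction.stabilizer A w, a = 1 := by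
      rintro ⟨⟨_, g, hg, rfl⟩, ha⟩
      have ha' : (g : V ≃ₗ[ZMod 2] V) w = w := ha
      have hg1 : g = 1 := by
        by_contra hg1
        exact hsr g hg hg1 w hw ha'
      subst hg1
      rfl
    rw [hall a, hall b]
  refine semi_of_irr_comm A ?_ ?_ ?_
  · have := IsPGroup.isMulCommutative_of_card_eq_prime_sq (p := 3) (G := A) (by rw [hAc]; norm_num)
    intro a ha b hb
    have h5 := this.is_comm.comm (⟨a, ha⟩ : A) ⟨b, hb⟩
    exact congrArg Subtype.val h5
  · intro W hW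
    have h5 := dvd_invariant hA1 (by norm_num) (m := 9) (by rw [hAc]) {w : V | w ∈ W ∧ w ≠ 0}
      (by simp) (by
        rintro g hg w ⟨hw, hw'⟩
        exact ⟨hW g hg w hw, fun hc => hw' ((map_eq_zero_iff _ g.injective).1 hc)⟩)
    have h6 := card_nz' W
    have h7 : Nat.card W = 2 ^ Module.finrank (ZMod 2) W := card_eq_pow (p := 2) W
    have h8 : Module.finrank (ZMod 2) V = 6 := by
      rw [H.finrank_eq hirr hk, hn3, hk2]
    have h9 : Module.finrank (ZMod 2) W ≤ 6 := h8 ▸ Submodule.finrank_le W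
    have h10 : 9 ∣ 2 ^ Module.finrank (ZMod 2) W - 1 := by
      rw [← h7, ← h6, Nat.add_sub_cancel]
      exact h5
    have h11 : Module.finrank (ZMod 2) W = 0 ∨ Module.finrank (ZMod 2) W = 6 := by
      revert h10
      generalize Module.finrank (ZMod 2) W = j at h9
      intro h10
      interval_cases j <;> simp_all only [_root_.ne_eq, _root_.Nat.card_eq_fintype_card, _root_.Nat.reduceLeDiff, _root_.Nat.one_le_ofNat, _root_.Nat.reduceMul, _root_.Nat.reducePow, _root_.Nat.ofNat_pos, _root_.Nat.reduceDvd, _root_.not_false_eq_true, _root_.Nat.add_one_sub_one, _root_.dvd_refl, _root_.Subtype.forall, _root_.Subgroup.mk_eq_one, _root_.Fintype.card_ofFinset, _root_.zero_le, _root_.pow_zero, _root_.tsub_self, _root_.dvd_zero, _root_.OfNat.zero_ne_ofNat, _root_.or_false, _root_.pow_one, _root_.Nat.dvd_one, _root_.OfNat.ofNat_ne_one, _root_.Std.le_refl, _root_.OfNat.ofNat_ne_zero, _root_.or_true]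
    rcases h11 with h11 | h11
    · left
      exact Submodule.finrank_eq_zero.1 h11
    · right
      exact Submodule.eq_top_of_finrank_eq (h11.trans h8.symm)
  · rintro g hg _ ⟨a, ha, rfl⟩
    exact ⟨⟨g, hg⟩ * a * ⟨g, hg⟩⁻¹, hRn.conj_mem a ha ⟨g, hg⟩, rfl⟩

end Cfsg.Agent.H19.HT
end

-- part: H742/HT/QL
section
set_option linter.all false

/-!
# S3512, quasisimple rows (`p ∣ |G|`): the setting

`QL p K V G L h`: `G` is a half-transitive group of `𝔽_p`-linear maps of `V` with stabilisers of order `h`,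
`L ⊴ G` is quasisimple, acts irreducibly on `V` over `𝔽_p`, and the field `K` is the centraliser of `L` in
`End_{𝔽_p}(V)`. (No hypothesis on `p` and `|G|`; `H337.HT.QS` is this with `¬ p ∣ |G|` and `2 ≤ h`.)

`Tr G`: `G` is transitive on the non-zero vectors. `ExcSL G`: conclusion (iii) of S3512.
`CandP`: the numerical conditions used in the sieves.
-/

set_option autoImplicit false

universe u w

namespace Cfsg.Agent.H742.HT

open Cfsg.Agent.H828.HT

/-- the setting of the quasisimple rows -/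
structure QL (p : ℕ) [Fact p.Prime] (K : Type w) [Field K] (V : Type u) [AddCommGroup V] [Module (ZMod p) V]
    [Module K V] (G L : Subgroup (V ≃ₗ[ZMod p] V)) (h : ℕ) : Prop where
  half : Half G h
  le : L ≤ G
  nrm : ∀ g ∈ G, ∀ l ∈ L, g * l * g⁻¹ ∈ L
  perf : commutator L = ⊤
  simple : IsSimpleGroup (L ⧸ Subgroup.center L)
  nonab : ∃ a ∈ L, ∃ b ∈ L, a * b ≠ b * a
  lin : ∀ l ∈ L, ∀ (c : K) (v : V), l (c • v) = c • l v
  endo : ∀ f : V →ₗ[ZMod p] V, (∀ l ∈ L, ∀ v, f (l v) = l (f v)) → ∃ c : K, ∀ v, f v = c • v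
  irr : ∀ W : Submodule (ZMod p) V, (∀ l ∈ L, ∀ v ∈ W, l v ∈ W) → W = ⊥ ∨ W = ⊤

/-- transitive on the non-zero vectors -/
def Tr {p : ℕ} [Fact p.Prime] {V : Type u} [AddCommGroup V] [Module (ZMod p) V]
    (G : Subgroup (V ≃ₗ[ZMod p] V)) : Prop :=
  ∀ v w : V, v ≠ 0 → w ≠ 0 → ∃ g ∈ G, g v = w

/-- helper192's inequality, `N = |V|` -/
def Ineq (N m h : ℕ) : Prop :=
  N * (h - 1) * (N - m + 1) ≤ (m - 1) * (m - 2) * (N + (h - 1) * (m - 1))

instance decIneq (N m h : ℕ) : Decidable (Ineq N m h) := by unfold Ineq; infer_instance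

/-- the order of `GL_n(q)` -/
def glOrd (q n : ℕ) : ℕ := ((List.range n).map fun i => q ^ n - q ^ i).prod

end Cfsg.Agent.H742.HT
end
end

-- part: H192/Ht/QLN
section
set_option linter.all false
open scoped Cfsg.Agent.FastGrp

-- part: H192/Ht/Ineq
section
/-!
# Half-transitive linear groups: the inequality (III') (helper192)

`n² h ≤ (n + (h - 1)(m - 1)) (n + (m - 1)(m - 2))` for `n = |V|`, `|G| = m h`, in every characteristic.
-/

set_option autoImplicit false
set_option linter.unusedSectionVars false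

open scoped Classical

namespace Cfsg.Agent.H192.Ht

open Cfsg.Agent.H828.HT

universe u

variable {p : ℕ} [Fact p.Prime] {V : Type u} [AddCommGroup V] [Module (ZMod p) V] [Finite V]
variable {G : Subgroup (V ≃ₗ[ZMod p] V)} {h : ℕ}

/-- the `w` with `w + δ ∈ G w` -/
noncomputable def T (G : Subgroup (V ≃ₗ[ZMod p] V)) (δ : V) : Finset V :=
  Finset.univ.filter fun w => ∃ g : G, (g : V ≃ₗ[ZMod p] V) w = w + δ

theorem card_T (hh : Half G h) (h0 : 0 < h) {m : ℕ} (hm : m * h = Nat.card G) {δ : V} (hδ : δ ≠ 0) :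
    (T G δ).card + 1 = m := by
  have h1 := Cfsg.Agent.H19.HT.ident hh hδ
  rw [pairs_card] at h1
  have h2 : ∑ w : V, Nat.card {g : G // (g : V ≃ₗ[ZMod p] V) w = w + δ} = (T G δ).card * h := by
    rw [← Finset.sum_filter_add_sum_filter_not Finset.univ
      (fun w : V => ∃ g : G, (g : V ≃ₗ[ZMod p] V) w = w + δ)]
    have e1 : ∑ w ∈ Finset.univ.filter (fun w : V => ∃ g : G, (g : V ≃ₗ[ZMod p] V) w = w + δ),
        Nat.card {g : G // (g : V ≃ₗ[ZMod p] V) w = w + δ} =
        ∑ _w ∈ Finset.univ.filter (fun w : V => ∃ g : G, (g : V ≃ₗ[ZMod p] V) w = w + δ), h := by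
      refine Finset.sum_congr rfl fun w hw => ?_
      obtain ⟨g, hg⟩ := (Finset.mem_filter.1 hw).2
      rw [card_transporter g hg]
      apply hh
      rintro rfl
      rw [map_zero, zero_add] at hg
      exact hδ hg.symm
    have e2 : ∑ w ∈ Finset.univ.filter (fun w : V => ¬ ∃ g : G, (g : V ≃ₗ[ZMod p] V) w = w + δ),
        Nat.card {g : G // (g : V ≃ₗ[ZMod p] V) w = w + δ} = 0 := by
      refine Finset.sum_eq_zero fun w hw => ?_
      have hn := (Finset.mem_filter.1 hw).2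
      have : IsEmpty {g : G // (g : V ≃ₗ[ZMod p] V) w = w + δ} := ⟨fun g => hn ⟨g.1, g.2⟩⟩
      exact Nat.card_of_isEmpty
    rw [e1, e2, add_zero, Finset.sum_const, smul_eq_mul]
    rfl
  rw [h2, ← hm] at h1
  have h3 : ((T G δ).card + 1) * h = m * h := by rw [← h1]; ring
  exact Nat.eq_of_mul_eq_mul_right h0 h3

/-- the orbit of `w` under the stabiliser of `u` -/
noncomputable def O (G : Subgroup (V ≃ₗ[ZMod p] V)) (u w : V) : Finset V :=
  Finset.univ.filter fun w' => ∃ g : G, (g : V ≃ₗ[ZMod p] V) u = u ∧ (g : V ≃ₗ[ZMod p] V) w = w'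

/-- orbit-stabiliser for the stabiliser of `u` -/
theorem card_O_mul (G : Subgroup (V ≃ₗ[ZMod p] V)) (u w : V) :
    (O G u w).card * Nat.card {g : G // (g : V ≃ₗ[ZMod p] V) u = u ∧ (g : V ≃ₗ[ZMod p] V) w = w} =
      Nat.card (MulAction.stabilizer G u) := by
  have h1 := MulAction.card_orbit_mul_card_stabilizer_eq_card_group (MulAction.stabilizer G u) w
  rw [← Nat.card_eq_fintype_card, ← Nat.card_eq_fintype_card, ← Nat.card_eq_fintype_card] at h1
  rw [← h1]
  congr 1
  · rw [Nat.card_eq_fintype_card, ← Set.toFinset_card]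
    congr 1
    ext w'
    simp only [O, Finset.mem_filter, Finset.mem_univ, true_and, Set.mem_toFinset, MulAction.mem_orbit_iff]
    constructor
    · rintro ⟨g, h1, h2⟩
      exact ⟨⟨g, h1⟩, h2⟩
    · rintro ⟨g, hg⟩
      exact ⟨g.1, g.2, hg⟩
  · refine Nat.card_congr ⟨fun g => ⟨⟨g.1, g.2.1⟩, g.2.2⟩, fun g => ⟨g.1.1, g.1.2, g.2⟩, fun _ => rfl, fun _ => rfl⟩

/-- Burnside count for the stabiliser of `u` -/
theorem sum_stab_le (hh : Half G h) (h0 : 0 < h) {m : ℕ} (hm : m * h = Nat.card G) {u : V} (hu : u ≠ 0) :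
    ∑ w : V, Nat.card {g : G // (g : V ≃ₗ[ZMod p] V) u = u ∧ (g : V ≃ₗ[ZMod p] V) w = w} ≤
      Nat.card V + (h - 1) * (m - 1) := by
  have h1 : ∀ w : V, Nat.card {g : G // (g : V ≃ₗ[ZMod p] V) u = u ∧ (g : V ≃ₗ[ZMod p] V) w = w} =
      ∑ g ∈ Finset.univ.filter (fun g : G => (g : V ≃ₗ[ZMod p] V) u = u),
        if (g : V ≃ₗ[ZMod p] V) w = w then 1 else 0 := by
    intro w
    rw [Finset.sum_boole, Nat.cast_id, Nat.card_eq_fintype_card, Fintype.card_subtype, Finset.filter_filter]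
  simp_rw [h1]
  rw [Finset.sum_comm]
  have h2 : ∀ g : G, (∑ w : V, if (g : V ≃ₗ[ZMod p] V) w = w then 1 else 0) =
      Nat.card (fx (g : V ≃ₗ[ZMod p] V)) := by
    intro g
    rw [Finset.sum_boole, Nat.cast_id, Nat.card_eq_fintype_card, Fintype.card_subtype]
    congr 1
    ext v
    simp
  simp_rw [h2]
  have h3 : (1 : G) ∈ Finset.univ.filter (fun g : G => (g : V ≃ₗ[ZMod p] V) u = u) := by simp only [_root_.Finset.mem_filter, _root_.Finset.mem_univ, _root_.OneMemClass.coe_one, _root_.LinearEquiv.coe_one, _root_.id_eq, _root_.and_self]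
  rw [← Finset.add_sum_erase _ _ h3]
  have e1 : Nat.card (fx ((1 : G) : V ≃ₗ[ZMod p] V)) = Nat.card V := by
    rw [Subgroup.coe_one, fx_one]
    exact Nat.card_congr Submodule.topEquiv.toEquiv
  have h4 : (Finset.univ.filter (fun g : G => (g : V ≃ₗ[ZMod p] V) u = u)).card = h := by
    rw [← hh u hu, Nat.card_eq_fintype_card, ← Fintype.card_subtype]
    exact Fintype.card_congr (Equiv.subtypeEquivRight fun g => Iff.rfl)
  have h5 : ∑ g ∈ (Finset.univ.filter (fun g : G => (g : V ≃ₗ[ZMod p] V) u = u)).erase 1,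
      Nat.card (fx (g : V ≃ₗ[ZMod p] V)) ≤
      ∑ _g ∈ (Finset.univ.filter (fun g : G => (g : V ≃ₗ[ZMod p] V) u = u)).erase 1, (m - 1) := by
    refine Finset.sum_le_sum fun g hg => ?_
    have := Cfsg.Agent.H19.HT.fx_lt hh h0 hm (Finset.ne_of_mem_erase hg)
    omega
  rw [Finset.sum_const, Finset.card_erase_of_mem h3, h4, smul_eq_mul] at h5
  rw [e1]
  exact Nat.add_le_add_left h5 _

/-- Cauchy-Schwarz -/
theorem sq_le (hh : Half G h) (h0 : 0 < h) {m : ℕ} (hm : m * h = Nat.card G) {u : V} (hu : u ≠ 0) :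
    Nat.card V ^ 2 * h ≤ (∑ w : V, (O G u w).card) * (Nat.card V + (h - 1) * (m - 1)) := by
  refine le_trans ?_ (Nat.mul_le_mul_left _ (sum_stab_le hh h0 hm hu))
  have h1 := Finset.sum_sq_le_sum_mul_sum_of_sq_le_mul (Finset.univ : Finset V) (r := fun _ => Real.sqrt h)
    (f := fun w => ((O G u w).card : ℝ))
    (g := fun w => (Nat.card {g : G // (g : V ≃ₗ[ZMod p] V) u = u ∧ (g : V ≃ₗ[ZMod p] V) w = w} : ℝ))
    (fun _ _ => Nat.cast_nonneg _) (fun _ _ => Nat.cast_nonneg _) (by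
      intro w _
      rw [Real.sq_sqrt (Nat.cast_nonneg _), ← Nat.cast_mul, card_O_mul, hh u hu])
  rw [Finset.sum_const, Finset.card_univ, nsmul_eq_mul, mul_pow, Real.sq_sqrt (Nat.cast_nonneg _),
    ← Nat.card_eq_fintype_card] at h1
  exact_mod_cast h1

/-- the pairs in one orbit of the stabiliser of some `u ≠ 0` -/
noncomputable def LL (G : Subgroup (V ≃ₗ[ZMod p] V)) : Finset (V × V × V) :=
  Finset.univ.filter fun x => x.1 ≠ 0 ∧ x.2.2 ∈ (O G x.1 x.2.1).erase x.2.1

/-- the pairs of elements of `T δ` -/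
noncomputable def RR (G : Subgroup (V ≃ₗ[ZMod p] V)) : Finset (V × V × V) :=
  Finset.univ.filter fun x => x.1 ≠ 0 ∧ (x.2.1, x.2.2) ∈ (T G x.1).offDiag

theorem self_mem_O (G : Subgroup (V ≃ₗ[ZMod p] V)) (u w : V) : w ∈ O G u w := by
  simp only [O, Finset.mem_filter, Finset.mem_univ, true_and]
  exact ⟨1, rfl, rfl⟩

theorem card_LL (G : Subgroup (V ≃ₗ[ZMod p] V)) :
    (LL G).card + (Nat.card V - 1) * Nat.card V =
      ∑ u ∈ (Finset.univ.erase (0 : V)), ∑ w : V, (O G u w).card := by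
  have h1 : (LL G).card = ∑ u ∈ (Finset.univ.erase (0 : V)), ∑ w : V, ((O G u w).erase w).card := by
    rw [LL, Finset.card_filter, Fintype.sum_prod_type, ← Finset.filter_ne' Finset.univ (0 : V),
      Finset.sum_filter]
    refine Finset.sum_congr rfl fun u _ => ?_
    rw [Fintype.sum_prod_type]
    by_cases hu : u = 0
    · simp [hu]
    · rw [if_pos hu]
      refine Finset.sum_congr rfl fun w _ => ?_
      simp only [hu, ne_eq, not_false_eq_true, true_and]
      rw [← Finset.card_filter]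
      congr 1
      ext w'
      simp
  have h2 : (Nat.card V - 1) * Nat.card V = ∑ _u ∈ (Finset.univ.erase (0 : V)), ∑ _w : V, 1 := by
    rw [Finset.sum_const, Finset.sum_const, Finset.card_erase_of_mem (Finset.mem_univ _), Finset.card_univ,
      ← Nat.card_eq_fintype_card]
    simp only [_root_.Nat.card_eq_fintype_card, _root_.smul_eq_mul, _root_.mul_one]
  rw [h1, h2, ← Finset.sum_add_distrib]
  refine Finset.sum_congr rfl fun u _ => ?_
  rw [← Finset.sum_add_distrib]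
  refine Finset.sum_congr rfl fun w _ => ?_
  exact Finset.card_erase_add_one (self_mem_O G u w)

theorem card_RR (hh : Half G h) (h0 : 0 < h) {m : ℕ} (hm : m * h = Nat.card G) :
    (RR G).card = (Nat.card V - 1) * ((m - 1) * (m - 2)) := by
  have h1 : (RR G).card = ∑ u ∈ (Finset.univ.erase (0 : V)), (T G u).offDiag.card := by
    rw [RR, Finset.card_filter, Fintype.sum_prod_type, ← Finset.filter_ne' Finset.univ (0 : V),
      Finset.sum_filter]
    refine Finset.sum_congr rfl fun u _ => ?_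
    by_cases hu : u = 0
    · simp [hu]
    · rw [if_pos hu]
      simp only [hu, ne_eq, not_false_eq_true, true_and]
      rw [← Finset.card_filter]
      congr 1
      ext x
      simp only [_root_.Prod.mk.eta, _root_.Finset.mem_offDiag, _root_.ne_eq, _root_.Finset.mem_filter, _root_.Finset.mem_univ, _root_.true_and]
  have h2 : ∑ u ∈ (Finset.univ.erase (0 : V)), (T G u).offDiag.card =
      ∑ _u ∈ (Finset.univ.erase (0 : V)), (m - 1) * (m - 2) := by
    refine Finset.sum_congr rfl fun u hu => ?_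
    have h3 := card_T hh h0 hm (Finset.ne_of_mem_erase hu)
    rw [Finset.offDiag_card]
    obtain ⟨k, hk⟩ : ∃ k, (T G u).card = k := ⟨_, rfl⟩
    rw [hk] at h3 ⊢
    subst h3
    rw [Nat.add_sub_cancel, show k + 1 - 2 = k - 1 by omega, Nat.mul_sub_one]
  rw [h1, h2, Finset.sum_const, Finset.card_erase_of_mem (Finset.mem_univ _), Finset.card_univ,
    ← Nat.card_eq_fintype_card, smul_eq_mul]

theorem card_LL_le (G : Subgroup (V ≃ₗ[ZMod p] V)) : (LL G).card ≤ (RR G).card := by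
  refine Finset.card_le_card_of_injOn (fun x => (x.2.2 - x.2.1, x.2.1, x.2.1 - x.1)) ?_ ?_
  · rintro ⟨u, w, w'⟩ hx
    simp only [LL, RR, O, T, Finset.coe_filter, Finset.mem_univ, true_and, Set.mem_ofPred_eq,
      Finset.mem_erase, Finset.mem_filter, Finset.mem_offDiag] at hx ⊢
    obtain ⟨hu, hne, g, hg1, hg2⟩ := hx
    refine ⟨sub_ne_zero.2 hne, ⟨g, ?_⟩, ⟨g, ?_⟩, ?_⟩
    · rw [hg2]; abel
    · rw [map_sub, hg1, hg2]; abel
    · intro hc
      apply hu
      have : w - (w - u) = 0 := by rw [← hc]; abel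
      simpa using this
  · rintro ⟨u, w, w'⟩ _ ⟨u₁, w₁, w₁'⟩ _ hxy
    simp only [Prod.mk.injEq] at hxy
    obtain ⟨h1, h2, h3⟩ := hxy
    subst h2
    have h4 : w' = w₁' := sub_left_injective h1
    have h5 : u = u₁ := sub_right_injective h3
    rw [h4, h5]

/-- **(III')** -/
theorem ineq (hh : Half G h) (h0 : 0 < h) {m : ℕ} (hm : m * h = Nat.card G) [Nontrivial V] :
    Nat.card V ^ 2 * h ≤
      (Nat.card V + (m - 1) * (m - 2)) * (Nat.card V + (h - 1) * (m - 1)) := by
  have hV : 1 < Nat.card V := Finite.one_lt_card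
  have h1 : ∑ _u ∈ (Finset.univ.erase (0 : V)), Nat.card V ^ 2 * h ≤
      ∑ u ∈ (Finset.univ.erase (0 : V)), (∑ w : V, (O G u w).card) * (Nat.card V + (h - 1) * (m - 1)) :=
    Finset.sum_le_sum fun u hu => sq_le hh h0 hm (Finset.ne_of_mem_erase hu)
  rw [Finset.sum_const, ← Finset.sum_mul, ← card_LL, Finset.card_erase_of_mem (Finset.mem_univ _),
    Finset.card_univ, ← Nat.card_eq_fintype_card, smul_eq_mul] at h1
  have h2 := card_LL_le G
  rw [card_RR hh h0 hm] at h2
  refine Nat.le_of_mul_le_mul_left (h1.trans ?_) (Nat.sub_pos_of_lt hV)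
  rw [← mul_assoc]
  refine Nat.mul_le_mul_right _ ?_
  rw [mul_add]
  omega

end Cfsg.Agent.H192.Ht
end

-- part: H192/Ht/QLN
section
/-!
# S3512, quasisimple rows: from the setting `QL` to the numerical conditions `CP` (helper192)

The code is that of `H337.HT.Cand` without the coprimality hypothesis.
-/

set_option autoImplicit false
set_option linter.unusedSectionVars false
set_option linter.style.haveILetI false

universe u w

namespace Cfsg.Agent.H192.Ht

open Cfsg.Agent.H828.HT Cfsg.Agent.H742.HT Cfsg.Agent.H391.HT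

section half

variable {p : ℕ} [Fact p.Prime] {V : Type u} [AddCommGroup V] [Module (ZMod p) V] [Finite V]
  {G : Subgroup (V ≃ₗ[ZMod p] V)} {h : ℕ}

/-- the sharp form of `H19.HT.card_le` -/
theorem half_le (hh : Half G h) (h0 : 0 < h) {m : ℕ} (hm : m * h = Nat.card G) :
    (h - 1) * Nat.card V ≤ h * m ^ 2 := by
  classical
  have h1 := sum_fx_half hh
  rw [← Finset.add_sum_erase _ _ (Finset.mem_univ (1 : G))] at h1
  have e1 : Nat.card (fx ((1 : G) : V ≃ₗ[ZMod p] V)) = Nat.card V := by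
    rw [Subgroup.coe_one, fx_one]
    exact Nat.card_congr Submodule.topEquiv.toEquiv
  rw [e1] at h1
  have h2 : ∑ g ∈ Finset.univ.erase (1 : G), Nat.card (fx (g : V ≃ₗ[ZMod p] V)) ≤
      ∑ _g ∈ Finset.univ.erase (1 : G), (m - 1) := by
    refine Finset.sum_le_sum fun g hg => ?_
    have := Cfsg.Agent.H19.HT.fx_lt hh h0 hm (Finset.ne_of_mem_erase hg)
    omega
  rw [Finset.sum_const, Finset.card_erase_of_mem (Finset.mem_univ _), Finset.card_univ,
    ← Nat.card_eq_fintype_card, smul_eq_mul, ← hm] at h2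
  rw [← hm] at h1
  have hGpos : 0 < Nat.card G := Nat.card_pos
  rw [← hm] at hGpos
  obtain ⟨k, rfl⟩ : ∃ k, h = k + 1 := ⟨h - 1, by omega⟩
  obtain ⟨j, rfl⟩ : ∃ j, m = j + 1 := ⟨m - 1, by
    have : 0 < m := by
      rcases Nat.eq_zero_or_pos m with rfl | hm0
      · simp at hGpos
      · exact hm0
    omega⟩
  simp only [Nat.add_sub_cancel] at h2 ⊢
  set N := Nat.card V
  set s := ∑ g ∈ Finset.univ.erase (1 : G), Nat.card (fx (g : V ≃ₗ[ZMod p] V))
  have h3 : (j + 1) * (k + 1) - 1 = j * k + j + k := by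
    have : (j + 1) * (k + 1) = j * k + j + k + 1 := by ring
    omega
  rw [h3] at h2
  nlinarith only [h2, h1]

/-- in a group which is not transitive the orbits have length `< |V| - 1` -/
theorem m_lt (hh : Half G h) (h0 : 0 < h) {m : ℕ} (hm : m * h = Nat.card G) (hn : ¬ Tr G) [Nontrivial V] :
    m < Nat.card V - 1 := by
  classical
  have hdvd : m ∣ Nat.card V - 1 := dvd_card_sub_one hh h0 hm
  have hV : 1 < Nat.card V := Finite.one_lt_card
  refine lt_of_le_of_ne (Nat.le_of_dvd (by omega) hdvd) ?_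
  intro hc
  apply hn
  intro v w hv hw
  have h1 : Nat.card (MulAction.orbit G v) = m := by
    have h2 := MulAction.card_orbit_mul_card_stabilizer_eq_card_group G v
    rw [← Nat.card_eq_fintype_card, ← Nat.card_eq_fintype_card, ← Nat.card_eq_fintype_card] at h2
    rw [hh v hv, ← hm] at h2
    exact Nat.eq_of_mul_eq_mul_right h0 h2
  have h2 : MulAction.orbit G v = {x : V | x ≠ 0} := by
    refine Set.eq_of_subset_of_ncard_le ?_ ?_ (Set.toFinite _)
    · rintro _ ⟨g, rfl⟩ hz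
      exact hv ((g : V ≃ₗ[ZMod p] V).map_eq_zero_iff.1 hz)
    · rw [← Nat.card_coe_set_eq, ← Nat.card_coe_set_eq, h1, hc]
      have : Nat.card {x : V | x ≠ 0} + 1 = Nat.card V := by
        have h3 : {x : V | x ≠ 0} = {(0 : V)}ᶜ := by ext; simp
        rw [h3, Nat.card_coe_set_eq]
        have := Set.ncard_add_ncard_compl {(0 : V)}
        rw [Set.ncard_singleton] at this
        omega
      omega
  have h3 : w ∈ MulAction.orbit G v := by rw [h2]; exact hw
  obtain ⟨g, hg⟩ := h3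
  exact ⟨g, g.2, hg⟩

end half

variable {p : ℕ} [Fact p.Prime] {K : Type w} [Field K] {V : Type u} [AddCommGroup V] [Module (ZMod p) V] [Finite V]
    [Module K V] {G L : Subgroup (V ≃ₗ[ZMod p] V)} {h : ℕ}

namespace QN

open Cfsg.Agent.H337.HT.QS (qt eq_one_of_qt sc sc_apply)

theorem exists_ne (H : QL p K V G L h) : ∃ v : V, v ≠ 0 := by
  obtain ⟨a, -, b, -, hab⟩ := H.nonab
  by_contra hcon
  push Not at hcon
  exact hab (LinearEquiv.ext fun v => by rw [hcon ((a * b) v), hcon ((b * a) v)])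

theorem finiteK (H : QL p K V G L h) : Finite K := by
  obtain ⟨v, hv⟩ := exists_ne H
  exact Finite.of_injective (fun c : K => c • v) fun a b hab => by
    by_contra hne
    have h1 : (a - b) • v = 0 := by rw [sub_smul, sub_eq_zero]; exact hab
    rcases smul_eq_zero.1 h1 with h2 | h2
    · exact hne (sub_eq_zero.1 h2)
    · exact hv h2

theorem finiteDim (_ : QL p K V G L h) : Module.Finite K V := Module.Finite.of_finite

theorem card_V (_ : QL p K V G L h) : Nat.card V = Nat.card K ^ Module.finrank K V :=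
  Module.natCard_eq_pow_finrank

theorem finrank_pos (H : QL p K V G L h) : 0 < Module.finrank K V := by
  have := (finiteDim H)
  obtain ⟨v, hv⟩ := exists_ne H
  have : Nontrivial V := ⟨v, 0, hv⟩
  exact Module.finrank_pos

theorem exists_card (H : QL p K V G L h) : ∃ k, Nat.card K = p ^ k ∧ 0 < k := by
  have hK := (finiteK H)
  have h1 : Nat.card K ∣ p ^ Module.finrank (ZMod p) V := by
    rw [← card_eq_pow (p := p) V, (card_V H)]
    exact dvd_pow_self _ (finrank_pos H).ne'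
  obtain ⟨k, -, hk⟩ := (Nat.dvd_prime_pow Fact.out).1 h1
  refine ⟨k, hk, Nat.pos_of_ne_zero ?_⟩
  rintro rfl
  have := Finite.one_lt_card (α := K)
  rw [hk, pow_zero] at this
  omega

theorem card_quot_dvd_L (_ : QL p K V G L h) : Nat.card (L ⧸ Subgroup.center L) ∣ Nat.card L :=
  Subgroup.card_quotient_dvd_card _

theorem card_L_dvd (H : QL p K V G L h) : Nat.card L ∣ Nat.card G := Subgroup.card_dvd_of_le H.le

theorem two_le_card (H : QL p K V G L h) : 2 ≤ Nat.card K := by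
  have := (finiteK H)
  exact Finite.one_lt_card

/-! ### The action on `L / Z(L)` -/

/-- conjugation of `L` by an element of `G` -/
def cj (H : QL p K V G L h) : G →* MulAut L where
  toFun g :=
    { toFun := fun l => ⟨g * l * g⁻¹, H.nrm g g.2 l l.2⟩
      invFun := fun l => ⟨(g : V ≃ₗ[ZMod p] V)⁻¹ * l * g, by
        have := H.nrm _ (G.inv_mem g.2) l l.2
        rwa [inv_inv] at this⟩
      left_inv := fun l => Subtype.ext (by simp only [mul_assoc, _root_.InvMemClass.coe_inv, _root_.inv_mul_cancel_left, _root_.inv_mul_cancel, _root_.mul_one])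
      right_inv := fun l => Subtype.ext (by simp only [mul_assoc, _root_.mul_inv_cancel_left, _root_.InvMemClass.coe_inv, _root_.mul_inv_cancel, _root_.mul_one])
      map_mul' := fun a b => Subtype.ext (by simp only [mul_assoc, _root_.Subgroup.coe_mul, _root_.InvMemClass.coe_inv, _root_.MulMemClass.mk_mul_mk, _root_.inv_mul_cancel_left]) }
  map_one' := by ext l : 2; simp only [_root_.OneMemClass.coe_one, _root_.one_mul, _root_.inv_one, _root_.mul_one, _root_.Subtype.coe_eta, _root_.MulEquiv.coe_mk, _root_.Equiv.coe_fn_mk, _root_.MulAut.one_apply]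
  map_mul' a b := by ext l : 2; simp only [mul_assoc, _root_.Subgroup.coe_mul, _root_.mul_inv_rev, _root_.InvMemClass.coe_inv, _root_.MulEquiv.coe_mk, _root_.Equiv.coe_fn_mk, _root_.MulAut.mul_apply]

@[simp] theorem cj_apply (H : QL p K V G L h) (g : G) (l : L) :
    (((cj H) g l : L) : V ≃ₗ[ZMod p] V) = g * l * (g : V ≃ₗ[ZMod p] V)⁻¹ := rfl

/-- elements of `G` acting trivially on `L / Z(L)` are scalars -/
theorem scalar_of_qt (H : QL p K V G L h) {g : G} (hg : qt ((cj H) g) = 1) : ∃ c : K, ∀ v, (g : V ≃ₗ[ZMod p] V) v = c • v := by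
  have h1 := eq_one_of_qt H.perf hg
  refine H.endo (g : V ≃ₗ[ZMod p] V) fun l hl v => ?_
  have h2 : (cj H) g ⟨l, hl⟩ = ⟨l, hl⟩ := by rw [h1]; rfl
  have h3 : (g : V ≃ₗ[ZMod p] V) * l * (g : V ≃ₗ[ZMod p] V)⁻¹ = l := congrArg Subtype.val h2
  have h4 : (g : V ≃ₗ[ZMod p] V) * l = l * g := by rw [← mul_inv_eq_iff_eq_mul]; exact h3
  exact LinearEquiv.congr_fun h4 v

theorem card_G_dvd (H : QL p K V G L h) :
    Nat.card G ∣ (Nat.card K - 1) * Nat.card (MulAut (L ⧸ Subgroup.center L)) := by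
  have hK := (finiteK H)
  set f : G →* MulAut (L ⧸ Subgroup.center L) := qt.comp (cj H) with hf
  have h1 : Nat.card G = Nat.card f.ker * Nat.card f.range := by
    rw [← Subgroup.index_ker f, mul_comm, Subgroup.index_mul_card]
  rw [h1]
  refine Nat.mul_dvd_mul ?_ (Subgroup.card_subgroup_dvd_card _)
  have h2 : Nat.card f.ker = Nat.card (f.ker.map G.subtype) :=
    Nat.card_congr (f.ker.equivMapOfInjective _ G.subtype_injective).toEquiv
  have h3 : f.ker.map G.subtype ≤ (sc (p := p) (K := K) (V := V)).range := by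
    rintro _ ⟨g, hg, rfl⟩
    obtain ⟨c, hc⟩ := scalar_of_qt H (g := g) hg
    have hc0 : c ≠ 0 := by
      rintro rfl
      obtain ⟨v, hv⟩ := exists_ne H
      apply hv
      have h4 := hc v
      rw [zero_smul] at h4
      exact (g : V ≃ₗ[ZMod p] V).map_eq_zero_iff.1 h4
    exact ⟨Units.mk0 c hc0, LinearEquiv.ext fun v => by rw [sc_apply]; exact (hc v).symm⟩
  have h4 : Nat.card (sc (p := p) (K := K) (V := V)).range ∣ Nat.card Kˣ := Subgroup.card_range_dvd _
  rw [h2, ← Nat.card_units]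
  exact (Subgroup.card_dvd_of_le h3).trans h4


/-- **The numerical conditions.** -/
theorem cp (H : QL p K V G L h) (hp : p ∣ Nat.card G) (hn : ¬ Tr G) : ∃ m, m * h = Nat.card G ∧
    CP (Nat.card (L ⧸ Subgroup.center L)) (Nat.card (MulAut (L ⧸ Subgroup.center L)))
      (Module.finrank K V) (Nat.card K) m h ∧ p ∣ h ∧ ¬ p ∣ m ∧ 0 < m := by
  obtain ⟨v, hv⟩ := exists_ne H
  haveI : Nontrivial V := ⟨⟨v, 0, hv⟩⟩
  obtain ⟨m, hm, hm0⟩ := exists_m H.half ⟨v, hv⟩
  have h0 : 0 < h := Cfsg.Agent.H19.HT.h_pos H.half hv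
  have hph := Cfsg.Agent.H19.HT.p_dvd_h H.half hp
  have hpm := Cfsg.Agent.H19.HT.p_not_dvd_m H.half hm
  refine ⟨m, hm, ⟨?_, ?_, ?_, ?_, ?_, ?_, ?_⟩, hph, hpm, ?_⟩
  · exact ((Fact.out : p.Prime).two_le).trans (Nat.le_of_dvd h0 hph)
  · rw [← card_V H]
    exact dvd_card_sub_one H.half h0 hm
  · rw [← card_V H]
    exact m_lt H.half h0 hm hn
  · rw [hm]
    exact (card_quot_dvd_L H).trans (card_L_dvd H)
  · rw [hm]
    exact card_G_dvd H
  · rw [← card_V H]
    exact half_le H.half h0 hm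
  · rw [← card_V H]
    exact ineq H.half h0 hm
  · exact Nat.pos_of_ne_zero fun hc => hpm (hc ▸ dvd_zero p)

/-! ### `L` as a group of `K`-linear maps -/

/-- `L` acts `K`-linearly -/
def toK (H : QL p K V G L h) : L →* (V ≃ₗ[K] V) where
  toFun l :=
    { toFun := (l : V ≃ₗ[ZMod p] V)
      map_add' := fun v w => map_add _ v w
      map_smul' := fun c v => H.lin l l.2 c v
      invFun := (l : V ≃ₗ[ZMod p] V).symm
      left_inv := fun v => (l : V ≃ₗ[ZMod p] V).symm_apply_apply v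
      right_inv := fun v => (l : V ≃ₗ[ZMod p] V).apply_symm_apply v }
  map_one' := by ext v; rfl
  map_mul' a b := by ext v; rfl

@[simp] theorem toK_apply (H : QL p K V G L h) (l : L) (v : V) :
    toK H l v = (l : V ≃ₗ[ZMod p] V) v := rfl

theorem toK_injective (H : QL p K V G L h) : Function.Injective (toK H) := by
  intro a b hab
  apply Subtype.ext
  ext v
  exact LinearEquiv.congr_fun hab v

/-- `|L|` divides `|GL_n(K)|` -/
theorem card_L_dvd_gl (H : QL p K V G L h) :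
    Nat.card L ∣ ∏ i : Fin (Module.finrank K V), (Nat.card K ^ Module.finrank K V - Nat.card K ^ (i : ℕ)) := by
  classical
  have hK := finiteK H
  have hfd := finiteDim H
  have := Fintype.ofFinite K
  let b := Module.finBasis K V
  let e : (V ≃ₗ[K] V) ≃* Matrix.GeneralLinearGroup (Fin (Module.finrank K V)) K :=
    (LinearMap.GeneralLinearGroup.generalLinearEquiv K V).symm.trans
      (Units.mapEquiv (LinearMap.toMatrixAlgEquiv b).toMulEquiv)
  have h1 : Nat.card L ∣ Nat.card (Matrix.GeneralLinearGroup (Fin (Module.finrank K V)) K) := by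
    have hi : Function.Injective (e.toMonoidHom.comp (toK H)) := e.injective.comp (toK_injective H)
    exact Subgroup.card_dvd_of_injective _ hi
  rwa [Matrix.card_GL_field, ← Nat.card_eq_fintype_card] at h1

/-- elements of `L` have `K`-determinant 1 -/
theorem det_toK (H : QL p K V G L h) (l : L) : LinearEquiv.det (toK H l) = 1 := by
  let f : L →* Kˣ := (LinearEquiv.det).comp (toK H)
  have h1 : f.ker = ⊤ := by
    rw [eq_top_iff, ← H.perf, commutator_def, Subgroup.commutator_le]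
    intro a _ b _
    rw [MonoidHom.mem_ker, map_commutatorElement, commutatorElement_eq_one_iff_mul_comm, mul_comm]
  have h2 : l ∈ f.ker := by rw [h1]; trivial
  exact h2

/-- `2 ≤ dim_K V` -/
theorem two_le_finrank (H : QL p K V G L h) : 2 ≤ Module.finrank K V := by
  have hfd := finiteDim H
  have h0 := finrank_pos H
  by_contra hlt
  have h1 : Module.finrank K V = 1 := by omega
  obtain ⟨a, ha, b, hb, hab⟩ := H.nonab
  obtain ⟨v, hv, hsp⟩ := finrank_eq_one_iff'.1 h1
  apply hab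
  ext x
  have key : ∀ l ∈ L, ∃ c : K, ∀ y : V, l y = c • y := by
    intro l hl
    obtain ⟨c, hc⟩ := hsp (l v)
    refine ⟨c, fun y => ?_⟩
    obtain ⟨d, hd⟩ := hsp y
    rw [← hd, H.lin l hl, ← hc, smul_comm]
  obtain ⟨c, hc⟩ := key a ha
  obtain ⟨d, hd⟩ := key b hb
  change a (b x) = b (a x)
  rw [hd x, hc x, H.lin a ha, H.lin b hb, hc x, hd x, smul_comm]

end QN

end Cfsg.Agent.H192.Ht
end

private theorem dce_773d21dd3d83 : _root_.True := by
  try have : _root_.True := by simp only [_root_.Cfsg.Agent.H192.Ht.RR.eq_1]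
  try have : _root_.True := by simp only [_root_.Cfsg.Agent.H192.Ht.T.eq_1]
  try have : _root_.True := by simp only [_root_.Cfsg.Agent.H192.Ht.T.congr_simp]
  try have : _root_.True := by simp only [_root_.Cfsg.Agent.H192.Ht.O.congr_simp]
  try have : _root_.True := by simp only [_root_.Cfsg.Agent.H192.Ht.LL.eq_1]
  try have : _root_.True := by simp only [_root_.Cfsg.Agent.H192.Ht.O.eq_1]
  exact _root_.True.intro
end

section
prune_inst 0xf1ecf95bb8b9dfffff7e7fa7d8cdfc39949fffa4dff94bffe06bdf8b9f030209e5a3ad0de058fe4eb6423410a87843fb7eee7fe06fdc7ffffd5ff41ffbee1fb7efb50911d48c340f7c6ff693f0778e7f000000000000000000000000000000000000000000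

-- part: H742/HT/Fus
section
prune_inst 0xe1200a40746200000018050240201c66a6000100000b0000280207460f890c40a5810e21ba000114081080c44038004000180020001000002a00060001180481008046002214a908200096008000000000000000000000000000000000000000200000000
set_option linter.all false
open scoped Cfsg.Agent.FastGrp

/-!
# S3512, quasisimple rows: fixed points of `p`-subgroups, stabilisers, coverage

All lemmas are for a half-transitive `G` (`Half G h`, `m * h = |G|`), no coprimality.

* `fus` : `i * m = |V| - 1`, `P ≤ G` a `p`-group (any prime `p`, here `s`): `i * (m % s) + 1 ≤ |C_V(P)|`;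
* `fus_fx` : the same for one element `x` of `s`-power order;
* `fus_gen` : the general form, for any group action (and for the orbits of a normal subgroup);
* `exists_relIndex`, `exists_fixed`, `coverage`, `index_dvd`, `fpf`, `rank_two`.
-/

set_option autoImplicit false
set_option linter.unusedSectionVars false

universe u w

namespace Cfsg.Agent.H742.HT.Fus

open Cfsg.Agent.H828.HT

section act

variable {Γ X : Type*} [Group Γ] [MulAction Γ X] [Finite X] {s : ℕ} [Fact s.Prime]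

/-- the points of a set counted by orbits -/
theorem card_eq_sum [Fintype (MulAction.orbitRel.Quotient Γ X)] :
    Nat.card X = ∑ ω : MulAction.orbitRel.Quotient Γ X, Nat.card ω.orbit := by
  rw [Nat.card_congr (MulAction.selfEquivSigmaOrbits' Γ X), Nat.card_sigma]

/-- the points with a property counted by orbits -/
theorem card_subtype_eq_sum [Fintype (MulAction.orbitRel.Quotient Γ X)] (A : X → Prop) :
    Nat.card {x // A x} = ∑ ω : MulAction.orbitRel.Quotient Γ X, Nat.card {x : ω.orbit // A x} := by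
  rw [← Nat.card_sigma]
  refine Nat.card_congr ⟨fun x => ⟨⟦x.1⟧, ⟨⟨x.1, ?_⟩, x.2⟩⟩, fun y => ⟨y.2.1.1, y.2.2⟩, ?_, ?_⟩
  · exact MulAction.orbitRel.Quotient.mem_orbit.2 rfl
  · intro x; rfl
  · rintro ⟨ω, ⟨⟨x, hx⟩, hA⟩⟩
    have h1 : Quotient.mk _ x = ω := MulAction.orbitRel.Quotient.mem_orbit.1 hx
    subst h1
    rfl

theorem orbit_modEq (P : Subgroup Γ) (hP : IsPGroup s P) (ω : MulAction.orbitRel.Quotient Γ X) :
    Nat.card ω.orbit ≡ Nat.card {x : ω.orbit // ∀ g ∈ P, g • (x : X) = x} [MOD s] := by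
  have h1 := hP.card_modEq_card_fixedPoints ω.orbit
  have h2 : Nat.card (MulAction.fixedPoints P ω.orbit) = Nat.card {x : ω.orbit // ∀ g ∈ P, g • (x : X) = x} := ?_
  · rwa [h2] at h1
  refine Nat.card_congr (Equiv.subtypeEquivRight fun x => ?_)
  constructor
  · intro hx g hg
    exact congrArg Subtype.val (hx ⟨g, hg⟩)
  · intro hx g
    exact Subtype.ext (hx g g.2)

/-- **fixed points of `s`-subgroups, general form** -/
theorem fus_gen (P : Subgroup Γ) (hP : IsPGroup s P) {c M : ℕ}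
    (hX : ∀ x : X, c * Nat.card (MulAction.orbit Γ x) ≤ M * (Nat.card (MulAction.orbit Γ x) % s)) :
    c * Nat.card X ≤ M * Nat.card {x : X // ∀ g ∈ P, g • x = x} := by
  classical
  let _ : Fintype (MulAction.orbitRel.Quotient Γ X) := Fintype.ofFinite _
  rw [card_eq_sum (Γ := Γ) (X := X), card_subtype_eq_sum (Γ := Γ) (fun x : X => ∀ g ∈ P, g • x = x),
    Finset.mul_sum, Finset.mul_sum]
  refine Finset.sum_le_sum fun ω _ => ?_
  have h1 := orbit_modEq P hP ω
  have h2 : c * Nat.card ω.orbit ≤ M * (Nat.card ω.orbit % s) := by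
    induction ω using Quotient.inductionOn' with
    | h x => exact hX x
  refine h2.trans (Nat.mul_le_mul_left _ ?_)
  rw [h1]
  exact Nat.mod_le _ _

/-- in an orbit of length prime to `s` an `s`-subgroup has a fixed point -/
theorem exists_fix (P : Subgroup Γ) (hP : IsPGroup s P) (x : X) (hx : ¬ s ∣ Nat.card (MulAction.orbit Γ x)) :
    ∃ g : Γ, ∀ k ∈ P, k • g • x = g • x := by
  have h1 := hP.card_modEq_card_fixedPoints (MulAction.orbit Γ x)
  have h2 : Nat.card (MulAction.fixedPoints P (MulAction.orbit Γ x)) ≠ 0 := by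
    intro h3
    rw [h3] at h1
    exact hx (Nat.modEq_zero_iff_dvd.1 h1)
  have h4 : Nonempty (MulAction.fixedPoints P (MulAction.orbit Γ x)) := (Nat.card_ne_zero.1 h2).1
  obtain ⟨⟨⟨y, g, hg⟩, hy⟩⟩ := h4
  refine ⟨g, fun k hk => ?_⟩
  have h5 := congrArg Subtype.val (hy ⟨k, hk⟩)
  change k • y = y at h5
  have hg' : g • x = y := hg
  rw [hg']
  exact h5

theorem dvd_card_of_dvd_orbits {k : ℕ} (hX : ∀ x : X, k ∣ Nat.card (MulAction.orbit Γ x)) : k ∣ Nat.card X := by
  rw [Nat.card_congr (MulAction.selfEquivSigmaOrbits Γ X), Nat.card_sigma]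
  exact Finset.dvd_sum (fun ω _ => hX _)

/-- an `s`-subgroup `P` has, in every orbit, a point `y` with `|P : P_y|` dividing the length -/
theorem exists_rel (P : Subgroup Γ) (hP : IsPGroup s P) [Finite P] (x : X) :
    ∃ g : Γ, Nat.card (MulAction.orbit P (g • x)) ∣ Nat.card (MulAction.orbit Γ x) := by
  classical
  have hpow : ∀ y : X, ∃ k, Nat.card (MulAction.orbit P y) = s ^ k := by
    intro y
    obtain ⟨n, hn⟩ := IsPGroup.iff_card.1 hP
    have h2 : Nat.card (MulAction.orbit P y) ∣ s ^ n := by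
      rw [← hn]
      refine ⟨Nat.card (MulAction.stabilizer P y), ?_⟩
      rw [← Nat.card_prod]
      exact (Nat.card_congr (MulAction.orbitProdStabilizerEquivGroup P y)).symm
    obtain ⟨k, -, hk⟩ := (Nat.dvd_prime_pow (Fact.out : s.Prime)).1 h2
    exact ⟨k, hk⟩
  choose e he using hpow
  have : Nonempty (MulAction.orbit Γ x) := ⟨⟨x, MulAction.mem_orbit_self x⟩⟩
  obtain ⟨⟨y, g, hg⟩, hmin⟩ := Finite.exists_min (fun y : MulAction.orbit Γ x => e y)
  refine ⟨g, ?_⟩
  have hg' : g • x = y := hg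
  rw [hg', he]
  refine dvd_card_of_dvd_orbits (Γ := P) (X := MulAction.orbit Γ x) ?_
  intro z
  have h1 : Nat.card (MulAction.orbit P z) = Nat.card (MulAction.orbit P (z : X)) := by
    refine Nat.card_congr ⟨fun t => ⟨t.1.1, ?_⟩, fun t => ⟨⟨t.1, ?_⟩, ?_⟩, ?_, ?_⟩
    · obtain ⟨k, hk⟩ := t.2
      exact ⟨k, congrArg Subtype.val hk⟩
    · obtain ⟨k, hk⟩ := t.2
      obtain ⟨l, hl⟩ := z.2
      have hl' : l • x = z := hl
      have hk' : (k : Γ) • (z : X) = t.1 := hk
      rw [← hk', ← hl']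
      exact ⟨k * l, by simp [mul_smul]⟩
    · obtain ⟨k, hk⟩ := t.2
      exact ⟨k, Subtype.ext hk⟩
    · intro t; rfl
    · intro t; rfl
  rw [h1, he]
  exact pow_dvd_pow _ (hmin z)

end act

/-! ### Half-transitive groups -/

section half

variable {p : ℕ} [Fact p.Prime] {V : Type u} [AddCommGroup V] [Module (ZMod p) V] [Finite V]
  {G L : Subgroup (V ≃ₗ[ZMod p] V)} {h : ℕ}

/-- the space of the vectors fixed by `X` -/
def fxs (X : Subgroup (V ≃ₗ[ZMod p] V)) : Submodule (ZMod p) V := ⨅ g ∈ X, fx g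

@[simp] theorem mem_fxs {X : Subgroup (V ≃ₗ[ZMod p] V)} {v : V} : v ∈ fxs X ↔ ∀ g ∈ X, g v = v := by
  simp [fxs]

/-- the non-zero vectors as a set with an action of `D` -/
@[reducible] def actN (D : Subgroup (V ≃ₗ[ZMod p] V)) : MulAction D {v : V // v ≠ 0} where
  smul g v := ⟨(g : V ≃ₗ[ZMod p] V) v.1, fun h => v.2 ((g : V ≃ₗ[ZMod p] V).map_eq_zero_iff.1 h)⟩
  one_smul _ := Subtype.ext rfl
  mul_smul _ _ _ := Subtype.ext rfl

theorem card_orbit_actN (D : Subgroup (V ≃ₗ[ZMod p] V)) (v : {v : V // v ≠ 0}) :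
    (letI := actN D; Nat.card (MulAction.orbit D v)) = Nat.card (MulAction.orbit D v.1) := by
  let _ := actN D
  change Nat.card (MulAction.orbit D v) = _
  refine Nat.card_congr ⟨fun t => ⟨t.1.1, ?_⟩, fun t => ⟨⟨t.1, ?_⟩, ?_⟩, ?_, ?_⟩
  · obtain ⟨k, hk⟩ := t.2
    exact ⟨k, congrArg Subtype.val hk⟩
  · obtain ⟨k, hk⟩ := t.2
    have hk' : (k : V ≃ₗ[ZMod p] V) v.1 = t.1 := hk
    rw [← hk']
    exact fun h => v.2 ((k : V ≃ₗ[ZMod p] V).map_eq_zero_iff.1 h)
  · obtain ⟨k, hk⟩ := t.2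
    exact ⟨k, Subtype.ext hk⟩
  · intro t; rfl
  · intro t; rfl

theorem card_ne_zero : Nat.card {v : V // v ≠ 0} + 1 = Nat.card V := by
  classical
  have h1 : Nat.card {v : V // v ≠ 0} = (Finset.univ.erase (0 : V)).card := by
    rw [Nat.card_eq_fintype_card, Fintype.card_subtype]
    congr 1
    ext v; simp
  rw [h1, Finset.card_erase_of_mem (Finset.mem_univ _), Finset.card_univ, Nat.card_eq_fintype_card]
  exact Nat.sub_add_cancel Fintype.card_pos

theorem card_sub_ne_zero (W : Submodule (ZMod p) V) (A : V → Prop) (hA : ∀ v, A v ↔ v ∈ W) :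
    Nat.card {v : {v : V // v ≠ 0} // A v.1} + 1 = Nat.card W := by
  classical
  have h1 : Nat.card {v : {v : V // v ≠ 0} // A v.1} = Nat.card {w : W // w ≠ 0} :=
    Nat.card_congr ⟨fun v => ⟨⟨v.1.1, (hA _).1 v.2⟩, fun h => v.1.2 (congrArg Subtype.val h)⟩,
      fun w => ⟨⟨w.1.1, fun h => w.2 (Subtype.ext h)⟩, (hA _).2 w.1.2⟩, fun _ => rfl, fun _ => rfl⟩
  rw [h1]
  exact card_ne_zero

/-- **fixed points, general form**: `D` any group of linear maps, `P ≤ D` an `s`-group; if all `D`-orbits `O` of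
non-zero vectors have `c |O| ≤ M (|O| mod s)` then `c (|V| - 1) ≤ M (|C_V(P)| - 1)` -/
theorem fus_D (D : Subgroup (V ≃ₗ[ZMod p] V)) {s : ℕ} [Fact s.Prime] (P : Subgroup (V ≃ₗ[ZMod p] V)) (hPD : P ≤ D)
    (hP : IsPGroup s P) {c M : ℕ}
    (hX : ∀ v : V, v ≠ 0 → c * Nat.card (MulAction.orbit D v) ≤ M * (Nat.card (MulAction.orbit D v) % s)) :
    c * (Nat.card V - 1) ≤ M * (Nat.card (fxs P) - 1) := by
  let _ := actN D
  have h1 := fus_gen (Γ := D) (X := {v : V // v ≠ 0}) (P.subgroupOf D)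
    (hP.of_equiv (Subgroup.subgroupOfEquivOfLe hPD).symm) (c := c) (M := M) (by
      intro v
      rw [card_orbit_actN]
      exact hX v.1 v.2)
  have h2 := card_sub_ne_zero (fxs P) (fun v => ∀ g ∈ P, g v = v) (fun v => mem_fxs.symm)
  have h3 : Nat.card {x : {v : V // v ≠ 0} // ∀ g ∈ P.subgroupOf D, g • x = x} =
      Nat.card {v : {v : V // v ≠ 0} // ∀ g ∈ P, g v.1 = v.1} := by
    refine Nat.card_congr (Equiv.subtypeEquivRight fun x => ?_)
    constructor
    · intro hx g hg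
      exact congrArg Subtype.val (hx ⟨g, hPD hg⟩ hg)
    · intro hx g hg
      exact Subtype.ext (hx g hg)
  rw [h3] at h1
  have h4 := card_ne_zero (V := V)
  rwa [← h2, ← h4, Nat.add_sub_cancel, Nat.add_sub_cancel]

/-- **fusion**: `i` orbits of length `m`; every `s`-subgroup `P` of `G` has at least `i (m mod s)` non-zero fixed
vectors -/
theorem fus (hh : Half G h) (h0 : 0 < h) {m i : ℕ} (hm : m * h = Nat.card G) (hi : i * m = Nat.card V - 1)
    {s : ℕ} (hs : s.Prime) (P : Subgroup (V ≃ₗ[ZMod p] V)) (hPG : P ≤ G) (hP : IsPGroup s P) :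
    i * (m % s) + 1 ≤ Nat.card (fxs P) := by
  have : Fact s.Prime := ⟨hs⟩
  have h1 := fus_D G P hPG hP (c := m % s) (M := m) (by
    intro v hv
    rw [orbit_card hh h0 hm hv, mul_comm])
  have hpos : 0 < Nat.card (fxs P) := Nat.card_pos
  have hm0 : 0 < m := by
    have : 0 < Nat.card G := Nat.card_pos
    rw [← hm] at this
    exact Nat.pos_of_mul_pos_right this
  rw [← hi] at h1
  have h2 : m * (i * (m % s)) ≤ m * (Nat.card (fxs P) - 1) := by
    calc m * (i * (m % s)) = m % s * (i * m) := by ring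
      _ ≤ _ := h1
  have h3 := Nat.le_of_mul_le_mul_left h2 hm0
  omega

theorem fxs_zpowers (x : V ≃ₗ[ZMod p] V) : fxs (Subgroup.zpowers x) = fx x := by
  ext v
  rw [mem_fxs, mem_fx]
  constructor
  · intro h
    exact h x (Subgroup.mem_zpowers x)
  · intro hx g hg
    have h1 : Subgroup.zpowers x ≤ MulAction.stabilizer (V ≃ₗ[ZMod p] V) v := by
      rw [Subgroup.zpowers_le]
      exact hx
    exact h1 hg

theorem isPGroup_zpowers {x : V ≃ₗ[ZMod p] V} {s k : ℕ} (hx : x ^ s ^ k = 1) :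
    IsPGroup s (Subgroup.zpowers x) := by
  rintro ⟨y, j, rfl⟩
  refine ⟨k, Subtype.ext ?_⟩
  change (x ^ j) ^ s ^ k = 1
  rw [← zpow_natCast, ← zpow_mul, mul_comm, zpow_mul, zpow_natCast, hx, one_zpow]

/-- the same for one element -/
theorem fus_fx (hh : Half G h) (h0 : 0 < h) {m i : ℕ} (hm : m * h = Nat.card G) (hi : i * m = Nat.card V - 1)
    {s : ℕ} (hs : s.Prime) {x : V ≃ₗ[ZMod p] V} (hx : x ∈ G) {k : ℕ} (hxk : x ^ s ^ k = 1) :
    i * (m % s) + 1 ≤ Nat.card (fx x) := by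
  rw [← fxs_zpowers]
  exact fus hh h0 hm hi hs _ ((Subgroup.zpowers_le).2 hx) (isPGroup_zpowers hxk)

/-- `|D : D_v|` times `|D_v|` is `|D|` -/
theorem orbit_mul_stab (D : Subgroup (V ≃ₗ[ZMod p] V)) (v : V) :
    Nat.card (MulAction.orbit D v) * Nat.card (MulAction.stabilizer D v) = Nat.card D := by
  rw [← Nat.card_prod]
  exact Nat.card_congr (MulAction.orbitProdStabilizerEquivGroup D v)

/-- `|L : L_v|` divides `m` -/
theorem index_dvd (hh : Half G h) (h0 : 0 < h) {m : ℕ} (hm : m * h = Nat.card G) (hL : L ≤ G)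
    (hn : ∀ g ∈ G, ∀ l ∈ L, g * l * g⁻¹ ∈ L) {v : V} (hv : v ≠ 0) :
    ∃ k, k ∣ m ∧ k * Nat.card (MulAction.stabilizer L v) = Nat.card L :=
  ⟨_, orbit_normal_dvd_m hh h0 hm L hL hn hv, orbit_mul_stab L v⟩

/-- the stabiliser in `L` has order dividing `h` -/
theorem stab_dvd (hh : Half G h) (hL : L ≤ G) {v : V} (hv : v ≠ 0) :
    Nat.card (MulAction.stabilizer L v) ∣ h := by
  have h1 : Nat.card ((MulAction.stabilizer L v).map L.subtype) = Nat.card (MulAction.stabilizer L v) :=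
    (Nat.card_congr ((MulAction.stabilizer L v).equivMapOfInjective _ L.subtype_injective).toEquiv).symm
  rw [← h1]
  refine card_dvd_h hh _ ?_ hv ?_
  · rintro _ ⟨g, -, rfl⟩
    exact hL g.2
  · rintro _ ⟨g, hg, rfl⟩
    exact hg

/-- a power `s ^ a` prime to `m` that divides `|L|` divides `|L_v|` -/
theorem part_dvd_stab (hh : Half G h) (h0 : 0 < h) {m : ℕ} (hm : m * h = Nat.card G) (hL : L ≤ G)
    (hn : ∀ g ∈ G, ∀ l ∈ L, g * l * g⁻¹ ∈ L) {d : ℕ} (hd : d ∣ Nat.card L) (hc : d.Coprime m) {v : V} (hv : v ≠ 0) :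
    d ∣ Nat.card (MulAction.stabilizer L v) := by
  obtain ⟨k, hk, hk'⟩ := index_dvd hh h0 hm hL hn hv
  rw [← hk'] at hd
  exact (Nat.Coprime.coprime_dvd_right hk hc).dvd_of_dvd_mul_left hd

/-- an `s`-subgroup `Q` of `L ⊴ G`, `s` not dividing `m`, fixes a vector of each `L`-orbit -/
theorem exists_fixed_subgroup (hh : Half G h) (h0 : 0 < h) {m : ℕ} (hm : m * h = Nat.card G) (hL : L ≤ G)
    (hn : ∀ g ∈ G, ∀ l ∈ L, g * l * g⁻¹ ∈ L) {s : ℕ} (hs : s.Prime) (hsm : ¬ s ∣ m)
    (Q : Subgroup (V ≃ₗ[ZMod p] V)) (hQL : Q ≤ L) (hQ : IsPGroup s Q) {v : V} (hv : v ≠ 0) :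
    ∃ l ∈ L, ∀ x ∈ Q, x (l v) = l v := by
  have : Fact s.Prime := ⟨hs⟩
  have h1 : ¬ s ∣ Nat.card (MulAction.orbit L v) := fun hc =>
    hsm (hc.trans (orbit_normal_dvd_m hh h0 hm L hL hn hv))
  obtain ⟨g, hg⟩ := exists_fix (Γ := L) (X := V) (Q.subgroupOf L)
    (hQ.of_equiv (Subgroup.subgroupOfEquivOfLe hQL).symm) v h1
  exact ⟨g, g.2, fun x hx => hg ⟨x, hQL hx⟩ hx⟩

/-- an element `x ∈ L` of `s`-power order, `s` not dividing `m`: every `v` is fixed by an `L`-conjugate of `x` -/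
theorem exists_fixed (hh : Half G h) (h0 : 0 < h) {m : ℕ} (hm : m * h = Nat.card G) (hL : L ≤ G)
    (hn : ∀ g ∈ G, ∀ l ∈ L, g * l * g⁻¹ ∈ L) {s : ℕ} (hs : s.Prime) (hsm : ¬ s ∣ m)
    {x : V ≃ₗ[ZMod p] V} (hx : x ∈ L) {k : ℕ} (hxk : x ^ s ^ k = 1) {v : V} (hv : v ≠ 0) :
    ∃ l ∈ L, (l * x * l⁻¹) v = v := by
  obtain ⟨l, hl, h1⟩ := exists_fixed_subgroup hh h0 hm hL hn hs hsm (Subgroup.zpowers x)
    ((Subgroup.zpowers_le).2 hx) (isPGroup_zpowers hxk) hv
  refine ⟨l⁻¹, L.inv_mem hl, ?_⟩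
  have h2 := h1 x (Subgroup.mem_zpowers x)
  rw [inv_inv]
  change l⁻¹ (x (l v)) = v
  rw [h2]
  change (l⁻¹ * l) v = v
  rw [inv_mul_cancel]; rfl

/-- an `s`-subgroup `Q` of `L ⊴ G` has in every `L`-orbit a vector `u` with `|Q : Q_u|` dividing `m` -/
theorem exists_relIndex (hh : Half G h) (h0 : 0 < h) {m : ℕ} (hm : m * h = Nat.card G) (hL : L ≤ G)
    (hn : ∀ g ∈ G, ∀ l ∈ L, g * l * g⁻¹ ∈ L) {s : ℕ} (hs : s.Prime)
    (Q : Subgroup (V ≃ₗ[ZMod p] V)) (hQL : Q ≤ L) (hQ : IsPGroup s Q) {v : V} (hv : v ≠ 0) :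
    ∃ l ∈ L, ∃ k, k ∣ m ∧ k * Nat.card (MulAction.stabilizer Q (l v)) = Nat.card Q := by
  have : Fact s.Prime := ⟨hs⟩
  obtain ⟨g, hg⟩ := exists_rel (Γ := L) (X := V) (Q.subgroupOf L)
    (hQ.of_equiv (Subgroup.subgroupOfEquivOfLe hQL).symm) v
  refine ⟨g, g.2, Nat.card (MulAction.orbit Q ((g : V ≃ₗ[ZMod p] V) v)), ?_, orbit_mul_stab Q _⟩
  refine dvd_trans ?_ (hg.trans (orbit_normal_dvd_m hh h0 hm L hL hn hv))
  refine dvd_of_eq (Nat.card_congr (Equiv.setCongr ?_))
  ext y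
  constructor
  · rintro ⟨k, hk⟩
    exact ⟨⟨⟨k, hQL k.2⟩, k.2⟩, hk⟩
  · rintro ⟨k, hk⟩
    exact ⟨⟨k.1.1, k.2⟩, hk⟩

/-- **coverage**: `s ∤ m`, `x ∈ L` of `s`-power order: the fixed spaces of the `L`-conjugates of `x` cover `V` -/
theorem coverage (hh : Half G h) (h0 : 0 < h) {m : ℕ} (hm : m * h = Nat.card G) (hL : L ≤ G)
    (hn : ∀ g ∈ G, ∀ l ∈ L, g * l * g⁻¹ ∈ L) {s : ℕ} (hs : s.Prime) (hsm : ¬ s ∣ m)
    {x : V ≃ₗ[ZMod p] V} (hx : x ∈ L) {k : ℕ} (hxk : x ^ s ^ k = 1) {N : ℕ}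
    (hN : Nat.card {Q : Subgroup (V ≃ₗ[ZMod p] V) // ∃ l ∈ L, Q = Subgroup.zpowers (l * x * l⁻¹)} ≤ N) :
    Nat.card V - 1 ≤ N * (Nat.card (fx x) - 1) := by
  classical
  let ι := {Q : Subgroup (V ≃ₗ[ZMod p] V) // ∃ l ∈ L, Q = Subgroup.zpowers (l * x * l⁻¹)}
  have : Finite ι := inferInstance
  let _ : Fintype ι := Fintype.ofFinite ι
  have h1 : ∀ v : {v : V // v ≠ 0}, ∃ Q : ι, v.1 ∈ fxs Q.1 := by
    intro v
    obtain ⟨l, hl, h2⟩ := exists_fixed hh h0 hm hL hn hs hsm hx hxk v.2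
    refine ⟨⟨_, l, hl, rfl⟩, ?_⟩
    change v.1 ∈ fxs (Subgroup.zpowers (l * x * l⁻¹))
    rw [fxs_zpowers, mem_fx]
    exact h2
  choose Q hQ using h1
  have h2 : ∀ R : ι, Nat.card (fxs R.1) = Nat.card (fx x) := by
    rintro ⟨_, l, hl, rfl⟩
    change Nat.card (fxs (Subgroup.zpowers (l * x * l⁻¹))) = _
    rw [fxs_zpowers]
    refine Nat.card_congr ⟨fun w => ⟨l⁻¹ w.1, ?_⟩, fun w => ⟨l w.1, ?_⟩, ?_, ?_⟩
    · have h3 : (l * x * l⁻¹) w.1 = w.1 := mem_fx.1 w.2
      rw [mem_fx]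
      have h4 := congrArg (fun z => l⁻¹ z) h3
      change (l⁻¹ * (l * x * l⁻¹)) w.1 = l⁻¹ w.1 at h4
      have h5 : l⁻¹ * (l * x * l⁻¹) = x * l⁻¹ := by group
      rw [h5] at h4
      exact h4
    · have h3 : x w.1 = w.1 := mem_fx.1 w.2
      rw [mem_fx]
      change (l * x * l⁻¹ * l) w.1 = l w.1
      have h5 : l * x * l⁻¹ * l = l * x := by group
      rw [h5]
      change l (x w.1) = l w.1
      rw [h3]
    · intro w
      refine Subtype.ext ?_
      change (l * l⁻¹) w.1 = w.1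
      rw [mul_inv_cancel]; rfl
    · intro w
      refine Subtype.ext ?_
      change (l⁻¹ * l) w.1 = w.1
      rw [inv_mul_cancel]; rfl
  have h3 : Nat.card {v : V // v ≠ 0} ≤ ∑ R : ι, Nat.card {w : fxs R.1 // w ≠ 0} := by
    rw [← Nat.card_sigma]
    refine Nat.card_le_card_of_injective
      (fun v => (⟨Q v, ⟨⟨v.1, hQ v⟩, fun hc => v.2 (congrArg Subtype.val hc)⟩⟩ :
        Σ R : ι, {w : fxs R.1 // w ≠ 0})) ?_
    intro v w hvw
    have h1 := (Sigma.mk.inj_iff.1 hvw).1
    have h2 := (Sigma.mk.inj_iff.1 hvw).2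
    have h3 : ∀ (i j : ι) (a : {w : fxs i.1 // w ≠ 0}) (b : {w : fxs j.1 // w ≠ 0}), i = j → HEq a b →
        (a.1 : V) = b.1 := by
      rintro i _ a b rfl hab
      rw [eq_of_heq hab]
    exact Subtype.ext (h3 _ _ _ _ h1 h2)
  have h4 : ∀ R : ι, Nat.card {w : fxs R.1 // w ≠ 0} = Nat.card (fx x) - 1 := by
    intro R
    have h5 := card_ne_zero (V := fxs R.1)
    rw [h2] at h5
    omega
  have h5 := card_ne_zero (V := V)
  rw [Finset.sum_congr rfl (fun R _ => h4 R), Finset.sum_const, smul_eq_mul, Finset.card_univ,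
    ← Nat.card_eq_fintype_card] at h3
  calc Nat.card V - 1 = Nat.card {v : V // v ≠ 0} := by omega
    _ ≤ _ := h3
    _ ≤ _ := Nat.mul_le_mul_right _ hN

/-- elements of prime order `s`, `s ∤ h`, have no non-zero fixed vectors -/
theorem fpf (hh : Half G h) {s : ℕ} (hs : s.Prime) (hsh : ¬ s ∣ h) {x : V ≃ₗ[ZMod p] V} (hx : x ∈ G)
    (hxs : x ^ s = 1) (hx1 : x ≠ 1) : fx x = ⊥ := by
  rw [eq_bot_iff]
  intro v hv
  rw [Submodule.mem_bot]
  by_contra hv0
  have : Fact s.Prime := ⟨hs⟩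
  apply hsh
  refine dvd_h hh (g := ⟨x, hx⟩) ?_ hv0 (mem_fx.1 hv)
  refine orderOf_eq_prime (Subtype.ext hxs) ?_
  intro h1
  exact hx1 (congrArg Subtype.val h1)

/-- an element of prime order `s` without non-zero fixed vectors: the sum of its powers is `0` -/
theorem sum_pow_eq_zero {x : V ≃ₗ[ZMod p] V} (hf : fx x = ⊥) {s : ℕ} (hxs : x ^ s = 1) (v : V) :
    ∑ i ∈ Finset.range s, (x ^ i) v = 0 := by
  rcases Nat.eq_zero_or_pos s with rfl | hs
  · simp
  have h1 : ∑ i ∈ Finset.range s, (x ^ i) v ∈ fx x := by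
    rw [mem_fx, map_sum]
    obtain ⟨s, rfl⟩ : ∃ t, s = t + 1 := ⟨s - 1, by omega⟩
    have h1 : ∀ i, x ((x ^ i) v) = (x ^ (i + 1)) v := by
      intro i
      rw [pow_succ']; rfl
    rw [Finset.sum_congr rfl (fun i _ => h1 i), Finset.sum_range_succ, Finset.sum_range_succ', hxs, pow_zero]
  rw [hf] at h1
  exact (Submodule.mem_bot _).1 h1

theorem cast_smul_eq_zero {n : ℕ} (hn : ¬ p ∣ n) {v : V} (h : n • v = 0) : v = 0 := by
  have h1 : ((n : ZMod p)) • v = 0 := by rw [Nat.cast_smul_eq_nsmul, h]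
  rcases smul_eq_zero.1 h1 with h2 | h2
  · exact absurd ((ZMod.natCast_eq_zero_iff _ _).1 h2) hn
  · exact h2

/-- **(R2)**: two commuting elements of prime order `r ≠ p`, not both powers of one: `r ∣ h` -/
theorem rank_two' (hh : Half G h) (hV : ∃ v : V, v ≠ 0) {r : ℕ} (hr : r.Prime) (hrp : r ≠ p)
    {a b : V ≃ₗ[ZMod p] V} (ha : a ∈ G) (hb : b ∈ G)
    (hab : a * b = b * a) (har : a ^ r = 1) (hbr : b ^ r = 1) (ha1 : a ≠ 1)
    (hba : b ∉ Subgroup.zpowers a) : r ∣ h := by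
  by_contra hrh
  obtain ⟨v, hv⟩ := hV
  apply hv
  have hcomm : Commute a b := hab
  have h1 : ∀ i, ∑ j ∈ Finset.range r, ((a ^ i * b) ^ j) v = 0 := by
    intro i
    have h0 : (a ^ i * b) ^ r = 1 := by
      rw [(hcomm.pow_left i).mul_pow, ← pow_mul, mul_comm i, pow_mul, har, one_pow, hbr, mul_one]
    refine sum_pow_eq_zero (fpf hh hr hrh (G.mul_mem (G.pow_mem ha i) hb) h0 ?_) h0 v
    intro hc
    apply hba
    have : b = (a ^ i)⁻¹ := (inv_eq_of_mul_eq_one_right hc).symm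
    rw [this]
    exact Subgroup.inv_mem _ (Subgroup.pow_mem _ (Subgroup.mem_zpowers a) i)
  have h2 : ∑ i ∈ Finset.range r, ∑ j ∈ Finset.range r, ((a ^ i * b) ^ j) v = 0 :=
    Finset.sum_eq_zero (fun i _ => h1 i)
  rw [Finset.sum_comm] at h2
  have h3 : ∀ j ∈ Finset.range r, j ≠ 0 → ∑ i ∈ Finset.range r, ((a ^ i * b) ^ j) v = 0 := by
    intro j hj hj0
    have hjr : j < r := Finset.mem_range.1 hj
    have h4 : ∀ i, ((a ^ i * b) ^ j) v = ((a ^ j) ^ i) ((b ^ j) v) := by
      intro i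
      rw [(hcomm.pow_left i).mul_pow, ← pow_mul, mul_comm i, pow_mul]; rfl
    rw [Finset.sum_congr rfl (fun i _ => h4 i)]
    have h0 : (a ^ j) ^ r = 1 := by rw [← pow_mul, mul_comm, pow_mul, har, one_pow]
    refine sum_pow_eq_zero (fpf hh hr hrh (G.pow_mem ha j) h0 ?_) h0 _
    intro hc
    have h5 : orderOf a = r := by
      have : Fact r.Prime := ⟨hr⟩
      exact orderOf_eq_prime har ha1
    have h6 := orderOf_dvd_of_pow_eq_one hc
    rw [h5] at h6
    exact absurd (Nat.le_of_dvd (by omega) h6) (by omega)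
  rw [Finset.sum_eq_single_of_mem 0 (Finset.mem_range.2 hr.pos) h3] at h2
  simp only [pow_zero] at h2
  rw [Finset.sum_const, Finset.card_range] at h2
  refine cast_smul_eq_zero (p := p) ?_ h2
  intro hd
  exact hrp ((Nat.prime_dvd_prime_iff_eq (Fact.out : p.Prime) hr).1 hd).symm

end half

/-! ### The same for `QL`, and the `K`-structure of fixed spaces -/

section ql

open Module

variable {p : ℕ} [Fact p.Prime] {K : Type w} [Field K] {V : Type u} [AddCommGroup V] [Module (ZMod p) V] [Finite V]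
    [Module K V] {G L : Subgroup (V ≃ₗ[ZMod p] V)} {h : ℕ}

/-- the fixed space of a group of `K`-linear maps, over `K` -/
def kfx (X : Subgroup (V ≃ₗ[ZMod p] V)) (hX : ∀ l ∈ X, ∀ (c : K) (v : V), l (c • v) = c • l v) : Submodule K V where
  carrier := {v | v ∈ fxs X}
  add_mem' := fun ha hb => (fxs X).add_mem ha hb
  zero_mem' := (fxs X).zero_mem
  smul_mem' := by
    intro c v hv
    have hv' := mem_fxs.1 hv
    exact mem_fxs.2 fun g hg => by rw [hX g hg, hv' g hg]

theorem card_kfx [Finite K] (X : Subgroup (V ≃ₗ[ZMod p] V))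
    (hX : ∀ l ∈ X, ∀ (c : K) (v : V), l (c • v) = c • l v) :
    Nat.card (fxs X) = Nat.card K ^ finrank K (kfx X hX) := by
  have : Module.Finite K V := Module.Finite.of_finite
  exact Module.natCard_eq_pow_finrank (K := K) (V := kfx X hX)

theorem finrank_kfx_lt [Finite K] (X : Subgroup (V ≃ₗ[ZMod p] V))
    (hX : ∀ l ∈ X, ∀ (c : K) (v : V), l (c • v) = c • l v) (hne : X ≠ ⊥) :
    finrank K (kfx X hX) < finrank K V := by
  have : Module.Finite K V := Module.Finite.of_finite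
  refine Submodule.finrank_lt ?_
  intro htop
  apply hne
  rw [eq_bot_iff]
  intro g hg
  rw [Subgroup.mem_bot]
  ext v
  have h1 : v ∈ kfx X hX := by rw [htop]; trivial
  exact mem_fxs.1 h1 g hg

/-- the order of the fixed space of a group of `K`-linear maps is a power of `|K|` -/
theorem card_fxs [Finite K] (X : Subgroup (V ≃ₗ[ZMod p] V))
    (hX : ∀ l ∈ X, ∀ (c : K) (v : V), l (c • v) = c • l v) :
    ∃ c, Nat.card (fxs X) = Nat.card K ^ c ∧ c ≤ finrank K V ∧ (X ≠ ⊥ → c < finrank K V) := by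
  have : Module.Finite K V := Module.Finite.of_finite
  exact ⟨_, card_kfx X hX, Submodule.finrank_le _, finrank_kfx_lt X hX⟩

/-- the order of the fixed space of an element of a group of `K`-linear maps -/
theorem card_fx [Finite K] (hL : ∀ l ∈ L, ∀ (c : K) (v : V), l (c • v) = c • l v) {x : V ≃ₗ[ZMod p] V} (hx : x ∈ L) :
    ∃ c, Nat.card (fx x) = Nat.card K ^ c ∧ c ≤ finrank K V ∧ (x ≠ 1 → c < finrank K V) := by
  obtain ⟨c, h2, h3, h4⟩ := card_fxs (K := K) (Subgroup.zpowers x)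
    (fun l hl => hL l ((Subgroup.zpowers_le).2 hx hl))
  rw [fxs_zpowers] at h2
  refine ⟨c, h2, h3, fun hx1 => h4 ?_⟩
  rwa [Ne, Subgroup.zpowers_eq_bot]

end ql

end Cfsg.Agent.H742.HT.Fus

private theorem dce_9dcd1f9e81d3 : _root_.True := by
  try have : _root_.True := by simp only [_root_.Cfsg.Agent.H742.HT.Fus.fxs.eq_1]
  exact _root_.True.intro
end

-- part: H19/HT/Sub
section
prune_inst 0x21306a44646000000018000240201c66b2000522004b0000284005060d8b9e60a5812e21fa5009140a9080c5403100081110003000000000000084000118048104a34602b318ad08100090000882000000000000000000000000000000041000200000000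
set_option linter.all false
open scoped Cfsg.Agent.FastGrp

/-!
# [T1]: subgroups of order divisible by `p` all of whose orbits have length prime to `p` (S3512)

If all orbits of `N` on non-zero vectors have length prime to `p` (e.g. `N` subnormal in a half-transitive
group) then elements of order `p` of `N` act trivially on an `N`-submodule `U` of which `V` contains a
second independent copy.  Hence homogeneous subnormal subgroups of order divisible by `p` are irreducible.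
-/

set_option autoImplicit false
set_option linter.style.haveILetI false
set_option linter.unusedSectionVars false

open scoped Classical
open Cfsg.Agent.H828.HT Cfsg.Agent.H960.HT

namespace Cfsg.Agent.H19.HT

universe u

variable {p : ℕ} [Fact p.Prime] {V : Type u} [AddCommGroup V] [Module (ZMod p) V] [Finite V]

/-- all orbits on non-zero vectors have length prime to `p` -/
def PEx (N : Subgroup (V ≃ₗ[ZMod p] V)) : Prop :=
  ∀ v : V, v ≠ 0 → ¬ p ∣ Nat.card (MulAction.orbit N v)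

/-- **T1** -/
theorem t1 {N : Subgroup (V ≃ₗ[ZMod p] V)} (hN : PEx N) {U : Submodule (ZMod p) V}
    (hU : ∀ n ∈ N, ∀ u ∈ U, n u ∈ U) (θ : U →ₗ[ZMod p] V)
    (hθ : ∀ n ∈ N, ∀ u w : U, (w : V) = n u → θ w = n (θ u))
    (hd : ∀ w : U, θ w ∈ U → w = 0) {g : V ≃ₗ[ZMod p] V} (hg : g ∈ N) (hgp : g ^ p = 1) :
    ∀ u ∈ U, g u = u := by
  by_contra hcon
  push Not at hcon
  obtain ⟨u₀, hu₀, hne⟩ := hcon
  -- `D = g - 1`
  let D : V →ₗ[ZMod p] V := (g : V →ₗ[ZMod p] V) - 1
  have hD : ∀ v, D v = g v - v := fun v => rfl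
  have hDp : D ^ p = 0 := by
    have hc : Commute (g : V →ₗ[ZMod p] V) 1 := Commute.one_right _
    haveI : CharP (Module.End (ZMod p) V) p := by
      haveI : Nontrivial V := ⟨⟨g u₀, u₀, hne⟩⟩
      exact charP_of_injective_algebraMap (algebraMap (ZMod p) (Module.End (ZMod p) V)).injective p
    have h1 : D ^ p = (g : Module.End (ZMod p) V) ^ p - 1 ^ p :=
      sub_pow_char_of_commute p hc
    have h2 : (g : Module.End (ZMod p) V) ^ p = ((g ^ p : V ≃ₗ[ZMod p] V) : Module.End (ZMod p) V) := by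
      have : ∀ n : ℕ, (g : Module.End (ZMod p) V) ^ n =
          ((g ^ n : V ≃ₗ[ZMod p] V) : Module.End (ZMod p) V) := by
        intro n
        induction n with
        | zero => rfl
        | succ n ih => rw [pow_succ, pow_succ, ih]; rfl
      exact this p
    rw [h1, h2, hgp, one_pow]
    exact sub_self _
  have hDU : ∀ n : ℕ, ∀ u ∈ U, (D ^ n) u ∈ U := by
    intro n
    induction n with
    | zero => intro u hu; exact hu
    | succ n ih =>
      intro u hu
      rw [pow_succ']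
      change D ((D ^ n) u) ∈ U
      rw [hD]
      exact U.sub_mem (hU g hg _ (ih u hu)) (ih u hu)
  -- the least `k` killing `U`
  have hex : ∃ k : ℕ, ∀ u ∈ U, (D ^ k) u = 0 := ⟨p, fun u _ => by rw [hDp]; rfl⟩
  set k := Nat.find hex with hk
  have hk1 : ∀ u ∈ U, (D ^ k) u = 0 := Nat.find_spec hex
  have hk2 : 2 ≤ k := by
    by_contra hlt
    push Not at hlt
    apply hne
    have h1 : (D ^ 1) u₀ = 0 := by
      rcases Nat.lt_or_ge k 1 with h | h
      · have h0 : k = 0 := by omega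
        have h2 := hk1 u₀ hu₀
        rw [h0, pow_zero] at h2
        have h3 : u₀ = 0 := h2
        rw [h3, map_zero]
      · have h0 : k = 1 := by omega
        have h2 := hk1 u₀ hu₀
        rwa [h0] at h2
    rw [pow_one, hD, sub_eq_zero] at h1
    exact h1
  obtain ⟨x, hxU, hx⟩ : ∃ x ∈ U, (D ^ (k - 1)) x ≠ 0 := by
    have := Nat.find_min hex (m := k - 1) (by omega)
    push Not at this
    exact this
  let u' : V := (D ^ (k - 2)) x
  let u : V := (D ^ (k - 1)) x
  have hu'U : u' ∈ U := hDU _ x hxU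
  have huU : u ∈ U := hDU _ x hxU
  have hDu' : D u' = u := by
    change D ((D ^ (k - 2)) x) = (D ^ (k - 1)) x
    have : k - 1 = (k - 2) + 1 := by omega
    rw [this, pow_succ']
    rfl
  have hDu : D u = 0 := by
    change D ((D ^ (k - 1)) x) = 0
    have h1 : (D ^ ((k - 1) + 1)) x = 0 := by
      have : k - 1 + 1 = k := by omega
      rw [this]
      exact hk1 x hxU
    rw [pow_succ'] at h1
    exact h1
  have hgu : g u = u := by
    rw [hD, sub_eq_zero] at hDu
    exact hDu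
  have hgu' : g u' = u' + u := by
    rw [hD] at hDu'
    rw [← hDu']; abel
  -- the vector
  let v : V := u + θ ⟨u', hu'U⟩
  -- injectivity of `θ`
  have hv : ∀ n ∈ N, n v = v ↔ n u = u ∧ n u' = u' := by
    intro n hn
    have e1 : n v = n u + θ ⟨n u', hU n hn _ hu'U⟩ := by
      change n (u + θ ⟨u', hu'U⟩) = _
      rw [map_add, hθ n hn ⟨u', hu'U⟩ ⟨n u', hU n hn _ hu'U⟩ rfl]
    constructor
    · intro h
      rw [e1] at h
      have h1 : θ (⟨u', hu'U⟩ - ⟨n u', hU n hn _ hu'U⟩) = n u - u := by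
        rw [map_sub, sub_eq_sub_iff_add_eq_add]
        change n u + _ = u + _ at h
        rw [h]; abel
      have h2 := hd _ (h1 ▸ U.sub_mem (hU n hn _ huU) huU)
      rw [h2, map_zero] at h1
      refine ⟨(sub_eq_zero.1 h1.symm), ?_⟩
      have h3 := congrArg Subtype.val (sub_eq_zero.1 h2)
      exact h3.symm
    · rintro ⟨h1, h2⟩
      rw [e1]
      change n u + _ = u + _
      rw [h1]
      congr 2
      exact Subtype.ext h2
  have hv0 : v ≠ 0 := by
    intro h0
    have h1 : θ ⟨u', hu'U⟩ = -u := by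
      rw [eq_neg_iff_add_eq_zero, add_comm]; exact h0
    have h2 := hd ⟨u', hu'U⟩ (by rw [h1]; exact U.neg_mem huU)
    have h3 : u' = 0 := congrArg Subtype.val h2
    apply hx
    change u = 0
    rw [← hDu', h3, map_zero]
  have hu0 : u ≠ 0 := hx
  -- the subgroup `S`
  let S : Subgroup N :=
    { carrier := {n | (n : V ≃ₗ[ZMod p] V) u = u ∧ ∃ c : ZMod p,
        (n : V ≃ₗ[ZMod p] V) u' = u' + c • u}
      one_mem' := ⟨rfl, 0, by rw [zero_smul, add_zero]; rfl⟩
      mul_mem' := by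
        rintro a b ⟨ha, c, hc⟩ ⟨hb, d, hd⟩
        refine ⟨?_, d + c, ?_⟩
        · change (a : V ≃ₗ[ZMod p] V) ((b : V ≃ₗ[ZMod p] V) u) = u
          rw [hb, ha]
        · change (a : V ≃ₗ[ZMod p] V) ((b : V ≃ₗ[ZMod p] V) u') = _
          rw [hd, map_add, map_smul, ha, hc, add_smul]
          abel
      inv_mem' := by
        rintro a ⟨ha, c, hc⟩
        have h1 : ((a⁻¹ : N) : V ≃ₗ[ZMod p] V) u = u := by
          conv_lhs => rw [← ha]
          change ((a⁻¹ * a : N) : V ≃ₗ[ZMod p] V) u = u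
          rw [inv_mul_cancel]; rfl
        refine ⟨h1, -c, ?_⟩
        have h2 : ((a⁻¹ : N) : V ≃ₗ[ZMod p] V) ((a : V ≃ₗ[ZMod p] V) u') = u' := by
          change ((a⁻¹ * a : N) : V ≃ₗ[ZMod p] V) u' = u'
          rw [inv_mul_cancel]; rfl
        rw [hc, map_add, map_smul, h1] at h2
        rw [neg_smul, ← sub_eq_add_neg]
        exact eq_sub_of_add_eq h2 }
  choose c hc using fun n : S => n.2.2
  have huniq : ∀ (n : S) (d : ZMod p), ((n : N) : V ≃ₗ[ZMod p] V) u' = u' + d • u → c n = d := by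
    intro n d h
    rw [hc n] at h
    exact smul_left_injective (ZMod p) hu0 (add_left_cancel h)
  let f : S →* Multiplicative (ZMod p) :=
    { toFun := fun n => Multiplicative.ofAdd (c n)
      map_one' := by
        rw [huniq 1 0 (by rw [zero_smul, add_zero]; rfl)]
        rfl
      map_mul' := by
        intro a b
        rw [huniq (a * b) (c a + c b) (by
          change ((a : N) : V ≃ₗ[ZMod p] V) (((b : N) : V ≃ₗ[ZMod p] V) u') = _
          rw [hc b, map_add, map_smul, a.2.1, hc a, add_smul]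
          abel)]
        rfl }
  -- the kernel is the stabiliser of `v`
  have hTS : MulAction.stabilizer N v ≤ S := by
    intro n hn
    have h1 := (hv n n.2).1 hn
    exact ⟨h1.1, 0, by rw [zero_smul, add_zero]; exact h1.2⟩
  have hker : f.ker = (MulAction.stabilizer N v).subgroupOf S := by
    ext n
    rw [MonoidHom.mem_ker, Subgroup.mem_subgroupOf]
    constructor
    · intro h
      have h1 : c n = 0 := h
      have h2 := hc n
      rw [h1, zero_smul, add_zero] at h2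
      exact (hv _ n.1.2).2 ⟨n.2.1, h2⟩
    · intro h
      have h1 := (hv _ n.1.2).1 h
      have h2 : c n = 0 := huniq n 0 (by rw [zero_smul, add_zero]; exact h1.2)
      change Multiplicative.ofAdd (c n) = 1
      rw [h2]; rfl
  -- `f` is non-trivial
  let g' : S := ⟨⟨g, hg⟩, hgu, 1, by rw [one_smul]; exact hgu'⟩
  have hg'c : c g' = 1 := huniq g' 1 (by rw [one_smul]; exact hgu')
  have hrange : p ∣ Nat.card f.range := by
    have h1 : Nat.card f.range ∣ p := by
      have := Subgroup.card_subgroup_dvd_card f.range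
      rwa [Nat.card_congr Multiplicative.toAdd, Nat.card_zmod] at this
    rcases (Nat.dvd_prime (Fact.out : p.Prime)).1 h1 with h | h
    · exfalso
      have h2 : f.range = ⊥ := Subgroup.card_eq_one.1 h
      have h3 : f g' ∈ f.range := ⟨g', rfl⟩
      rw [h2, Subgroup.mem_bot] at h3
      have h4 : c g' = 0 := h3
      rw [hg'c] at h4
      exact one_ne_zero h4
    · rw [h]
  have hidx : p ∣ (MulAction.stabilizer N v).index := by
    rw [← Subgroup.relIndex_mul_index hTS]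
    refine Dvd.dvd.mul_right ?_ _
    rw [Subgroup.relIndex, ← hker, Subgroup.index_ker]
    exact hrange
  apply hN v hv0
  rw [Nat.card_coe_set_eq, ← MulAction.index_stabilizer]
  exact hidx

variable {G N E L : Subgroup (V ≃ₗ[ZMod p] V)} {h : ℕ}

/-- normal subgroups of a half-transitive group -/
theorem pex_of_normal (hh : Half G h) (hNG : N ≤ G) (hN : ∀ g ∈ G, ∀ n ∈ N, g * n * g⁻¹ ∈ N) :
    PEx N := by
  intro v hv hd
  haveI : Nontrivial V := ⟨⟨v, 0, hv⟩⟩
  have h0 := h_pos hh hv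
  obtain ⟨m, hm, hm0⟩ := exists_m hh ⟨v, hv⟩
  exact p_not_dvd_m hh hm (hd.trans (orbit_normal_dvd_m hh h0 hm N hNG hN hv))

/-- normal subgroups inherit the property -/
theorem PEx.sub (hE : PEx E) (hLE : L ≤ E) (hL : ∀ g ∈ E, ∀ n ∈ L, g * n * g⁻¹ ∈ L) : PEx L :=
  fun v hv hd => hE v hv (hd.trans (orbit_normal_dvd L hLE hL v))

/-- **Homogeneous normal subgroups of order divisible by `p` are irreducible.** -/
theorem irr_of_homog [Nontrivial V] (hirr : Irr E) (hL : ∀ g ∈ E, ∀ n ∈ L, g * n * g⁻¹ ∈ L)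
    (hH : Homog L) (hP : PEx L) (hp : p ∣ Nat.card L) : Irr L := by
  obtain ⟨M, -, hM⟩ := exists_nirr L (W := ⊤) top_ne_bot (fun _ _ _ _ => trivial)
  by_cases hMT : M = ⊤
  · subst hMT
    intro W hW
    exact hM.irr W le_top hW
  · exfalso
    obtain ⟨M', hM', hM'M⟩ : ∃ M', NIrr L M' ∧ ¬ M' ≤ M := by
      by_contra hc
      push Not at hc
      apply hMT
      rw [eq_top_iff, ← sSup_nirr hirr hL]
      exact sSup_le hc
    have hdisj : M' ⊓ M = ⊥ := by
      rcases hM'.irr (M' ⊓ M) inf_le_left (fun n hn v hv =>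
        ⟨hM'.inv n hn v hv.1, hM.inv n hn v hv.2⟩) with h | h
      · exact h
      · exact absurd (h ▸ inf_le_right) hM'M
    obtain ⟨e, he⟩ := hH M M' hM hM'
    obtain ⟨g, hg⟩ := exists_prime_orderOf_dvd_card' p hp
    have h1 := t1 hP hM.inv (M'.subtype.comp (e : M →ₗ[ZMod p] M')) (fun n hn u w hw => by
      exact he n hn u w hw) (by
      intro w hw
      have h2 : (e w : V) ∈ M' ⊓ M := ⟨(e w).2, hw⟩
      rw [hdisj, Submodule.mem_bot] at h2
      exact e.injective (by rw [map_zero]; exact Subtype.ext h2)) g.2 (by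
      have := pow_orderOf_eq_one g
      rw [hg] at this
      exact congrArg Subtype.val this)
    have h2 := hH.faithful hirr hL hM g.2 h1
    have h3 : g = 1 := Subtype.ext h2
    rw [h3, orderOf_one] at hg
    exact (Fact.out : p.Prime).one_lt.ne hg

/-- homogeneity from isotypic components -/
theorem homog_of_isotypic
    (hI : ∀ M : Submodule (ZMod p) V, ∀ hM : NIrr L M,
      isotypicComponent (env L) V (toE L M hM.inv) = ⊤) : Homog L := by
  intro M M' hM hM'
  have hs : IsSimpleModule (env L) (toE L M hM.inv) := by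
    rw [simple_iff, toV_toE]; exact hM
  have hs' : IsSimpleModule (env L) (toE L M' hM'.inv) := by
    rw [simple_iff, toV_toE]; exact hM'
  have h4 : toE L M hM.inv ≤ isotypicComponent (env L) V (toE L M' hM'.inv) := by
    rw [hI M' hM']; exact le_top
  obtain ⟨e⟩ := isIsotypicOfType_submodule_iff.mp
    (.isotypicComponent (env L) V (toE L M' hM'.inv)) _ h4
  let e' : M ≃ₗ[ZMod p] M' :=
    { toFun := fun v => ⟨(e ⟨v.1, v.2⟩).1, (e ⟨v.1, v.2⟩).2⟩
      invFun := fun v => ⟨(e.symm ⟨v.1, v.2⟩).1, (e.symm ⟨v.1, v.2⟩).2⟩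
      left_inv := by
        intro v
        apply Subtype.ext
        change (e.symm (e ⟨v.1, v.2⟩)).1 = v.1
        rw [e.symm_apply_apply]
      right_inv := by
        intro v
        apply Subtype.ext
        change (e (e.symm ⟨v.1, v.2⟩)).1 = v.1
        rw [e.apply_symm_apply]
      map_add' := by
        intro v w
        apply Subtype.ext
        exact congrArg Subtype.val (map_add e ⟨v.1, v.2⟩ ⟨w.1, w.2⟩)
      map_smul' := by
        intro c v
        apply Subtype.ext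
        exact congrArg Subtype.val
          (e.map_smul (⟨algebraMap (ZMod p) _ c, (env L).algebraMap_mem c⟩ : env L) ⟨v.1, v.2⟩) }
  refine ⟨e', ?_⟩
  intro n hn v w hw
  have h5 := e.map_smul
    (⟨(n : V →ₗ[ZMod p] V), Algebra.subset_adjoin ⟨n, hn, rfl⟩⟩ : env L) ⟨v.1, v.2⟩
  have h6 := congrArg Subtype.val h5
  refine Eq.trans ?_ h6
  change (e ⟨w.1, w.2⟩).1 = _
  congr 2
  exact Subtype.ext hw

/-- an element commuting with `L` commutes with the enveloping algebra -/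
theorem env_comm {c : V ≃ₗ[ZMod p] V} (hc : ∀ l ∈ L, c * l = l * c)
    (a : env L) (v : V) : c (a • v) = a • c v := by
  obtain ⟨a, ha⟩ := a
  change c (a v) = a (c v)
  revert v
  refine Algebra.adjoin_induction (p := fun a _ => ∀ v, c (a v) = a (c v)) ?_ ?_ ?_ ?_ ha
  · rintro _ ⟨n, hn, rfl⟩ v
    exact LinearEquiv.congr_fun (hc n hn) v
  · intro r v
    rw [Module.algebraMap_end_apply, Module.algebraMap_end_apply, map_smul]
  · intro x y _ _ hx hy v
    change c (x v + y v) = x (c v) + y (c v)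
    rw [map_add, hx, hy]
  · intro x y _ _ hx hy v
    change c (x (y v)) = x (y (c v))
    rw [hx, hy]

/-- **a central factor of an irreducible group is homogeneous** -/
theorem homog_of_central [Nontrivial V] (hirr : Irr E)
    (hfac : ∀ e ∈ E, ∃ l ∈ L, ∃ c : V ≃ₗ[ZMod p] V, (∀ x ∈ L, c * x = x * c) ∧ e = l * c) :
    Homog L := by
  refine homog_of_isotypic ?_
  intro M hM
  have hs : IsSimpleModule (env L) (toE L M hM.inv) := by
    rw [simple_iff, toV_toE]; exact hM
  set I := isotypicComponent (env L) V (toE L M hM.inv) with hIdef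
  rcases hirr (toV I) (by
    intro e he v hv
    obtain ⟨l, hl, c, hc, rfl⟩ := hfac e he
    let cl : V →ₗ[env L] V :=
      { toFun := c
        map_add' := map_add c
        map_smul' := fun a v => env_comm hc a v }
    have h1 : c v ∈ I := (LinearMap.le_comap_isotypicComponent (S := toE L M hM.inv) cl) hv
    exact toV_inv I l hl _ h1) with h | h
  · exfalso
    have h1 : (toE L M hM.inv) ≤ I := Submodule.le_isotypicComponent _
    apply hM.ne
    rw [eq_bot_iff]
    intro v hv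
    have h2 : v ∈ toV I := h1 hv
    rw [h] at h2
    exact h2
  · rw [eq_top_iff]
    intro v _
    have : v ∈ toV I := by rw [h]; trivial
    exact this

end Cfsg.Agent.H19.HT
end

-- part: H19/HT/Asm
section
prune_inst 0xe1306244446200000018050250201c66b6000522004b0000c940074606888e4120810e21b82003140200084500390048110800300008000000000e004100048100a04002b2080100200096808880000000000000000000000000000000000000200000002
set_option linter.all false
open scoped Cfsg.Agent.FastGrp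

/-!
# S3512: the reduction (half-transitive linear groups of order divisible by `p`)

Inputs `ExtP`: the quasisimple rows with `p ∣ |L|` (`RowP`) and with `p ∤ |L|` (`RowQ`), several components of
order prime to `p` (`CompsP`), no components (`E1P`).  `mainP`: the theorem.
-/

set_option autoImplicit false
set_option linter.style.haveILetI false
set_option linter.unusedSectionVars false
set_option linter.unusedVariables false

open scoped Classical commutatorElement
open Cfsg.Agent.H828.HT Cfsg.Agent.H960.HT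
open Cfsg.Agent.SignalizersComponents.Components

namespace Cfsg.Agent.H19.HT

universe u w

/-- transitive on the non-zero vectors -/
def Tra {p : ℕ} [Fact p.Prime] {V : Type u} [AddCommGroup V] [Module (ZMod p) V]
    (G : Subgroup (V ≃ₗ[ZMod p] V)) : Prop :=
  ∀ v w : V, v ≠ 0 → w ≠ 0 → ∃ g ∈ G, g v = w

/-- the exceptional case of S3512 -/
def Exc {p : ℕ} [Fact p.Prime] {V : Type u} [AddCommGroup V] [Module (ZMod p) V]
    (G : Subgroup (V ≃ₗ[ZMod p] V)) : Prop :=
  p = 3 ∧ Nat.card V = 81 ∧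
    (∃ S ≤ G, (∀ g ∈ G, ∀ s ∈ S, g * s * g⁻¹ ∈ S) ∧
      Nonempty (S ≃* Matrix.SpecialLinearGroup (Fin 2) (ZMod 5))) ∧
    (∃ v w : V, v ≠ 0 ∧ w ≠ 0 ∧ (¬ ∃ g ∈ G, g v = w) ∧
      ∀ u : V, u ≠ 0 → ∃ g ∈ G, g v = u ∨ g w = u) ∧
    ∀ v : V, v ≠ 0 → Nat.card {u : V | ∃ g ∈ G, g v = u} = 40

/-- the setting of the quasisimple rows, `p ∣ |G|` -/
structure QSP (p : ℕ) [Fact p.Prime] (K : Type w) [Field K] (V : Type u) [AddCommGroup V]
    [Module (ZMod p) V] [Module K V] (G L : Subgroup (V ≃ₗ[ZMod p] V)) (h : ℕ) : Prop where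
  half : Half G h
  two_le : 2 ≤ h
  dvd : p ∣ Nat.card G
  le : L ≤ G
  nrm : ∀ g ∈ G, ∀ l ∈ L, g * l * g⁻¹ ∈ L
  perf : commutator L = ⊤
  simple : IsSimpleGroup (L ⧸ Subgroup.center L)
  nonab : ∃ a ∈ L, ∃ b ∈ L, a * b ≠ b * a
  lin : ∀ l ∈ L, ∀ (c : K) (v : V), l (c • v) = c • l v
  endo : ∀ f : V →ₗ[ZMod p] V, (∀ l ∈ L, ∀ v, f (l v) = l (f v)) → ∃ c : K, ∀ v, f v = c • v
  irr : ∀ W : Submodule (ZMod p) V, (∀ l ∈ L, ∀ v ∈ W, l v ∈ W) → W = ⊥ ∨ W = ⊤

/-- quasisimple `L`, `p ∣ |L|` -/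
def RowP : Prop := ∀ (p : ℕ) [Fact p.Prime] (V : Type u) [AddCommGroup V] [Module (ZMod p) V]
  [Finite V] (K : Type u) [Field K] [Module K V] (G L : Subgroup (V ≃ₗ[ZMod p] V)) (h : ℕ),
  QSP p K V G L h → p ∣ Nat.card L → Tra G ∨ Exc G

/-- quasisimple `L`, `p ∤ |L|` -/
def RowQ : Prop := ∀ (p : ℕ) [Fact p.Prime] (V : Type u) [AddCommGroup V] [Module (ZMod p) V]
  [Finite V] (K : Type u) [Field K] [Module K V] (G L : Subgroup (V ≃ₗ[ZMod p] V)) (h : ℕ),
  QSP p K V G L h → ¬ p ∣ Nat.card L → False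

/-- several components of order prime to `p` -/
def CompsP : Prop := ∀ (p : ℕ) [Fact p.Prime] (V : Type u) [AddCommGroup V] [Module (ZMod p) V]
  [Finite V] (G : Subgroup (V ≃ₗ[ZMod p] V)) (h : ℕ), Half G h → 2 ≤ h → p ∣ Nat.card G →
  ∀ (k : ℕ), 2 ≤ k → ∀ (L : Fin k → Subgroup (V ≃ₗ[ZMod p] V)), Function.Injective L →
  (∀ i, L i ≤ G) → (∀ i, Cfsg.IsQuasisimple (L i)) → (∀ i, ¬ p ∣ Nat.card (L i)) →
  (∀ i j, i ≠ j → ∀ x ∈ L i, ∀ y ∈ L j, x * y = y * x) →
  (∀ g ∈ G, ∀ i, ∃ j, ∀ x ∈ L i, g * x * g⁻¹ ∈ L j) →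
  (∀ i j, ∃ g ∈ G, ∀ x ∈ L i, g * x * g⁻¹ ∈ L j) →
  Irr (⨆ i, L i : Subgroup (V ≃ₗ[ZMod p] V)) → False

/-- no components -/
def E1P : Prop := ∀ (p : ℕ) [Fact p.Prime] (V : Type u) [AddCommGroup V] [Module (ZMod p) V]
  [Finite V] (G : Subgroup (V ≃ₗ[ZMod p] V)) (h : ℕ), Half G h → 2 ≤ h → p ∣ Nat.card G →
  Irr G → AllHomog G → (∀ L : Subgroup G, ¬ Cfsg.IsComponent L) → Tra G ∨ Semi G

/-- The inputs of the assembly. -/
structure ExtP : Prop where
  rowP : RowP.{u}
  rowQ : RowQ.{u}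
  comps : CompsP.{u}
  e1 : E1P.{u}

variable {p : ℕ} [Fact p.Prime] {V : Type u} [AddCommGroup V] [Module (ZMod p) V] [Finite V]

/-- one-dimensional semilinear groups are soluble -/
theorem Semi.solvable {G : Subgroup (V ≃ₗ[ZMod p] V)} (hS : Semi G) : Group.IsSolvable G := by
  obtain ⟨F, i1, i2, e, he⟩ := hS
  choose a s hs using fun g : G => he g g.2
  have ha : ∀ g : G, a g ≠ 0 := by
    intro g h0
    have h1 := hs g (e.symm 1)
    rw [h0, zero_mul] at h1
    have h2 : (g : V ≃ₗ[ZMod p] V) (e.symm 1) = 0 := e.injective (by rw [h1, map_zero])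
    have h3 : e.symm (1 : F) = 0 := (map_eq_zero_iff _ (LinearEquiv.injective _)).1 h2
    have h4 : (1 : F) = 0 := e.symm.injective (by rw [h3, map_zero])
    exact one_ne_zero h4
  have huniq : ∀ (g : G) (b : F) (t : F ≃+* F), (∀ v, e ((g : V ≃ₗ[ZMod p] V) v) = b * t (e v)) →
      b = a g ∧ s g = t := by
    intro g b t h
    have h1 := (h (e.symm 1)).symm.trans (hs g (e.symm 1))
    rw [AddEquiv.apply_symm_apply, map_one, map_one, mul_one, mul_one] at h1
    refine ⟨h1, ?_⟩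
    apply RingEquiv.ext
    intro x
    have h2 := (h (e.symm x)).symm.trans (hs g (e.symm x))
    rw [AddEquiv.apply_symm_apply, h1] at h2
    exact (mul_left_cancel₀ (ha g) h2).symm
  let Φ : G →* RingAut F :=
    { toFun := s
      map_one' := (huniq 1 1 1 (fun v => by rw [one_mul]; rfl)).2
      map_mul' := fun g k => (huniq (g * k) (a g * s g (a k)) (s g * s k) (fun v => by
        change e ((g : V ≃ₗ[ZMod p] V) ((k : V ≃ₗ[ZMod p] V) v)) = _
        rw [hs g, hs k, map_mul, mul_assoc]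
        rfl)).2 }
  have hker : ∀ x ∈ Φ.ker, ∀ y ∈ Φ.ker, x * y = y * x := by
    intro x hx y hy
    have hx' : s x = 1 := hx
    have hy' : s y = 1 := hy
    apply Subtype.ext
    apply LinearEquiv.ext
    intro v
    apply e.injective
    change e ((x : V ≃ₗ[ZMod p] V) ((y : V ≃ₗ[ZMod p] V) v)) =
      e ((y : V ≃ₗ[ZMod p] V) ((x : V ≃ₗ[ZMod p] V) v))
    rw [hs x, hs y, hs y, hs x, hx', hy']
    change a x * (a y * e v) = a y * (a x * e v)
    ring
  have hc := isCyclic_ringAut' F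
  have h1 : Group.IsSolvable Φ.ker :=
    Group.isSolvable_of_comm (fun a b => Subtype.ext (hker a.1 a.2 b.1 b.2))
  have h2 : Group.IsSolvable Φ.range := by
    have hcr : IsCyclic Φ.range := inferInstance
    obtain ⟨z, hz⟩ := hcr
    refine Group.isSolvable_of_comm (fun a b => ?_)
    obtain ⟨i, hi⟩ := hz a
    obtain ⟨j, hj⟩ := hz b
    rw [← hi, ← hj]
    exact (Commute.zpow_zpow_self z i j).eq
  exact Group.isSolvable_of_ker_le_range Φ.ker.subtype Φ.rangeRestrict (by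
    rw [MonoidHom.ker_rangeRestrict, Subgroup.range_subtype])

section grp

variable {Γ : Type u} [Group Γ]

/-- the normal closure of a component is `L₀ C(L₀)`-like -/
theorem fac {L₀ : Subgroup Γ} (hL₀ : Cfsg.IsComponent L₀) [Finite Γ] :
    ∀ x ∈ Subgroup.normalClosure (L₀ : Set Γ), ∃ l ∈ L₀,
      ∃ c ∈ Subgroup.normalClosure (L₀ : Set Γ), (∀ y ∈ L₀, c * y = y * c) ∧ x = l * c := by
  let C : Subgroup Γ := Subgroup.centralizer (L₀ : Set Γ) ⊓ Subgroup.normalClosure (L₀ : Set Γ)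
  let f := MonoidHom.noncommCoprod L₀.subtype C.subtype (fun m n => by
    have h1 : n.1 ∈ Subgroup.centralizer (L₀ : Set Γ) := n.2.1
    exact Subgroup.mem_centralizer_iff.1 h1 m m.2)
  have hf : ∀ (l : L₀) (c : C), f (l, c) = l.1 * c.1 := fun l c => rfl
  have hle : Subgroup.normalClosure (L₀ : Set Γ) ≤ f.range := by
    rw [Subgroup.normalClosure, Subgroup.closure_le]
    intro x hx
    have hxN : x ∈ Subgroup.normalClosure (L₀ : Set Γ) := Subgroup.subset_closure hx
    obtain ⟨l, hl, hconj⟩ := Group.mem_conjugatesOfSet_iff.1 hx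
    obtain ⟨g, hg⟩ := isConj_iff.1 hconj
    by_cases he : L₀.map (MulAut.conj g).toMonoidHom = L₀
    · have h1 : x ∈ L₀ := by
        rw [← he, ← hg]
        exact ⟨l, hl, rfl⟩
      exact ⟨(⟨x, h1⟩, 1), by rw [hf]; exact mul_one x⟩
    · have h1 := component_commutator_eq_bot_of_ne (isComponent_conj g hL₀) hL₀ he
      have h2 : x ∈ L₀.map (MulAut.conj g).toMonoidHom := by
        rw [← hg]
        exact ⟨l, hl, rfl⟩
      have h3 : x ∈ C := by
        refine ⟨?_, hxN⟩
        change x ∈ Subgroup.centralizer (L₀ : Set Γ)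
        rw [Subgroup.mem_centralizer_iff]
        intro y hy
        have h4 : ⁅x, y⁆ ∈ ⁅L₀.map (MulAut.conj g).toMonoidHom, L₀⁆ :=
          Subgroup.commutator_mem_commutator h2 hy
        rw [h1, Subgroup.mem_bot, commutatorElement_eq_one_iff_mul_comm] at h4
        exact h4.symm
      exact ⟨(1, ⟨x, h3⟩), by rw [hf]; exact one_mul x⟩
  intro x hx
  obtain ⟨⟨l, c⟩, hlc⟩ := hle hx
  refine ⟨l, l.2, c, c.2.2, ?_, ?_⟩
  · intro y hy
    have h1 : c.1 ∈ Subgroup.centralizer (L₀ : Set Γ) := c.2.1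
    exact (Subgroup.mem_centralizer_iff.1 h1 y hy).symm
  · rw [← hlc, hf]

end grp

/-- normal subgroups are homogeneous unless `G` is semilinear -/
theorem allHomog_or {G : Subgroup (V ≃ₗ[ZMod p] V)} {h : ℕ} (hh : Half G h)
    (hp : p ∣ Nat.card G) [Nontrivial V] : AllHomog G ∨ Semi G := by
  by_cases hs : ∃ B, Sys G B
  · obtain ⟨B, hB⟩ := hs
    exact Or.inr (imp_semi hh hp hB)
  · left
    intro N hN hnorm
    rcases clifford (fun W hW => irred hh hp W hW) hnorm with h1 | h1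
    · exact h1
    · exact absurd h1 hs

theorem nontrivial_of_dvd {G : Subgroup (V ≃ₗ[ZMod p] V)} (hp : p ∣ Nat.card G) :
    Nontrivial V := by
  by_contra hn
  rw [not_nontrivial_iff_subsingleton] at hn
  have : Subsingleton G := ⟨fun a b => Subtype.ext (LinearEquiv.ext fun v => Subsingleton.elim _ _)⟩
  rw [Nat.card_eq_one_iff_unique.2 ⟨this, ⟨1⟩⟩] at hp
  exact (Fact.out : p.Prime).one_lt.ne' (Nat.dvd_one.1 hp)

theorem two_le_h {G : Subgroup (V ≃ₗ[ZMod p] V)} {h : ℕ} (hh : Half G h)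
    (hp : p ∣ Nat.card G) : 2 ≤ h := by
  haveI := nontrivial_of_dvd hp
  obtain ⟨v, hv⟩ := exists_ne (0 : V)
  exact (Fact.out : p.Prime).two_le.trans (Nat.le_of_dvd (h_pos hh hv) (p_dvd_h hh hp))

/-- the centraliser of a non-commutative normal subgroup has order prime to `p` -/
theorem cent_cop {G E : Subgroup (V ≃ₗ[ZMod p] V)} {h : ℕ} (hh : Half G h)
    (hp : p ∣ Nat.card G) (hhom : AllHomog G)
    (hEnorm : ∀ g ∈ G, ∀ s ∈ E, g * s * g⁻¹ ∈ E) (hEn : ∃ a ∈ E, ∃ b ∈ E, a * b ≠ b * a) :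
    ¬ p ∣ Nat.card (G ⊓ Subgroup.centralizer (E : Set (V ≃ₗ[ZMod p] V)) :
      Subgroup (V ≃ₗ[ZMod p] V)) := by
  haveI := nontrivial_of_dvd hp
  set C : Subgroup (V ≃ₗ[ZMod p] V) := G ⊓ Subgroup.centralizer (E : Set (V ≃ₗ[ZMod p] V)) with hC
  have hCG : C ≤ G := inf_le_left
  have hCc : ∀ c ∈ C, ∀ x ∈ E, c * x = x * c := by
    intro c hc x hx
    exact ((Subgroup.mem_centralizer_iff.1 hc.2) x hx).symm
  have hCn : ∀ g ∈ G, ∀ c ∈ C, g * c * g⁻¹ ∈ C := by
    intro g hg c hc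
    refine ⟨G.mul_mem (G.mul_mem hg hc.1) (G.inv_mem hg), ?_⟩
    change g * c * g⁻¹ ∈ Subgroup.centralizer (E : Set (V ≃ₗ[ZMod p] V))
    rw [Subgroup.mem_centralizer_iff]
    intro x hx
    have h1 := hEnorm g⁻¹ (G.inv_mem hg) x hx
    have h2 := hCc c hc _ h1
    calc x * (g * c * g⁻¹) = g * ((g⁻¹ * x * g⁻¹⁻¹) * c) * g⁻¹ := by group
      _ = g * (c * (g⁻¹ * x * g⁻¹⁻¹)) * g⁻¹ := by rw [h2]
      _ = (g * c * g⁻¹) * x := by group
  intro hd
  have hirr : Irr G := fun W hW => irred hh hp W hW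
  have h1 : Irr C := irr_of_homog hirr hCn (hhom C hCG hCn) (pex_of_normal hh hCG hCn) hd
  obtain ⟨a, ha, b, hb, hab⟩ := hEn
  exact hab (cent_comm h1 (fun l hl => (hCc l hl a ha).symm) (fun l hl => (hCc l hl b hb).symm))

/-- the setting of the quasisimple rows -/
theorem exists_QSP [Nontrivial V] {G E : Subgroup (V ≃ₗ[ZMod p] V)} {h : ℕ} (hh : Half G h)
    (h2 : 2 ≤ h) (hG : p ∣ Nat.card G) (hEG : E ≤ G)
    (hEnorm : ∀ g ∈ G, ∀ s ∈ E, g * s * g⁻¹ ∈ E)
    (hEq : Cfsg.IsQuasisimple E) (hEirr : Irr E) :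
    ∃ (K : Type u) (_ : Field K) (_ : Module K V), QSP p K V G E h := by
  refine ⟨Module.End (env E) V, endField hEirr, endModule hEirr, ?_⟩
  refine @QSP.mk p _ (Module.End (env E) V) (endField hEirr) V _ _ (endModule hEirr) G E h hh h2
    hG hEG hEnorm hEq.1.commutator_eq_top hEq.2 ?_ ?_ ?_ hEirr
  · by_contra hc
    push Not at hc
    apply quasisimple_not_isSolvable hEq
    exact Group.isSolvable_of_comm (fun a b => Subtype.ext (hc a.1 a.2 b.1 b.2))
  · intro l hl c v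
    exact (c.map_smul (⟨(l : V →ₗ[ZMod p] V), Algebra.subset_adjoin ⟨l, hl, rfl⟩⟩ : env E) v).symm
  · intro f hf
    exact ⟨endOf f hf, fun v => rfl⟩

/-- **No components of order prime to `p`.** -/
theorem pprime (X : ExtP.{u}) : ∀ (n : ℕ) (p : ℕ) [Fact p.Prime] (V : Type u) [AddCommGroup V]
    [Module (ZMod p) V] [Finite V], Nat.card V = n → ∀ (G : Subgroup (V ≃ₗ[ZMod p] V)) (h : ℕ),
    Half G h → p ∣ Nat.card G → ∀ L₀ : Subgroup G, Cfsg.IsComponent L₀ → p ∣ Nat.card L₀ := by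
  intro n
  induction n using Nat.strong_induction_on with
  | _ n ih =>
  intro p _ V _ _ _ hV G h hh hG L₀ hL₀
  by_contra hL₀p'
  haveI hnt := nontrivial_of_dvd hG
  have h2 := two_le_h hh hG
  have hirr : Irr G := fun W hW => irred hh hG W hW
  have hns : ¬ Group.IsSolvable G := by
    intro hs
    apply quasisimple_not_isSolvable hL₀.2
    infer_instance
  have hhom : AllHomog G := (allHomog_or hh hG).resolve_right (fun h => hns h.solvable)
  have hL₀n : L₀ ≠ ⊥ := by
    have := quasisimple_nontrivial hL₀.2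
    exact (Subgroup.nontrivial_iff_ne_bot L₀).1 this
  set E₀ : Subgroup G := Subgroup.normalClosure (L₀ : Set G) with hE₀
  have hE₀n : E₀.Normal := Subgroup.normalClosure_normal
  have hLE : L₀ ≤ E₀ := Subgroup.le_normalClosure
  set E : Subgroup (V ≃ₗ[ZMod p] V) := E₀.map G.subtype with hE
  have hEG : E ≤ G := Subgroup.map_subtype_le E₀
  have hEnorm : ∀ g ∈ G, ∀ s ∈ E, g * s * g⁻¹ ∈ E := by
    rintro g hg _ ⟨s, hs, rfl⟩
    refine ⟨(⟨g, hg⟩ : G) * s * (⟨g, hg⟩ : G)⁻¹, ?_, rfl⟩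
    exact hE₀n.conj_mem s hs ⟨g, hg⟩
  set L₁ : Subgroup (V ≃ₗ[ZMod p] V) := L₀.map G.subtype with hL₁
  have hL₁E : L₁ ≤ E := Subgroup.map_mono hLE
  have hEnc : ∃ a ∈ E, ∃ b ∈ E, a * b ≠ b * a := by
    by_contra hc
    push Not at hc
    apply quasisimple_not_isSolvable hL₀.2
    refine Group.isSolvable_of_comm (fun a b => ?_)
    have h1 := hc _ (hL₁E ⟨a.1, a.2, rfl⟩) _ (hL₁E ⟨b.1, b.2, rfl⟩)
    exact Subtype.ext (Subtype.ext h1)
  have hEhom : Homog E := hhom E hEG hEnorm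
  have hEfaith : ∀ M : Submodule (ZMod p) V, NIrr E M → ∀ n ∈ E, (∀ v ∈ M, n v = v) → n = 1 :=
    fun M hM n hn h => hEhom.faithful hirr hEnorm hM hn h
  by_cases hEirr : Irr E
  · by_cases hLn : L₀.Normal
    · -- one component
      have hEL : E₀ = L₀ := Subgroup.normalClosure_eq_self L₀
      have hEL' : E = L₀.map G.subtype := by rw [hE, hEL]
      have hEq : Cfsg.IsQuasisimple E := by
        rw [hEL']
        exact isQuasisimple_of_mulEquiv (L₀.equivMapOfInjective G.subtype G.subtype_injective) hL₀.2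
      obtain ⟨K, hK1, hK2, hQS⟩ := exists_QSP hh h2 hG hEG hEnorm hEq hEirr
      refine X.rowQ p V K G E h hQS ?_
      intro hd
      apply hL₀p'
      rw [hEL', ← Nat.card_congr (L₀.equivMapOfInjective G.subtype G.subtype_injective).toEquiv] at hd
      exact hd
    · -- several components
      let C : Set (Subgroup G) := {K | ∃ g : G, K = L₀.map (MulAut.conj g).toMonoidHom}
      have hCfin : Finite C := inferInstance
      let e : Fin (Nat.card C) ≃ C := (Finite.equivFin C).symm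
      have hCcomp : ∀ K : C, Cfsg.IsComponent K.1 := by
        rintro ⟨_, g, rfl⟩
        exact isComponent_conj g hL₀
      have hL₀C : L₀ ∈ C := by
        refine ⟨1, ?_⟩
        rw [map_one]
        exact (Subgroup.map_id L₀).symm
      have hconjC : ∀ (g : G) (K : C), K.1.map (MulAut.conj g).toMonoidHom ∈ C := by
        rintro g ⟨_, k, rfl⟩
        refine ⟨g * k, ?_⟩
        rw [Subgroup.map_map]
        congr 1
      have hk : 2 ≤ Nat.card C := by
        have : ∃ g : G, L₀.map (MulAut.conj g).toMonoidHom ≠ L₀ := by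
          by_contra hc
          push Not at hc
          apply hLn
          constructor
          intro l hl g
          have : MulAut.conj g l ∈ L₀.map (MulAut.conj g).toMonoidHom := ⟨l, hl, rfl⟩
          rw [hc g] at this
          exact this
        obtain ⟨g, hg⟩ := this
        have : Nontrivial C := ⟨⟨⟨_, g, rfl⟩, ⟨L₀, hL₀C⟩, fun h => hg (congrArg Subtype.val h)⟩⟩
        exact Finite.one_lt_card
      refine X.comps p V G h hh h2 hG (Nat.card C) hk (fun i => (e i).1.map G.subtype)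
        ?_ ?_ ?_ ?_ ?_ ?_ ?_ ?_
      · intro i j hij
        have := Subgroup.map_injective G.subtype_injective hij
        exact e.injective (Subtype.ext this)
      · intro i
        exact Subgroup.map_subtype_le _
      · intro i
        exact isQuasisimple_of_mulEquiv ((e i).1.equivMapOfInjective G.subtype G.subtype_injective)
          (hCcomp (e i)).2
      · intro i hd
        apply hL₀p'
        obtain ⟨g, hg⟩ := (e i).2
        rw [← Nat.card_congr ((e i).1.equivMapOfInjective G.subtype G.subtype_injective).toEquiv, hg,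
          ← Nat.card_congr (L₀.equivMapOfInjective _ (MulAut.conj g).injective).toEquiv] at hd
        exact hd
      · rintro i j hij _ ⟨x, hx, rfl⟩ _ ⟨y, hy, rfl⟩
        have hne : (e i).1 ≠ (e j).1 := fun h => hij (e.injective (Subtype.ext h))
        have h1 := component_commutator_eq_bot_of_ne (hCcomp (e i)) (hCcomp (e j)) hne
        have h3 : ⁅x, y⁆ ∈ ⁅(e i).1, (e j).1⁆ := Subgroup.commutator_mem_commutator hx hy
        rw [h1, Subgroup.mem_bot, commutatorElement_eq_one_iff_mul_comm] at h3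
        exact congrArg Subtype.val h3
      · intro g hg i
        obtain ⟨j, hj⟩ := e.surjective ⟨_, hconjC ⟨g, hg⟩ (e i)⟩
        refine ⟨j, ?_⟩
        rintro _ ⟨x, hx, rfl⟩
        refine ⟨⟨g, hg⟩ * x * ⟨g, hg⟩⁻¹, ?_, rfl⟩
        have : (e j).1 = (e i).1.map (MulAut.conj (⟨g, hg⟩ : G)).toMonoidHom := congrArg Subtype.val hj
        rw [SetLike.mem_coe, this]
        exact ⟨x, hx, rfl⟩
      · intro i j
        obtain ⟨a, ha⟩ := (e i).2
        obtain ⟨b, hb⟩ := (e j).2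
        refine ⟨(b * a⁻¹ : G).1, (b * a⁻¹ : G).2, ?_⟩
        rintro _ ⟨x, hx, rfl⟩
        refine ⟨(b * a⁻¹) * x * (b * a⁻¹)⁻¹, ?_, rfl⟩
        rw [SetLike.mem_coe, ha] at hx
        obtain ⟨l, hl, rfl⟩ := hx
        rw [SetLike.mem_coe, hb]
        refine ⟨l, hl, ?_⟩
        change b * l * b⁻¹ = (b * a⁻¹) * (a * l * a⁻¹) * (b * a⁻¹)⁻¹
        group
      · intro W hW
        refine hEirr W ?_
        have hle : E ≤ ⨆ i, (e i).1.map G.subtype := by
          rw [hE, Subgroup.map_le_iff_le_comap, hE₀, Subgroup.normalClosure, Subgroup.closure_le]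
          intro x hx
          obtain ⟨l, hl, hconj⟩ := Group.mem_conjugatesOfSet_iff.1 hx
          obtain ⟨g, hg⟩ := isConj_iff.1 hconj
          obtain ⟨j, hj⟩ := e.surjective ⟨L₀.map (MulAut.conj g).toMonoidHom, g, rfl⟩
          have h1 : (e j).1 = L₀.map (MulAut.conj g).toMonoidHom := congrArg Subtype.val hj
          have h3 : G.subtype x ∈ (e j).1.map G.subtype := by
            refine ⟨x, ?_, rfl⟩
            rw [SetLike.mem_coe, h1]
            exact ⟨l, hl, hg⟩
          exact (le_iSup (fun i => (e i).1.map G.subtype) j) h3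
        exact fun g hg v hv => hW g (hle hg) v hv
  · -- reducible
    have hex : ∃ W : Submodule (ZMod p) V, (∀ g ∈ E, ∀ v ∈ W, g v ∈ W) ∧ W ≠ ⊥ ∧ W ≠ ⊤ := by
      by_contra hc
      push Not at hc
      apply hEirr
      intro W hW
      by_cases hb : W = ⊥
      · exact Or.inl hb
      · exact Or.inr (hc W hW hb)
    obtain ⟨W, hW, hWb, hWt⟩ := hex
    obtain ⟨M, hMW, hM⟩ := exists_nirr E hWb hW
    have hMt : M ≠ ⊤ := fun h => hWt (top_le_iff.1 (h ▸ hMW))
    have hst := stab_of_irred (G := G) E hEnorm hM.inv hM.irr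
    obtain ⟨h', hh'1, hh'2⟩ := half_rs hh hst hM.ne
    -- the kernel has order prime to `p`
    have hker : ¬ p ∣ Nat.card (res G M).ker := by
      have hC := cent_cop hh hG hhom hEnorm hEnc
      intro hd
      apply hC
      have h1 : Nat.card ((res G M).ker.map (stb G M).subtype) = Nat.card (res G M).ker :=
        (Nat.card_congr ((res G M).ker.equivMapOfInjective _ (stb G M).subtype_injective).toEquiv).symm
      rw [← h1] at hd
      refine hd.trans (Subgroup.card_dvd_of_le ?_)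
      rintro _ ⟨k, hk, rfl⟩
      have hkM : ∀ v ∈ M, (k : V ≃ₗ[ZMod p] V) v = v := by
        intro v hv
        have h3 := congrArg (fun e : M ≃ₗ[ZMod p] M => (e ⟨v, hv⟩ : V)) (MonoidHom.mem_ker.1 hk)
        exact h3
      refine ⟨k.2.1, ?_⟩
      change (k : V ≃ₗ[ZMod p] V) ∈ Subgroup.centralizer (E : Set (V ≃ₗ[ZMod p] V))
      rw [Subgroup.mem_centralizer_iff]
      intro x hx
      -- `[k, x]` acts trivially on `M`
      have h3 : (k : V ≃ₗ[ZMod p] V) * x * (k : V ≃ₗ[ZMod p] V)⁻¹ * x⁻¹ = 1 := by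
        refine hEfaith M hM _ (E.mul_mem (hEnorm _ k.2.1 x hx) (E.inv_mem hx)) ?_
        intro v hv
        have hxv : x⁻¹ v ∈ M := hM.inv _ (E.inv_mem hx) v hv
        have hkinv : ∀ w ∈ M, (k : V ≃ₗ[ZMod p] V)⁻¹ w = w := by
          intro w hw
          conv_lhs => rw [← hkM w hw]
          change ((k : V ≃ₗ[ZMod p] V)⁻¹ * (k : V ≃ₗ[ZMod p] V)) w = w
          rw [inv_mul_cancel]; rfl
        change (k : V ≃ₗ[ZMod p] V) (x ((k : V ≃ₗ[ZMod p] V)⁻¹ (x⁻¹ v))) = v
        rw [hkinv _ hxv]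
        have : x (x⁻¹ v) = v := by
          change (x * x⁻¹) v = v
          rw [mul_inv_cancel]; rfl
        rw [this, hkM v hv]
      have h4 : (k : V ≃ₗ[ZMod p] V) * x = x * (k : V ≃ₗ[ZMod p] V) := by
        rw [mul_inv_eq_one] at h3
        exact mul_inv_eq_iff_eq_mul.1 h3
      exact h4.symm
    have hph' : p ∣ h' := by
      have h1 := p_dvd_h hh hG
      rw [← hh'1] at h1
      exact ((Fact.out : p.Prime).dvd_mul.1 h1).resolve_left hker
    haveI hMnt : Nontrivial M := Submodule.nontrivial_iff_ne_bot.2 hM.ne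
    obtain ⟨v₀, hv₀⟩ := exists_ne (0 : M)
    have hPp : p ∣ Nat.card (rs G M) := hph'.trans (h_dvd hh'2 hv₀)
    have hcardM : Nat.card M < n := by
      rw [← hV, card_eq_pow (p := p), card_eq_pow (p := p) V]
      exact Nat.pow_lt_pow_right (Fact.out : p.Prime).one_lt (Submodule.finrank_lt hMt)
    -- the image of `L₀`
    have hEst : E ≤ stb G M := by
      intro x hx
      refine ⟨hEG hx, fun v => ⟨fun hv => hM.inv x hx v hv, fun hv => ?_⟩⟩
      have := hM.inv x⁻¹ (E.inv_mem hx) _ hv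
      have e : x⁻¹ (x v) = v := by
        change (x⁻¹ * x) v = v
        rw [inv_mul_cancel]; rfl
      rwa [e] at this
    have hL₁T : L₁ ≤ stb G M := hL₁E.trans hEst
    let f : stb G M →* rs G M := (res G M).rangeRestrict
    have hfs : Function.Surjective f := (res G M).rangeRestrict_surjective
    let LT : Subgroup (stb G M) := L₁.subgroupOf (stb G M)
    have hLTc : Cfsg.IsComponent LT := by
      refine ⟨?_, ?_⟩
      · have h1 : LT = L₀.comap (Subgroup.inclusion (stb_le M) : stb G M →* G) := by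
          ext x
          constructor
          · intro hx
            obtain ⟨y, hy, hxy⟩ := (Subgroup.mem_subgroupOf.1 hx)
            have : Subgroup.inclusion (stb_le M) x = y := Subtype.ext hxy.symm
            rw [Subgroup.mem_comap, this]
            exact hy
          · intro hx
            exact Subgroup.mem_subgroupOf.2 ⟨_, hx, rfl⟩
        rw [h1]
        exact hL₀.1.comap _
      · exact isQuasisimple_of_mulEquiv ((L₀.equivMapOfInjective G.subtype G.subtype_injective).trans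
          (Subgroup.subgroupOfEquivOfLe hL₁T).symm) hL₀.2
    have hLTcard : Nat.card LT = Nat.card L₀ := by
      rw [Nat.card_congr (Subgroup.subgroupOfEquivOfLe hL₁T).toEquiv,
        ← Nat.card_congr (L₀.equivMapOfInjective G.subtype G.subtype_injective).toEquiv]
    have hinj : ∀ x ∈ LT, f x = 1 → x = 1 := by
      intro x hx hfx
      have hx' : (x : V ≃ₗ[ZMod p] V) ∈ E := hL₁E (Subgroup.mem_subgroupOf.1 hx)
      apply Subtype.ext
      refine hEfaith M hM _ hx' ?_
      intro v hv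
      have h3 := congrArg (fun e : rs G M => ((e : M ≃ₗ[ZMod p] M) ⟨v, hv⟩ : V)) hfx
      exact h3
    have hinj2 : Function.Injective (f.subgroupMap LT) := by
      rw [injective_iff_map_eq_one]
      rintro ⟨x, hx⟩ h1
      exact Subtype.ext (hinj x hx (congrArg Subtype.val h1))
    have hcard2 : Nat.card (LT.map f) = Nat.card L₀ := by
      rw [← hLTcard]
      exact (Nat.card_congr (Equiv.ofBijective _ ⟨hinj2, f.subgroupMap_surjective LT⟩)).symm
    have hne : LT.map f ≠ ⊥ := by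
      intro hb
      rw [hb, Subgroup.card_bot] at hcard2
      exact hL₀n (Subgroup.card_eq_one.1 hcard2.symm)
    have hcomp := Cfsg.Agent.H65.CN.isComponent_map f hfs hLTc hne
    have h5 := ih (Nat.card M) hcardM p M rfl (rs G M) h' hh'2 hPp (LT.map f) hcomp
    rw [hcard2] at h5
    exact hL₀p' h5

/-- **The theorem for linear groups.** -/
theorem mainP (X : ExtP.{u}) {G : Subgroup (V ≃ₗ[ZMod p] V)} {h : ℕ} (hh : Half G h)
    (hG : p ∣ Nat.card G) : Tra G ∨ Semi G ∨ Exc G := by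
  haveI hnt := nontrivial_of_dvd hG
  have h2 := two_le_h hh hG
  have hirr : Irr G := fun W hW => irred hh hG W hW
  rcases allHomog_or hh hG with hhom | hs
  swap
  · exact Or.inr (Or.inl hs)
  by_cases hcomp : ∃ L : Subgroup G, Cfsg.IsComponent L
  swap
  · push Not at hcomp
    rcases X.e1 p V G h hh h2 hG hirr hhom hcomp with h1 | h1
    · exact Or.inl h1
    · exact Or.inr (Or.inl h1)
  obtain ⟨L₀, hL₀⟩ := hcomp
  have hp0 : p ∣ Nat.card L₀ := pprime X (Nat.card V) p V rfl G h hh hG L₀ hL₀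
  set E₀ : Subgroup G := Subgroup.normalClosure (L₀ : Set G) with hE₀
  have hE₀n : E₀.Normal := Subgroup.normalClosure_normal
  have hLE : L₀ ≤ E₀ := Subgroup.le_normalClosure
  set E : Subgroup (V ≃ₗ[ZMod p] V) := E₀.map G.subtype with hE
  have hEG : E ≤ G := Subgroup.map_subtype_le E₀
  have hEnorm : ∀ g ∈ G, ∀ s ∈ E, g * s * g⁻¹ ∈ E := by
    rintro g hg _ ⟨s, hs, rfl⟩
    refine ⟨(⟨g, hg⟩ : G) * s * (⟨g, hg⟩ : G)⁻¹, ?_, rfl⟩
    exact hE₀n.conj_mem s hs ⟨g, hg⟩
  set L₁ : Subgroup (V ≃ₗ[ZMod p] V) := L₀.map G.subtype with hL₁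
  have hL₁E : L₁ ≤ E := Subgroup.map_mono hLE
  have hpL₁ : p ∣ Nat.card L₁ := by
    rw [hL₁, ← Nat.card_congr (L₀.equivMapOfInjective G.subtype G.subtype_injective).toEquiv]
    exact hp0
  have hpE : p ∣ Nat.card E := hpL₁.trans (Subgroup.card_dvd_of_le hL₁E)
  have hEirr : Irr E := irr_of_homog hirr hEnorm (hhom E hEG hEnorm) (pex_of_normal hh hEG hEnorm) hpE
  -- `E = L₁ C_E(L₁)`
  have hfac : ∀ e ∈ E, ∃ l ∈ L₁, ∃ c : V ≃ₗ[ZMod p] V, (∀ x ∈ L₁, c * x = x * c) ∧ e = l * c := by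
    rintro _ ⟨e, he, rfl⟩
    obtain ⟨l, hl, c, -, hc, rfl⟩ := fac hL₀ e he
    refine ⟨l, ⟨l, hl, rfl⟩, c, ?_, rfl⟩
    rintro _ ⟨x, hx, rfl⟩
    exact congrArg Subtype.val (hc x hx)
  have hL₁n : ∀ g ∈ E, ∀ n ∈ L₁, g * n * g⁻¹ ∈ L₁ := by
    intro g hg n hn
    obtain ⟨l, hl, c, hc, rfl⟩ := hfac g hg
    have e1 : l * c * n * (l * c)⁻¹ = l * n * l⁻¹ := by
      rw [mul_inv_rev]
      calc l * c * n * (c⁻¹ * l⁻¹) = l * (c * n) * (c⁻¹ * l⁻¹) := by group
        _ = l * (n * c) * (c⁻¹ * l⁻¹) := by rw [hc n hn]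
        _ = l * n * l⁻¹ := by group
    rw [e1]
    exact L₁.mul_mem (L₁.mul_mem hl hn) (L₁.inv_mem hl)
  have hL₁hom : Homog L₁ := homog_of_central hEirr hfac
  have hL₁P : PEx L₁ := (pex_of_normal hh hEG hEnorm).sub hL₁E hL₁n
  have hL₁irr : Irr L₁ := irr_of_homog hEirr hL₁n hL₁hom hL₁P hpL₁
  -- `L₀` is normal
  have hLn : L₀.Normal := by
    constructor
    by_contra hc
    push Not at hc
    obtain ⟨l, hl, g, hg⟩ := hc
    have hne : L₀.map (MulAut.conj g).toMonoidHom ≠ L₀ := by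
      intro he
      apply hg
      rw [← he]
      exact ⟨l, hl, rfl⟩
    have h1 := component_commutator_eq_bot_of_ne (isComponent_conj g hL₀) hL₀ hne
    apply quasisimple_not_isSolvable (isComponent_conj g hL₀).2
    refine Group.isSolvable_of_comm (fun a b => ?_)
    have hcomm : ∀ a ∈ L₀.map (MulAut.conj g).toMonoidHom, ∀ l ∈ L₁,
        (a : V ≃ₗ[ZMod p] V) * l = l * a := by
      rintro a ha _ ⟨y, hy, rfl⟩
      have h3 : ⁅a, y⁆ ∈ ⁅L₀.map (MulAut.conj g).toMonoidHom, L₀⁆ :=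
        Subgroup.commutator_mem_commutator ha hy
      rw [h1, Subgroup.mem_bot, commutatorElement_eq_one_iff_mul_comm] at h3
      exact congrArg Subtype.val h3
    have h3 := cent_comm hL₁irr (hcomm a.1 a.2) (hcomm b.1 b.2)
    exact Subtype.ext (Subtype.ext h3)
  have hEL : E₀ = L₀ := Subgroup.normalClosure_eq_self L₀
  have hEL' : E = L₁ := by rw [hE, hEL]
  have hEq : Cfsg.IsQuasisimple E := by
    rw [hEL']
    exact isQuasisimple_of_mulEquiv (L₀.equivMapOfInjective G.subtype G.subtype_injective) hL₀.2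
  obtain ⟨K, hK1, hK2, hQS⟩ := exists_QSP hh h2 hG hEG hEnorm hEq hEirr
  rcases X.rowP p V K G E h hQS hpE with h1 | h1
  · exact Or.inl h1
  · exact Or.inr (Or.inr h1)

/-- **S3512 from the inputs.** -/
theorem final (X : ExtP.{u}) (p : ℕ) [Fact p.Prime] {V : Type u} [AddCommGroup V]
    [Module (ZMod p) V] [Finite V] [Nontrivial V] {G : Type w} [Group G] [Finite G]
    (ρ : G →* (V ≃ₗ[ZMod p] V)) (hρ : Function.Injective ρ) (hdiv : p ∣ Nat.card G)
    (hhalf : ∀ v w : V, v ≠ 0 → w ≠ 0 →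
      Nat.card {u : V | ∃ g : G, ρ g v = u} = Nat.card {u : V | ∃ g : G, ρ g w = u}) :
    (∀ v w : V, v ≠ 0 → w ≠ 0 → ∃ g : G, ρ g v = w) ∨
    (∃ (F : Type) (_ : Field F) (_ : Fintype F) (e : V ≃+ F), ∀ g : G, ∃ (a : F) (φ : F ≃+* F),
      ∀ v : V, e (ρ g v) = a * φ (e v)) ∨
    (p = 3 ∧ Nat.card V = 81 ∧
      (∃ (F : Type) (_ : Field F) (_ : Fintype F), Fintype.card F = 5 ∧ ∃ S : Subgroup G,
        S.Normal ∧ Nonempty (S ≃* Matrix.SpecialLinearGroup (Fin 2) F)) ∧
      (∃ v w : V, v ≠ 0 ∧ w ≠ 0 ∧ (¬ ∃ g : G, ρ g v = w) ∧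
        ∀ u : V, u ≠ 0 → ∃ g : G, ρ g v = u ∨ ρ g w = u) ∧
      ∀ v : V, v ≠ 0 → Nat.card {u : V | ∃ g : G, ρ g v = u} = 40) := by
  obtain ⟨h, h1, hh⟩ := exists_half ρ hhalf
  have e : G ≃* ρ.range := MonoidHom.ofInjective hρ
  have hcard : Nat.card ρ.range = Nat.card G := (Nat.card_congr e.toEquiv).symm
  have hG : p ∣ Nat.card ρ.range := by rw [hcard]; exact hdiv
  rcases mainP X hh hG with ht | ⟨F, i1, i2, e1, he1⟩ | ⟨h3, h81, ⟨S, hSG, hSn, ⟨eS⟩⟩, ⟨v, w, hv, hw, hvw, hu⟩, h40⟩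
  · left
    intro v w hv hw
    obtain ⟨_, ⟨g, rfl⟩, hg⟩ := ht v w hv hw
    exact ⟨g, hg⟩
  · right; left
    exact ⟨F, i1, i2, e1, fun g => he1 (ρ g) ⟨g, rfl⟩⟩
  · right; right
    refine ⟨h3, h81, ?_, ?_, ?_⟩
    · haveI : Fact (Nat.Prime 5) := ⟨by norm_num⟩
      refine ⟨ZMod 5, inferInstance, inferInstance, ZMod.card 5, S.comap ρ, ?_, ?_⟩
      · constructor
        intro n hn g
        change ρ (g * n * g⁻¹) ∈ S
        rw [map_mul, map_mul, map_inv]
        exact hSn (ρ g) ⟨g, rfl⟩ (ρ n) hn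
      · have h3 : (S.comap ρ).map ρ = S := Subgroup.map_comap_eq_self hSG
        have e1 := (S.comap ρ).equivMapOfInjective ρ hρ
        rw [h3] at e1
        exact ⟨e1.trans eS⟩
    · refine ⟨v, w, hv, hw, ?_, ?_⟩
      · rintro ⟨g, hg⟩
        exact hvw ⟨ρ g, ⟨g, rfl⟩, hg⟩
      · intro u hu0
        obtain ⟨_, ⟨g, rfl⟩, hg⟩ := hu u hu0
        exact ⟨g, hg⟩
    · intro v hv
      rw [← h40 v hv]
      congr 1
      have : {u : V | ∃ g : G, ρ g v = u} = {u : V | ∃ g ∈ ρ.range, g v = u} := by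
        ext u
        constructor
        · rintro ⟨g, hg⟩
          exact ⟨ρ g, ⟨g, rfl⟩, hg⟩
        · rintro ⟨_, ⟨g, rfl⟩, hg⟩
          exact ⟨g, hg⟩
      rw [this]

end Cfsg.Agent.H19.HT
end

-- part: H19/HT/Cnt
section
prune_inst 0x2
set_option linter.all false
open scoped Cfsg.Agent.FastGrp

/-!
# Counting vectors by the fixed spaces of the elements of order `p` (S3512, E1P; helper19)
-/

set_option autoImplicit false
set_option linter.style.haveILetI false
set_option linter.unusedSectionVars false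
set_option linter.unusedVariables false

open scoped Classical
open Cfsg.Agent.H828.HT Cfsg.Agent.H960.HT

namespace Cfsg.Agent.H19.HT

universe u

variable {p : ℕ} [Fact p.Prime] {V : Type u} [AddCommGroup V] [Module (ZMod p) V] [Finite V]
  {G N A : Subgroup (V ≃ₗ[ZMod p] V)} {h : ℕ}

/-- every non-zero vector is fixed by an element of order `p` of `N` -/
theorem PEx.exists_fix (hP : PEx N) (hp : p ∣ Nat.card N) {v : V} (hv : v ≠ 0) :
    ∃ y ∈ N, orderOf y = p ∧ y v = v := by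
  have h1 := Nat.card_congr (MulAction.orbitProdStabilizerEquivGroup N v)
  rw [Nat.card_prod] at h1
  have h2 : p ∣ Nat.card (MulAction.stabilizer N v) := by
    rw [← h1] at hp
    exact ((Fact.out : p.Prime).dvd_mul.1 hp).resolve_left (hP v hv)
  obtain ⟨y, hy⟩ := exists_prime_orderOf_dvd_card' (G := MulAction.stabilizer N v) p h2
  refine ⟨y.1.1, y.1.2, ?_, y.2⟩
  rw [Subgroup.orderOf_coe, Subgroup.orderOf_coe, hy]

/-- an abelian group acting semiregularly has order prime to `p` -/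
theorem cop_of_semi [Nontrivial V] (hA : ∀ a ∈ A, a ≠ 1 → ∀ v : V, a v = v → v = 0) :
    ¬ p ∣ Nat.card A := by
  intro hd
  obtain ⟨a, ha⟩ := exists_prime_orderOf_dvd_card' (G := A) p hd
  have hZ : IsPGroup p (Subgroup.zpowers a) := by
    refine IsPGroup.of_card (n := 1) ?_
    rw [Nat.card_zpowers, ha, pow_one]
  obtain ⟨v, hv, hfix⟩ := exists_fixed_pgroup (G := A) (Subgroup.zpowers a) hZ
  refine hv (hA a a.2 ?_ v (hfix a (Subgroup.mem_zpowers a)))
  intro h1
  have h2 : a = 1 := Subtype.ext h1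
  rw [h2, orderOf_one] at ha
  exact (Fact.out : p.Prime).one_lt.ne ha

/-- covering by fixed spaces -/
theorem cover {S : G → Prop} {B w : ℕ}
    (hcov : ∀ v : V, v ≠ 0 → ∃ y : G, S y ∧ (y : V ≃ₗ[ZMod p] V) v = v)
    (hB : Nat.card {y : G // S y} ≤ B)
    (hw : ∀ y : G, S y → Nat.card (fx (y : V ≃ₗ[ZMod p] V)) ≤ w) :
    Nat.card V ≤ B * (w - 1) + 1 := by
  haveI := Fintype.ofFinite V
  haveI := Fintype.ofFinite G
  let T : Finset G := Finset.univ.filter S
  let X : G → Finset V := fun y => (Finset.univ.filter fun v : V => (y : V ≃ₗ[ZMod p] V) v = v).erase 0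
  have hT : T.card ≤ B := by
    rw [Nat.card_eq_fintype_card, Fintype.card_subtype] at hB
    exact hB
  have hX : ∀ y ∈ T, (X y).card ≤ w - 1 := by
    intro y hy
    have h1 := hw y (Finset.mem_filter.1 hy).2
    have h2 : (Finset.univ.filter fun v : V => (y : V ≃ₗ[ZMod p] V) v = v).card =
        Nat.card (fx (y : V ≃ₗ[ZMod p] V)) := by
      rw [← Fintype.card_subtype, ← Nat.card_eq_fintype_card]
      refine Nat.card_congr (Equiv.subtypeEquivRight fun v => ?_)
      exact mem_fx.symm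
    rw [Finset.card_erase_of_mem (by simp), h2]
    exact Nat.sub_le_sub_right h1 1
  have hsub : (Finset.univ : Finset V).erase 0 ⊆ T.biUnion X := by
    intro v hv
    obtain ⟨y, hy, hyv⟩ := hcov v (Finset.ne_of_mem_erase hv)
    exact Finset.mem_biUnion.2 ⟨y, Finset.mem_filter.2 ⟨Finset.mem_univ _, hy⟩,
      Finset.mem_erase.2 ⟨Finset.ne_of_mem_erase hv, Finset.mem_filter.2 ⟨Finset.mem_univ _, hyv⟩⟩⟩
  have h1 := (Finset.card_le_card hsub).trans (Finset.card_biUnion_le.trans (Finset.sum_le_card_nsmul T _ _ hX))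
  rw [Finset.card_erase_of_mem (Finset.mem_univ _), Finset.card_univ, ← Nat.card_eq_fintype_card,
    smul_eq_mul] at h1
  have h2 : T.card * (w - 1) ≤ B * (w - 1) := Nat.mul_le_mul_right _ hT
  omega

/-- orbits of length `|V| - 1` -/
theorem tra_of_card (hh : Half G h) (h0 : 0 < h) {m : ℕ} (hm : m * h = Nat.card G)
    (hmV : Nat.card V ≤ m + 1) : Tra G := by
  intro v w hv hw
  have h1 := orbit_card hh h0 hm hv
  haveI := Fintype.ofFinite V
  have h2 : (MulAction.orbit G v : Set V).toFinset ⊆ (Finset.univ : Finset V).erase 0 := by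
    intro u hu
    rw [Set.mem_toFinset] at hu
    obtain ⟨g, rfl⟩ := hu
    refine Finset.mem_erase.2 ⟨fun h => hv ?_, Finset.mem_univ _⟩
    exact (g : V ≃ₗ[ZMod p] V).map_eq_zero_iff.1 h
  have h3 : ((Finset.univ : Finset V).erase 0).card ≤ ((MulAction.orbit G v : Set V).toFinset).card := by
    rw [Finset.card_erase_of_mem (Finset.mem_univ _), Finset.card_univ, ← Nat.card_eq_fintype_card,
      Set.toFinset_card, ← Nat.card_eq_fintype_card, h1]
    omega
  have h4 := Finset.eq_of_subset_of_card_le h2 h3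
  have h5 : w ∈ (MulAction.orbit G v : Set V).toFinset := by
    rw [h4]; exact Finset.mem_erase.2 ⟨hw, Finset.mem_univ _⟩
  rw [Set.mem_toFinset] at h5
  obtain ⟨g, hg⟩ := h5
  exact ⟨g, g.2, hg⟩

/-- the orbit of a vector moved by an element of order three has at least six elements -/
theorem six_le (hh : Half G h) (h0 : 0 < h) {m : ℕ} (hm : m * h = Nat.card G) (hp : 3 ≤ p)
    (hneg : Cfsg.Agent.H583.HT.ng p V ∈ G) {y : V ≃ₗ[ZMod p] V} (hy : y ∈ G) (hy3 : y ^ 3 = 1) {u : V}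
    (hu : y u ≠ u) : 6 ≤ m := by
  have hu0 : u ≠ 0 := by rintro rfl; exact hu (map_zero _)
  have h1 := orbit_card hh h0 hm hu0
  let z : G := ⟨Cfsg.Agent.H583.HT.ng p V * y, G.mul_mem hneg hy⟩
  have hne : -u ≠ u := by
    intro h
    have h2 : (2 : ZMod p) • u = 0 := by
      rw [two_smul]
      nth_rewrite 1 [← h]
      exact neg_add_cancel u
    rcases smul_eq_zero.1 h2 with h3 | h3
    · have h4 : ((2 : ℕ) : ZMod p) = 0 := by exact_mod_cast h3
      rw [ZMod.natCast_eq_zero_iff] at h4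
      exact absurd (Nat.le_of_dvd (by norm_num) h4) (by omega)
    · exact hu0 h3
  have hyyy : y (y (y u)) = u := by
    have : (y ^ 3) u = u := by rw [hy3]; rfl
    exact this
  have hz : ∀ v : V, z • v = -(y v) := fun v => rfl
  have hz2 : ∀ v : V, z • z • v = y (y v) := by
    intro v
    rw [hz, hz, map_neg, neg_neg]
  have h6 : Function.IsPeriodicPt (z • ·) 6 u := by
    change z • z • z • z • z • z • u = u
    rw [hz2, hz2, hz2, hyyy, hyyy]
  have h3 : ¬ Function.IsPeriodicPt (z • ·) 3 u := by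
    intro h
    have h' : z • z • z • u = u := h
    rw [hz, hz2, hyyy] at h'
    exact hne h'
  have h2 : ¬ Function.IsPeriodicPt (z • ·) 2 u := by
    intro h
    have h' : z • z • u = u := h
    rw [hz2] at h'
    apply hu
    have h7 := hyyy
    rw [h'] at h7
    exact h7
  have hmp : Function.minimalPeriod (z • ·) u = 6 := by
    have h7 := h6.minimalPeriod_dvd
    have h8 : ¬ Function.minimalPeriod (z • ·) u ∣ 3 := fun h => h3 (Function.isPeriodicPt_iff_minimalPeriod_dvd.2 h)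
    have h9 : ¬ Function.minimalPeriod (z • ·) u ∣ 2 := fun h => h2 (Function.isPeriodicPt_iff_minimalPeriod_dvd.2 h)
    have h10 := Nat.le_of_dvd (by norm_num) h7
    interval_cases Function.minimalPeriod (z • ·) u <;> omega
  have h7 := MulAction.minimalPeriod_eq_card (a := z) (b := u)
  rw [hmp, ← Nat.card_eq_fintype_card] at h7
  rw [h7, ← h1]
  refine Nat.card_mono (Set.toFinite _) ?_
  rintro _ ⟨g, rfl⟩
  exact ⟨g.1, rfl⟩

end Cfsg.Agent.H19.HT
end

-- part: H19/HT/Etwo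
section
prune_inst 0xe1306a44446200000000058201200004140005b000000000490207440308822005802000080001040a008001000100081118003000000000000004000004040100aa060031000108200096000004000000000000000000000000000000000000200000000
set_option linter.all false
open scoped Cfsg.Agent.FastGrp

/-!
# The case `|F / A| = 4` with `p ∣ |G|` (S3512, E1P; helper19)

`etwo_tra`: `ETwo G A F`, `Half G h`, `3 ≤ p`, `p ∣ |G|`: `G` is transitive (then `|V| = 9`).
-/

set_option autoImplicit false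
set_option linter.style.haveILetI false
set_option linter.unusedSectionVars false
set_option linter.unusedVariables false

open scoped Classical
open Cfsg.Agent.H828.HT Cfsg.Agent.H960.HT Cfsg.Agent.H662.HT Cfsg.Agent.H583.HT

namespace Cfsg.Agent.H19.HT

universe u

variable {p : ℕ} [Fact p.Prime] {V : Type u} [AddCommGroup V] [Module (ZMod p) V] [Finite V]
  {G A F : Subgroup (V ≃ₗ[ZMod p] V)} {h : ℕ}

theorem two_ne' (hp : 3 ≤ p) : (2 : ZMod p) ≠ 0 := by
  intro h9
  have h10 : ((2 : ℕ) : ZMod p) = 0 := by exact_mod_cast h9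
  rw [ZMod.natCast_eq_zero_iff] at h10
  exact absurd (Nat.le_of_dvd (by norm_num) h10) (by omega)

theorem powo {Γ : Type*} [Group Γ] {y : Γ} {r : ℕ} (h : orderOf y = r) : y ^ r = 1 := by
  subst h; exact pow_orderOf_eq_one y

theorem powo' {y : G} {r : ℕ} (h : orderOf y = r) : (y : V ≃ₗ[ZMod p] V) ^ r = 1 :=
  congrArg Subtype.val (powo h)

section ks

variable {K : Type u} [Field K] [Module K V] {χ : A →* Kˣ} {σ : G →* (K ≃+* K)}

/-- fixed spaces of linear elements of order three -/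
theorem card_three' [Nontrivial V] (E : ETwo G A F) (hK : KS G A K χ σ) (hp : 3 ≤ p)
    {y : G} (hy : orderOf y = 3) (hfix : ∃ v : V, v ≠ 0 ∧ (y : V ≃ₗ[ZMod p] V) v = v) (hσ : σ y = 1) :
    Nat.card (fx (y : V ≃ₗ[ZMod p] V)) ^ 2 ≤ Nat.card V := by
  obtain ⟨ρ, n, R⟩ := exists_rho E
  have hy3 : y ^ 3 = 1 := by rw [← hy]; exact pow_orderOf_eq_one y
  have h1 := rho_ne_one R E hK Nat.prime_three (by norm_num) hy hfix hσ
  have h2 : (ρ y) ^ 3 = 1 := by rw [← map_pow, hy3, map_one]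
  have h3 := no_fix_of_perm _ h2 h1
  obtain ⟨j, hj⟩ : ∃ j, ρ y 0 = j := ⟨_, rfl⟩
  rw [hj] at h3
  have h4 := (R.act y 0 j).1 hj
  -- the anticommuting elements
  obtain ⟨m, hm⟩ : ∃ m, m = (y : V ≃ₗ[ZMod p] V) * n 0 * (y : V ≃ₗ[ZMod p] V)⁻¹ := ⟨_, rfl⟩
  rw [← hm] at h4
  have hmF : m ∈ F := by rw [hm]; exact E.nF _ y.2 _ (R.memF 0)
  have hmA : m ∉ A := by
    intro h
    apply R.notA 0
    have h5 := E.nA _ (inv_mem y.2) _ h
    have h6 : (y : V ≃ₗ[ZMod p] V)⁻¹ * m * (y : V ≃ₗ[ZMod p] V)⁻¹⁻¹ = n 0 := by rw [hm]; group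
    rwa [h6] at h5
  have h0m : (n 0)⁻¹ * m ∉ A := by
    intro h
    apply h3
    apply R.inj
    have h5 : (n j)⁻¹ * n 0 = ((n j)⁻¹ * m) * ((n 0)⁻¹ * m)⁻¹ := by group
    rw [h5]
    exact mul_mem h4 (inv_mem h)
  have hanti := Cfsg.Agent.H583.HT.anti E (R.memF 0) hmF (R.notA 0) hmA h0m
  have hsq : m * m = n 0 * n 0 := by
    have h5 := (hK.cen y).1 hσ _ (E.sq _ (R.memF 0))
    calc m * m = ((y : V ≃ₗ[ZMod p] V) * (n 0 * n 0)) * (y : V ≃ₗ[ZMod p] V)⁻¹ := by rw [hm]; group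
      _ = n 0 * n 0 := by rw [h5]; group
  -- `u = m n⁻¹`
  have hu : (m * (n 0)⁻¹) * (m * (n 0)⁻¹) = ng p V := by
    have h5 : (n 0)⁻¹ * m = ng p V * (m * (n 0)⁻¹) := by
      have h6 : (n 0)⁻¹ * (n 0 * m) * (n 0)⁻¹ = (n 0)⁻¹ * (ng p V * (m * n 0)) * (n 0)⁻¹ := by rw [hanti]
      have h7 : (n 0)⁻¹ * (n 0 * m) * (n 0)⁻¹ = m * (n 0)⁻¹ := by group
      have h8 : (n 0)⁻¹ * (ng p V * (m * n 0)) * (n 0)⁻¹ = ((n 0)⁻¹ * ng p V) * m := by group
      rw [h7, h8, ← ng_comm, mul_assoc] at h6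
      rw [h6, ← mul_assoc, ng_mul_ng, one_mul]
    calc (m * (n 0)⁻¹) * (m * (n 0)⁻¹) = m * ((n 0)⁻¹ * m) * (n 0)⁻¹ := by group
      _ = (m * ng p V) * (m * (n 0)⁻¹) * (n 0)⁻¹ := by rw [h5]; group
      _ = ng p V * (m * m) * (n 0 * n 0)⁻¹ := by rw [← ng_comm]; group
      _ = ng p V := by rw [hsq]; group
  apply card_sq_le (n := n 0)
  intro w hw hnw
  rw [mem_fx] at hw hnw
  have h5 : (m * (n 0)⁻¹) (n 0 w) = n 0 w := by
    have h6 : (m * (n 0)⁻¹) (n 0 w) = m w := by
      rw [← LinearEquiv.mul_apply, inv_mul_cancel_right]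
    have h7 : m w = (y : V ≃ₗ[ZMod p] V) (n 0 ((y : V ≃ₗ[ZMod p] V)⁻¹ w)) := by rw [hm]; rfl
    have h8 : (y : V ≃ₗ[ZMod p] V)⁻¹ w = w := by
      have h9 : (y : V ≃ₗ[ZMod p] V)⁻¹ ((y : V ≃ₗ[ZMod p] V) w) = w := by
        rw [← LinearEquiv.mul_apply, inv_mul_cancel]; rfl
      rwa [hw] at h9
    rw [h6, h7, h8, hnw]
  have h6 : n 0 w = -(n 0 w) := by
    have h7 : ((m * (n 0)⁻¹) * (m * (n 0)⁻¹)) (n 0 w) = n 0 w := by
      rw [LinearEquiv.mul_apply, h5, h5]
    rw [hu, ng_apply] at h7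
    exact h7.symm
  have h7 : n 0 w = 0 := by
    have h8 : (2 : ZMod p) • n 0 w = 0 := by
      rw [two_smul]
      nth_rewrite 1 [h6]
      exact neg_add_cancel _
    exact (smul_eq_zero.1 h8).resolve_left (two_ne' hp)
  exact (LinearEquiv.map_eq_zero_iff (n 0)).1 h7

/-- `σ y = 1` for elements of `C_G(A)` -/
theorem sigma_one (hK : KS G A K χ σ) {y : V ≃ₗ[ZMod p] V}
    (hy : y ∈ G ⊓ Subgroup.centralizer (A : Set (V ≃ₗ[ZMod p] V))) : σ ⟨y, hy.1⟩ = 1 := by
  rw [hK.cen]
  intro x hx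
  exact (Subgroup.mem_centralizer_iff.1 hy.2 x hx).symm

theorem cent_normal (hnA : ∀ g ∈ G, ∀ a ∈ A, g * a * g⁻¹ ∈ A) : ∀ g ∈ G,
    ∀ c ∈ G ⊓ Subgroup.centralizer (A : Set (V ≃ₗ[ZMod p] V)),
    g * c * g⁻¹ ∈ G ⊓ Subgroup.centralizer (A : Set (V ≃ₗ[ZMod p] V)) := by
  intro g hg c hc
  refine ⟨G.mul_mem (G.mul_mem hg hc.1) (G.inv_mem hg), ?_⟩
  change g * c * g⁻¹ ∈ Subgroup.centralizer (A : Set (V ≃ₗ[ZMod p] V))
  rw [Subgroup.mem_centralizer_iff]
  intro x hx
  have h1 := hnA g⁻¹ (G.inv_mem hg) x hx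
  have h2 := Subgroup.mem_centralizer_iff.1 hc.2 _ h1
  calc x * (g * c * g⁻¹) = g * ((g⁻¹ * x * g⁻¹⁻¹) * c) * g⁻¹ := by group
    _ = g * (c * (g⁻¹ * x * g⁻¹⁻¹)) * g⁻¹ := by rw [h2]
    _ = (g * c * g⁻¹) * x := by group

theorem three_cycle : ∀ t : Equiv.Perm (Fin 3), t ^ 3 = 1 → t ≠ 1 →
    t = finRotate 3 ∨ t⁻¹ = finRotate 3 := by decide +kernel

/-- an element of `A` whose `p`-th power is `1` -/
theorem eq_one_of_pow (hA : ¬ p ∣ Nat.card A) {a : V ≃ₗ[ZMod p] V} (ha : a ∈ A) (h1 : a ^ p = 1) : a = 1 := by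
  have h2 : orderOf (⟨a, ha⟩ : A) ∣ p := orderOf_dvd_of_pow_eq_one (Subtype.ext h1)
  rcases (Nat.dvd_prime (Fact.out : p.Prime)).1 h2 with h3 | h3
  · exact congrArg Subtype.val (orderOf_eq_one_iff.1 h3)
  · have h4 := orderOf_dvd_natCard (⟨a, ha⟩ : A)
    rw [h3] at h4
    exact absurd h4 hA

/-- **the linear case** -/
theorem etwo_lin [Nontrivial V] (E : ETwo G A F) (hK : KS G A K χ σ) (hh : Half G h) (hp : 3 ≤ p)
    (hd : p ∣ Nat.card (G ⊓ Subgroup.centralizer (A : Set (V ≃ₗ[ZMod p] V)) :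
      Subgroup (V ≃ₗ[ZMod p] V))) : Tra G := by
  obtain ⟨ρ, n, R⟩ := exists_rho E
  have hAcop : ¬ p ∣ Nat.card A := cop_of_semi E.semi
  have hP := pex_of_normal hh (inf_le_left : G ⊓ Subgroup.centralizer (A : Set (V ≃ₗ[ZMod p] V)) ≤ G)
    (cent_normal E.nA)
  have hfix : ∀ v : V, v ≠ 0 → ∃ y : G, orderOf y = p ∧ σ y = 1 ∧ (y : V ≃ₗ[ZMod p] V) v = v := by
    intro v hv
    obtain ⟨y, hy, hyo, hyv⟩ := hP.exists_fix hd hv
    exact ⟨⟨y, hy.1⟩, by rw [Subgroup.orderOf_mk, hyo], sigma_one hK hy, hyv⟩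
  -- `p = 3`
  have hρ : ∀ y : G, orderOf y = p → σ y = 1 → (∃ v : V, v ≠ 0 ∧ (y : V ≃ₗ[ZMod p] V) v = v) → ρ y ≠ 1 :=
    fun y h1 h2 h3 => rho_ne_one R E hK Fact.out (by omega) h1 h3 h2
  obtain ⟨v₀, hv₀⟩ := exists_ne (0 : V)
  have hp3 : p = 3 := by
    obtain ⟨y, hyo, hys, hyv⟩ := hfix v₀ hv₀
    have h1 := hρ y hyo hys ⟨v₀, hv₀, hyv⟩
    have h2 : (ρ y) ^ p = 1 := by rw [← map_pow, powo hyo, map_one]
    have h3 : (ρ y) ^ 6 = 1 := by
      have : (ρ y) ^ Nat.card (Equiv.Perm (Fin 3)) = 1 := pow_card_eq_one'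
      rwa [Nat.card_perm, Nat.card_fin] at this
    have h4 : orderOf (ρ y) ∣ p := orderOf_dvd_of_pow_eq_one h2
    rcases (Nat.dvd_prime (Fact.out : p.Prime)).1 h4 with h5 | h5
    · exact absurd (orderOf_eq_one_iff.1 h5) h1
    · have h6 : p ∣ 6 := h5 ▸ orderOf_dvd_of_pow_eq_one h3
      have h7 : p ≤ 6 := Nat.le_of_dvd (by norm_num) h6
      interval_cases p
      · rfl
      · omega
      · omega
      · exact absurd (Fact.out : Nat.Prime 6) (by norm_num)
  -- `ρ y` is a fixed three-cycle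
  have hcov : ∀ v : V, v ≠ 0 → ∃ y : G, (orderOf y = 3 ∧ σ y = 1 ∧ ρ y = finRotate 3 ∧
      ∃ v : V, v ≠ 0 ∧ (y : V ≃ₗ[ZMod p] V) v = v) ∧ (y : V ≃ₗ[ZMod p] V) v = v := by
    intro v hv
    obtain ⟨y, hyo, hys, hyv⟩ := hfix v hv
    have h1 := hρ y hyo hys ⟨v, hv, hyv⟩
    have h2 : (ρ y) ^ 3 = 1 := by rw [← map_pow, powo (hyo.trans hp3), map_one]
    rcases three_cycle _ h2 h1 with h3 | h3
    · exact ⟨y, ⟨by rw [hyo, hp3], hys, h3, v, hv, hyv⟩, hyv⟩
    · have hyv' : ((y⁻¹ : G) : V ≃ₗ[ZMod p] V) v = v := by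
        conv_lhs => rw [← hyv]
        change ((y : V ≃ₗ[ZMod p] V)⁻¹ * (y : V ≃ₗ[ZMod p] V)) v = v
        rw [inv_mul_cancel]; rfl
      exact ⟨y⁻¹, ⟨by rw [orderOf_inv, hyo, hp3], by rw [map_inv, hys, inv_one], by rw [map_inv, h3], v, hv, hyv'⟩,
        hyv'⟩
  -- at most four elements
  have hB : Nat.card {y : G // orderOf y = 3 ∧ σ y = 1 ∧ ρ y = finRotate 3 ∧
      ∃ v : V, v ≠ 0 ∧ (y : V ≃ₗ[ZMod p] V) v = v} ≤ 4 := by
    obtain ⟨y₀, ⟨hy1, hy2, hy3, hy4⟩, -⟩ := hcov v₀ hv₀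
    have h1 := R.card_le_four E (S := fun y : G => orderOf y = 3 ∧ σ y = 1 ∧ ρ y = finRotate 3 ∧
      ∃ v : V, v ≠ 0 ∧ (y : V ≃ₗ[ZMod p] V) v = v) y₀ (fun y hy => R.inv_mul_mem E hK (hy3.trans hy.2.2.1.symm)
        (hy2.trans hy.2.1.symm)) 1 (fun y₁ hy₁ => by
      rw [Finite.card_le_one_iff_subsingleton]
      refine ⟨fun a b => ?_⟩
      have key : ∀ y : G, orderOf y = 3 → (y₁ : V ≃ₗ[ZMod p] V)⁻¹ * (y : V ≃ₗ[ZMod p] V) ∈ A → y = y₁ := by
        intro y hyo hyA
        have hc : Commute (y₁ : V ≃ₗ[ZMod p] V) ((y₁ : V ≃ₗ[ZMod p] V)⁻¹ * (y : V ≃ₗ[ZMod p] V)) :=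
          (hK.cen y₁).1 hy₁.2.1 _ hyA
        have e1 : (y : V ≃ₗ[ZMod p] V) = (y₁ : V ≃ₗ[ZMod p] V) * ((y₁ : V ≃ₗ[ZMod p] V)⁻¹ *
          (y : V ≃ₗ[ZMod p] V)) := by group
        have e2 : (y : V ≃ₗ[ZMod p] V) ^ p = 1 := powo' (hyo.trans hp3.symm)
        have e3 : (y₁ : V ≃ₗ[ZMod p] V) ^ p = 1 := powo' (hy₁.1.trans hp3.symm)
        rw [e1, hc.mul_pow, e3, one_mul] at e2
        have e4 := eq_one_of_pow hAcop hyA e2
        have e5 : (y : V ≃ₗ[ZMod p] V) = y₁ := by rw [e1, e4, mul_one]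
        exact Subtype.ext e5
      exact Subtype.ext ((key a.1 a.2.1.1 a.2.2).trans (key b.1 b.2.1.1 b.2.2).symm))
    exact h1
  have hw : ∀ y : G, (orderOf y = 3 ∧ σ y = 1 ∧ ρ y = finRotate 3 ∧
      ∃ v : V, v ≠ 0 ∧ (y : V ≃ₗ[ZMod p] V) v = v) →
      Nat.card (fx (y : V ≃ₗ[ZMod p] V)) ≤ Nat.sqrt (Nat.card V) := by
    intro y hy
    have h1 := card_three' E hK hp hy.1 hy.2.2.2 hy.2.1
    rw [pow_two] at h1
    exact Nat.le_sqrt.2 h1
  have h9 : Nat.card V ≤ 9 := by
    have h1 := cover hcov hB hw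
    have h2 := Nat.sqrt_le (Nat.card V)
    have h3 : Nat.sqrt (Nat.card V) ≤ 3 := by
      by_contra hc
      push Not at hc
      obtain ⟨k, hk⟩ := Nat.exists_eq_add_of_le hc
      rw [hk] at h1 h2
      have h4 : 4 * (3 + 1 + k - 1) + 1 = 4 * k + 13 := by omega
      rw [h4] at h1
      nlinarith only [h2, h1]
    have h4 : 4 * (Nat.sqrt (Nat.card V) - 1) ≤ 8 := by omega
    omega
  -- conclusion
  obtain ⟨m, hm, hm0⟩ := exists_m hh ⟨v₀, hv₀⟩
  have h0 := h_pos hh hv₀
  obtain ⟨y, ⟨hyo, -, -, -⟩, -⟩ := hcov v₀ hv₀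
  obtain ⟨u, hu⟩ : ∃ u : V, (y : V ≃ₗ[ZMod p] V) u ≠ u := by
    by_contra hc
    push Not at hc
    have h1 : y = 1 := Subtype.ext (LinearEquiv.ext hc)
    rw [h1, orderOf_one] at hyo
    omega
  have h6 := six_le hh h0 hm hp (E.FG (E.AF (ng_mem E))) y.2 (powo' hyo) hu
  refine tra_of_card hh h0 hm ?_
  obtain ⟨k, hk⟩ := dvd_card_sub_one hh h0 hm
  have hk1 : k ≤ 1 := by
    by_contra hc
    push Not at hc
    have : m * 2 ≤ m * k := Nat.mul_le_mul_left m hc
    omega
  have : m * k ≤ m * 1 := Nat.mul_le_mul_left m hk1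
  omega

/-- an element of `C_G(A)` has order dividing `|C_G(A)|` -/
theorem order_dvd (hK : KS G A K χ σ) {y : G} (hy : σ y = 1) :
    orderOf y ∣ Nat.card (G ⊓ Subgroup.centralizer (A : Set (V ≃ₗ[ZMod p] V)) :
      Subgroup (V ≃ₗ[ZMod p] V)) := by
  have h1 : (y : V ≃ₗ[ZMod p] V) ∈ G ⊓ Subgroup.centralizer (A : Set (V ≃ₗ[ZMod p] V)) := by
    refine ⟨y.2, ?_⟩
    change (y : V ≃ₗ[ZMod p] V) ∈ Subgroup.centralizer (A : Set (V ≃ₗ[ZMod p] V))
    rw [Subgroup.mem_centralizer_iff]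
    intro x hx
    exact ((hK.cen y).1 hy x hx).symm
  have h2 := orderOf_dvd_natCard (⟨y, h1⟩ : (G ⊓ Subgroup.centralizer (A : Set (V ≃ₗ[ZMod p] V)) :
      Subgroup (V ≃ₗ[ZMod p] V)))
  rwa [Subgroup.orderOf_mk, Subgroup.orderOf_coe] at h2

set_option maxRecDepth 100000 in
theorem transp : ∀ c : Equiv.Perm (Fin 3), c ≠ 1 → c ^ 3 ≠ 1 → ∃ i, ∀ g : Equiv.Perm (Fin 3), g i ≠ i →
    (c * (g * c * g⁻¹)) ^ 3 = 1 ∧ c * (g * c * g⁻¹) ≠ 1 := by decide +kernel

/-- if `3 ∤ |C_G(A)|` then `C_G(A)` acts trivially on `F / A` -/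
theorem rho_triv {ρ : G →* Equiv.Perm (Fin 3)} {n : Fin 3 → (V ≃ₗ[ZMod p] V)} (R : Rho G A F ρ n)
    (hK : KS G A K χ σ)
    (hd : ¬ 3 ∣ Nat.card (G ⊓ Subgroup.centralizer (A : Set (V ≃ₗ[ZMod p] V)) :
      Subgroup (V ≃ₗ[ZMod p] V))) {c : G} (hc : σ c = 1) : ρ c = 1 := by
  have key : ∀ z : G, σ z = 1 → (ρ z) ^ 3 = 1 → ρ z = 1 := by
    intro z hz h3
    by_contra h1
    apply hd
    have h4 : orderOf (ρ z) = 3 := orderOf_eq_prime h3 h1
    rw [← h4]
    exact (orderOf_map_dvd ρ z).trans (order_dvd hK hz)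
  by_contra h1
  have h3 : (ρ c) ^ 3 ≠ 1 := fun h => h1 (key c hc h)
  obtain ⟨i, hi⟩ := transp _ h1 h3
  obtain ⟨g, hg⟩ := R.fpf i
  obtain ⟨h4, h5⟩ := hi _ hg
  apply h5
  have h6 : ρ (c * (g * c * g⁻¹)) = ρ c * (ρ g * ρ c * (ρ g)⁻¹) := by
    rw [map_mul, map_mul, map_mul, map_inv]
  rw [← h6]
  refine key _ ?_ ?_
  · rw [map_mul, map_mul, map_mul, map_inv, hc, mul_one, mul_inv_cancel, mul_one]
  · rw [h6]; exact h4

theorem pow_mem_of_cyclic {Γ : Type*} [Group Γ] [Finite Γ] [IsCyclic Γ] {r : ℕ} (hr : r.Prime) {s t : Γ}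
    (hs : s ^ r = 1) (ht : t ^ r = 1) (ht1 : t ≠ 1) : ∃ i : ℕ, t ^ i = s := by
  haveI := Fintype.ofFinite Γ
  have h1 := IsCyclic.card_pow_eq_one_le (α := Γ) hr.pos
  have ho : orderOf t = r := by
    haveI := Fact.mk hr
    exact orderOf_eq_prime ht ht1
  let T : Finset Γ := (Finset.range r).image (fun i => t ^ i)
  have hT : T.card = r := by
    rw [Finset.card_image_of_injOn, Finset.card_range]
    intro i hi j hj hij
    have hi' := Finset.mem_range.1 (Finset.mem_coe.1 hi)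
    have hj' := Finset.mem_range.1 (Finset.mem_coe.1 hj)
    exact pow_injOn_Iio_orderOf (by rw [ho]; exact hi') (by rw [ho]; exact hj') hij
  have hsub : T ⊆ Finset.univ.filter (fun x : Γ => x ^ r = 1) := by
    intro x hx
    obtain ⟨i, -, rfl⟩ := Finset.mem_image.1 hx
    refine Finset.mem_filter.2 ⟨Finset.mem_univ _, ?_⟩
    rw [← pow_mul, mul_comm, pow_mul, ht, one_pow]
  have h2 := Finset.eq_of_subset_of_card_le hsub (by rw [hT]; exact h1)
  have h3 : s ∈ T := by
    rw [h2]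
    exact Finset.mem_filter.2 ⟨Finset.mem_univ _, hs⟩
  obtain ⟨i, -, hi⟩ := Finset.mem_image.1 h3
  exact ⟨i, hi⟩

/-- all elements of order `p` are semilinear: after a choice of the image in `Aut K` -/
theorem exists_semi [Nontrivial V] (hK : KS G A K χ σ) (hh : Half G h) (hG : p ∣ Nat.card G)
    (hd : ¬ p ∣ Nat.card (G ⊓ Subgroup.centralizer (A : Set (V ≃ₗ[ZMod p] V)) :
      Subgroup (V ≃ₗ[ZMod p] V))) : ∃ s : K ≃+* K, s ≠ 1 ∧
      ∀ v : V, v ≠ 0 → ∃ y : G, (y ^ p = 1 ∧ σ y = s) ∧ (y : V ≃ₗ[ZMod p] V) v = v := by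
  haveI := finite_aut hK
  haveI := hK.fin
  haveI hc : IsCyclic (K ≃+* K) := isCyclic_ringAut' K
  have hP : PEx G := pex_of_normal hh le_rfl (fun g hg n hn => G.mul_mem (G.mul_mem hg hn) (G.inv_mem hg))
  have hfix : ∀ v : V, v ≠ 0 → ∃ y : G, y ^ p = 1 ∧ σ y ≠ 1 ∧ (y : V ≃ₗ[ZMod p] V) v = v := by
    intro v hv
    obtain ⟨y, hy, hyo, hyv⟩ := hP.exists_fix hG hv
    have ho : orderOf (⟨y, hy⟩ : G) = p := by rw [Subgroup.orderOf_mk, hyo]
    refine ⟨⟨y, hy⟩, powo ho, fun h1 => ?_, hyv⟩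
    apply hd
    have := order_dvd hK h1
    rwa [ho] at this
  obtain ⟨v₀, hv₀⟩ := exists_ne (0 : V)
  obtain ⟨y₀, hy1, hy2, hy3⟩ := hfix v₀ hv₀
  refine ⟨σ y₀, hy2, ?_⟩
  intro v hv
  obtain ⟨y, h1, h2, h3⟩ := hfix v hv
  obtain ⟨i, hi⟩ := pow_mem_of_cyclic (Fact.out : p.Prime) (s := σ y₀) (t := σ y)
    (by rw [← map_pow, hy1, map_one]) (by rw [← map_pow, h1, map_one]) h2
  refine ⟨y ^ i, ⟨by rw [← pow_mul, mul_comm, pow_mul, h1, one_pow], by rw [map_pow, hi]⟩, ?_⟩
  have : ∀ j : ℕ, ((y : V ≃ₗ[ZMod p] V) ^ j) v = v := by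
    intro j
    induction j with
    | zero => rfl
    | succ j ih =>
      rw [pow_succ]
      change ((y : V ≃ₗ[ZMod p] V) ^ j) ((y : V ≃ₗ[ZMod p] V) v) = v
      rw [h3, ih]
  exact this i

/-- fixed spaces of the semilinear elements -/
theorem card_fx_semi [Nontrivial V] (hK : KS G A K χ σ) {r : ℕ} (hr : r.Prime) {y : G} (h1 : y ^ r = 1)
    (h2 : σ y ≠ 1) : Nat.card (fx (y : V ≃ₗ[ZMod p] V)) ^ r ≤ Nat.card V := by
  haveI := hK.fin
  have hit : ∀ (g : V ≃ₗ[ZMod p] V) (k : ℕ) (v : V), (fun w : V => g w)^[k] v = (g ^ k) v := by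
    intro g k v
    induction k with
    | zero => rfl
    | succ k ih =>
      rw [Function.iterate_succ', Function.comp_apply, ih, pow_succ']
      rfl
  have h3 := Cfsg.Agent.H528.HT.card_fix_semi' (K := K) (W := V) (σ y) h2 hr
    (y : V ≃ₗ[ZMod p] V).toAddEquiv (fun k w => hK.semi y k w) (fun w => by
      have := hit (y : V ≃ₗ[ZMod p] V) r w
      rw [show (y : V ≃ₗ[ZMod p] V) ^ r = 1 from congrArg Subtype.val h1] at this
      exact this)
  have h4 : Nat.card {w : V // (y : V ≃ₗ[ZMod p] V).toAddEquiv w = w} =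
      Nat.card (fx (y : V ≃ₗ[ZMod p] V)) :=
    Nat.card_congr (Equiv.subtypeEquivRight fun v => mem_fx.symm)
  rwa [h4] at h3

/-- `|K|` is a `p`-th power -/
theorem exists_q0 [Nontrivial V] (hK : KS G A K χ σ) {r : ℕ} (hr : r.Prime) {y : G} (h1 : y ^ r = 1)
    (h2 : σ y ≠ 1) : ∃ q₀ : ℕ, 2 ≤ q₀ ∧ Nat.card K = q₀ ^ r := by
  haveI := hK.fin
  have hit : ∀ (g : V ≃ₗ[ZMod p] V) (k : ℕ) (v : V), (fun w : V => g w)^[k] v = (g ^ k) v := by
    intro g k v
    induction k with
    | zero => rfl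
    | succ k ih =>
      rw [Function.iterate_succ', Function.comp_apply, ih, pow_succ']
      rfl
  obtain ⟨q₀, hq1, hq2, -⟩ := Cfsg.Agent.H528.HT.card_norm_semi' (K := K) (W := V) (σ y) h2 hr
    (y : V ≃ₗ[ZMod p] V).toAddEquiv (fun k w => hK.semi y k w) (fun w => by
      have := hit (y : V ≃ₗ[ZMod p] V) r w
      rw [show (y : V ≃ₗ[ZMod p] V) ^ r = 1 from congrArg Subtype.val h1] at this
      exact this)
  exact ⟨q₀, hq1, hq2⟩

/-- `p ∣ |K|` -/
theorem p_dvd_K [Nontrivial V] (hK : KS G A K χ σ) : p ∣ Nat.card K := by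
  haveI := hK.fin
  haveI : Module.Finite K V := Module.Finite.of_finite
  have h1 : Nat.card V = Nat.card K ^ Module.finrank K V := Module.natCard_eq_pow_finrank
  have h2 : p ∣ Nat.card V := by
    rw [card_eq_pow (p := p) V]
    exact dvd_pow_self p (Module.finrank_pos (R := ZMod p) (M := V)).ne'
  rw [h1] at h2
  exact (Fact.out : p.Prime).dvd_of_dvd_pow h2

/-- two linear maps which do not commute: `|K|² ≤ |V|` -/
theorem K_sq_le [Nontrivial V] (hK : KS G A K χ σ) {x y : G} (hx : σ x = 1) (hy : σ y = 1)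
    (hxy : (x : V ≃ₗ[ZMod p] V) * y ≠ y * x) : 2 ≤ Module.finrank K V := by
  haveI := hK.fin
  haveI : Module.Finite K V := Module.Finite.of_finite
  by_contra hc
  have h0 : 0 < Module.finrank K V := Module.finrank_pos
  have h1 : Module.finrank K V = 1 := by omega
  obtain ⟨v₀, hv₀⟩ := exists_ne (0 : V)
  have hsp := (finrank_eq_one_iff_of_nonzero' v₀ hv₀).1 h1
  apply hxy
  obtain ⟨a, ha⟩ := hsp ((x : V ≃ₗ[ZMod p] V) v₀)
  obtain ⟨b, hb⟩ := hsp ((y : V ≃ₗ[ZMod p] V) v₀)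
  have hlx : ∀ (k : K) (v : V), (x : V ≃ₗ[ZMod p] V) (k • v) = k • (x : V ≃ₗ[ZMod p] V) v := by
    intro k v; rw [hK.semi, hx]; rfl
  have hly : ∀ (k : K) (v : V), (y : V ≃ₗ[ZMod p] V) (k • v) = k • (y : V ≃ₗ[ZMod p] V) v := by
    intro k v; rw [hK.semi, hy]; rfl
  apply LinearEquiv.ext
  intro v
  obtain ⟨c, rfl⟩ := hsp v
  change (x : V ≃ₗ[ZMod p] V) ((y : V ≃ₗ[ZMod p] V) (c • v₀)) = (y : V ≃ₗ[ZMod p] V) ((x : V ≃ₗ[ZMod p] V) (c • v₀))
  rw [hly, hlx, hlx, hly, ← ha, ← hb, hlx, hly, ← ha, ← hb, smul_comm a b v₀]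

theorem num3 {q X : ℕ} (hq : 3 ≤ q) (hX : q ^ 2 ≤ X) (h : X ^ 3 ≤ (q ^ 2 + q + 1) * 4 * (X - 1) + 1) : False := by
  obtain ⟨a, rfl⟩ := Nat.exists_eq_add_of_le hq
  have h9 : 9 ≤ X := le_trans (by nlinarith only [_root_.Nat.cast_nonneg (α := ℤ) (a)]) hX
  obtain ⟨Y, rfl⟩ := Nat.exists_eq_add_of_le h9
  have e : 9 + Y - 1 = 8 + Y := by omega
  rw [e] at h
  have h1 : ((3 + a) ^ 2 + (3 + a) + 1) * 4 ≤ 6 * (9 + Y) := by nlinarith only [hX]
  have h2 : ((3 + a) ^ 2 + (3 + a) + 1) * 4 * (8 + Y) ≤ 6 * (9 + Y) * (8 + Y) := Nat.mul_le_mul_right _ h1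
  nlinarith only [h, h2, _root_.sq_nonneg (↑Y : ℤ), _root_.Nat.cast_nonneg (α := ℤ) (Y)]

theorem num5 {p q X : ℕ} (hp : 5 ≤ p) (hq : 5 ≤ q) (hX : q ^ 2 ≤ X) (h : X ^ p ≤ q ^ p * 24 * (X - 1) + 1) :
    False := by
  obtain ⟨r, rfl⟩ := Nat.exists_eq_add_of_le hp
  have hX1 : 1 ≤ X := le_trans (by nlinarith only [hq]) hX
  -- `X ^ (p - 1) ≤ 24 q ^ p`
  have h1 : q ^ (5 + r) * 24 * (X - 1) + 1 ≤ q ^ (5 + r) * 24 * X := by
    have h2 : 1 ≤ q ^ (5 + r) * 24 := by
      have : 0 < q ^ (5 + r) := pow_pos (by omega) _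
      omega
    have h3 : q ^ (5 + r) * 24 * X = q ^ (5 + r) * 24 * (X - 1) + q ^ (5 + r) * 24 := by
      rw [← Nat.mul_succ]; congr 1; omega
    omega
  have h2 : X ^ (4 + r) * X ≤ q ^ (5 + r) * 24 * X := by
    rw [← pow_succ, show 4 + r + 1 = 5 + r by ring]
    exact h.trans h1
  have h3 : X ^ (4 + r) ≤ q ^ (5 + r) * 24 := Nat.le_of_mul_le_mul_right h2 hX1
  have h4 : (q ^ 2) ^ (4 + r) ≤ X ^ (4 + r) := Nat.pow_le_pow_left hX _
  have h5 : (q ^ 2) ^ (4 + r) = q ^ (5 + r) * q ^ (3 + r) := by rw [← pow_mul, ← pow_add]; congr 1; ring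
  have h6 : q ^ (3 + r) ≤ 24 := by
    have h7 : q ^ (5 + r) * q ^ (3 + r) ≤ q ^ (5 + r) * 24 := by rw [← h5]; exact h4.trans h3
    exact Nat.le_of_mul_le_mul_left h7 (pow_pos (by omega) _)
  have h7 : 5 ^ 3 ≤ q ^ 3 := Nat.pow_le_pow_left hq 3
  have h8 : q ^ 3 ≤ q ^ (3 + r) := Nat.pow_le_pow_right (by omega) (by omega)
  omega

/-- **the semilinear case** -/
theorem etwo_semi [Nontrivial V] (E : ETwo G A F) (hK : KS G A K χ σ) (hh : Half G h) (hp : 3 ≤ p)
    (hG : p ∣ Nat.card G)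
    (hd : ¬ p ∣ Nat.card (G ⊓ Subgroup.centralizer (A : Set (V ≃ₗ[ZMod p] V)) :
      Subgroup (V ≃ₗ[ZMod p] V))) : False := by
  obtain ⟨ρ, n, R⟩ := exists_rho E
  haveI := hK.fin
  haveI : Module.Finite K V := Module.Finite.of_finite
  obtain ⟨s, hs, hcov⟩ := exists_semi hK hh hG hd
  have hpp : p.Prime := Fact.out
  obtain ⟨v₀, hv₀⟩ := exists_ne (0 : V)
  obtain ⟨y₀, ⟨hy1, hy2⟩, -⟩ := hcov v₀ hv₀
  obtain ⟨q₀, hq2, hqK⟩ := exists_q0 hK hpp hy1 (by rw [hy2]; exact hs)
  have hpq : p ≤ q₀ := by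
    have h1 := p_dvd_K hK
    rw [hqK] at h1
    exact Nat.le_of_dvd (by omega) (hpp.dvd_of_dvd_pow h1)
  -- `|V| = X ^ p` with `X ≥ q₀²`
  have hd2 : 2 ≤ Module.finrank K V := by
    obtain ⟨x, hx, y, hy, hxA, hyA, hxy⟩ := exists_pair E
    have h1 := Cfsg.Agent.H583.HT.anti E hx hy hxA hyA hxy
    refine K_sq_le hK (x := ⟨x, E.FG hx⟩) (y := ⟨y, E.FG hy⟩) (sigma_of_mem E hK hx) (sigma_of_mem E hK hy) ?_
    intro h2
    have h2' : x * y = y * x := h2
    rw [h2'] at h1
    have h3 : ng p V = 1 := by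
      have := h1.symm
      exact mul_eq_right.1 this
    have h4 : -v₀ = v₀ := by
      have := LinearEquiv.congr_fun h3 v₀
      exact this
    have h5 : (2 : ZMod p) • v₀ = 0 := by
      rw [two_smul]
      nth_rewrite 1 [← h4]
      exact neg_add_cancel v₀
    exact ((smul_eq_zero.1 h5).resolve_left (two_ne' hp)) |> hv₀
  set X := q₀ ^ Module.finrank K V with hX
  have hVX : Nat.card V = X ^ p := by
    have h1 : Nat.card V = Nat.card K ^ Module.finrank K V := Module.natCard_eq_pow_finrank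
    rw [h1, hqK, hX, ← pow_mul, ← pow_mul, mul_comm]
  have hXq : q₀ ^ 2 ≤ X := Nat.pow_le_pow_right (by omega) hd2
  have hw : ∀ y : G, (y ^ p = 1 ∧ σ y = s) → Nat.card (fx (y : V ≃ₗ[ZMod p] V)) ≤ X := by
    intro y hy
    have h1 := card_fx_semi hK hpp hy.1 (by rw [hy.2]; exact hs)
    rw [hVX] at h1
    exact (Nat.pow_le_pow_iff_left hpp.ne_zero).1 h1
  -- one class
  have hfib : ∀ t : Equiv.Perm (Fin 3), Nat.card {y : G // (y ^ p = 1 ∧ σ y = s) ∧ ρ y = t} ≤
      (q₀ ^ p - 1) / (q₀ - 1) * 4 := by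
    intro t
    by_cases hne : ∃ y₁ : G, (y₁ ^ p = 1 ∧ σ y₁ = s) ∧ ρ y₁ = t
    · obtain ⟨y₁, h3, h4⟩ := hne
      refine R.card_le_four E (S := fun y : G => (y ^ p = 1 ∧ σ y = s) ∧ ρ y = t) y₁ ?_ _ ?_
      · intro y hy
        exact R.inv_mul_mem E hK (h4.trans hy.2.symm) (h3.2.trans hy.1.2.symm)
      · intro y₂ hy₂
        exact coset_semi' E hK hpp hqK (S := fun y : G => (y ^ p = 1 ∧ σ y = s) ∧ ρ y = t)
          (fun y hy => ⟨hy.1.1, by rw [hy.1.2]; exact hs⟩) hy₂
    · have : IsEmpty {y : G // (y ^ p = 1 ∧ σ y = s) ∧ ρ y = t} := ⟨fun y => hne ⟨y.1, y.2⟩⟩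
      rw [Nat.card_of_isEmpty]
      exact Nat.zero_le _
  rcases Nat.lt_or_ge p 5 with hp5 | hp5
  · -- `p = 3`
    have hp3 : p = 3 := by
      interval_cases p
      · rfl
      · exact absurd hpp (by norm_num)
    have hρ : ∀ y : G, (y ^ p = 1 ∧ σ y = s) → ρ y = ρ y₀ := by
      intro y hy
      have h1 := rho_triv R hK (c := y₀⁻¹ * y) (by rw [← hp3]; exact hd) (by
        rw [map_mul, map_inv, hy.2, hy2, inv_mul_cancel])
      rw [map_mul, map_inv] at h1
      exact (inv_mul_eq_one.1 h1).symm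
    have hB : Nat.card {y : G // y ^ p = 1 ∧ σ y = s} ≤ (q₀ ^ p - 1) / (q₀ - 1) * 4 := by
      refine le_trans (Nat.card_le_card_of_injective (fun y : {y : G // y ^ p = 1 ∧ σ y = s} =>
        (⟨y.1, y.2, hρ y.1 y.2⟩ : {y : G // (y ^ p = 1 ∧ σ y = s) ∧ ρ y = ρ y₀})) ?_) (hfib (ρ y₀))
      intro a b hab
      have := congrArg (fun z : {y : G // (y ^ p = 1 ∧ σ y = s) ∧ ρ y = ρ y₀} => z.1) hab
      exact Subtype.ext this
    have h1 := cover hcov hB hw
    have hdiv : (q₀ ^ p - 1) / (q₀ - 1) = q₀ ^ 2 + q₀ + 1 := by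
      rw [hp3]
      obtain ⟨k, rfl⟩ := Nat.exists_eq_add_of_le' (show 1 ≤ q₀ by omega)
      have h1 : (k + 1) ^ 3 - 1 = k * ((k + 1) ^ 2 + (k + 1) + 1) := by
        rw [show (k + 1) ^ 3 = k * ((k + 1) ^ 2 + (k + 1) + 1) + 1 by ring]
        rfl
      rw [h1, Nat.add_sub_cancel, Nat.mul_div_cancel_left _ (by omega)]
    rw [hVX, hdiv] at h1
    have h1' : X ^ 3 ≤ (q₀ ^ 2 + q₀ + 1) * 4 * (X - 1) + 1 := by rw [hp3] at h1; exact h1
    exact num3 (hp.trans hpq) hXq h1'
  · have h2 : Nat.card {y : G // y ^ p = 1 ∧ σ y = s} ≤ (q₀ ^ p - 1) / (q₀ - 1) * 4 *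
        (Finset.univ : Finset (Equiv.Perm (Fin 3))).card :=
      card_le_mul_of (S := fun y : G => y ^ p = 1 ∧ σ y = s) (fun y => ρ y) Finset.univ
        (fun y hy => Finset.mem_univ _) _ (fun b _ => hfib b)
    have h3 : (Finset.univ : Finset (Equiv.Perm (Fin 3))).card = 6 := by decide
    rw [h3] at h2
    have h4 : (q₀ ^ p - 1) / (q₀ - 1) * 4 * 6 ≤ q₀ ^ p * 24 := by
      have h5 : (q₀ ^ p - 1) / (q₀ - 1) ≤ q₀ ^ p := (Nat.div_le_self _ _).trans (Nat.sub_le _ _)
      calc (q₀ ^ p - 1) / (q₀ - 1) * 4 * 6 = (q₀ ^ p - 1) / (q₀ - 1) * 24 := by ring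
        _ ≤ q₀ ^ p * 24 := Nat.mul_le_mul_right _ h5
    have h1 := cover hcov (h2.trans h4) hw
    rw [hVX] at h1
    exact num5 hp5 (hp5.trans hpq) hXq h1

/-- **the case `e = 2`** -/
theorem etwo_tra [Nontrivial V] (E : ETwo G A F) (hK : KS G A K χ σ) (hh : Half G h) (hp : 3 ≤ p)
    (hG : p ∣ Nat.card G) : Tra G := by
  by_cases hd : p ∣ Nat.card (G ⊓ Subgroup.centralizer (A : Set (V ≃ₗ[ZMod p] V)) :
      Subgroup (V ≃ₗ[ZMod p] V))
  · exact etwo_lin E hK hh hp hd
  · exact (etwo_semi E hK hh hp hG hd).elim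

end ks

end Cfsg.Agent.H19.HT
end

-- part: H19/HT/Efour
section
prune_inst 0xe1306a44646200000000058241200024140005b000000000490206440b0bd220058020004a0008040a008001000100081118003000000000000004000004040100aa460033340108200096000086000000000000000000000000000000041000200000002
set_option linter.all false
open scoped Cfsg.Agent.FastGrp

/-!
# The case `p = 3`, `|F / A| = 16` with `3 ∣ |G|` (S3512, E1P; helper19)

`E = ⟨t 0, …, t 4⟩` extraspecial of order 32 of minus type; an element `g` of `G` permutes the `± t k`: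
`Rel t g c e`.  The elements of order three are counted by means of `(c, e)`.
-/

set_option autoImplicit false
set_option linter.style.haveILetI false
set_option linter.unusedSectionVars false
set_option linter.unusedVariables false

open scoped Classical
open Cfsg.Agent.H828.HT Cfsg.Agent.H960.HT Cfsg.Agent.H662.HT Cfsg.Agent.H583.HT

namespace Cfsg.Agent.H19.HT

universe u

section dec

set_option maxRecDepth 100000

/-- the maps with `c³ = 1` -/
def T3 : Finset (Fin 5 → Fin 5) := Finset.univ.filter (fun c : Fin 5 → Fin 5 => ∀ k, c (c (c k)) = k)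

/-- the signs -/
def T2 (c : Fin 5 → Fin 5) : Finset (Fin 5 → Bool) :=
  Finset.univ.filter (fun e : Fin 5 → Bool => ∀ k, xor (e k) (xor (e (c k)) (e (c (c k)))) = false)

theorem dec1 : T3.card = 21 := by
  have h : (Finset.univ.filter fun σ : Equiv.Perm (Fin 5) => σ * σ * σ = 1).card = T3.card := by
    refine Finset.card_bij (fun (σ : Equiv.Perm (Fin 5)) _ => (σ : Fin 5 → Fin 5)) ?_ ?_ ?_
    · intro σ hσ
      exact Finset.mem_filter.2 ⟨Finset.mem_univ _, fun k => DFunLike.congr_fun (Finset.mem_filter.1 hσ).2 k⟩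
    · intro σ _ τ _ h
      exact Equiv.ext (congrFun h)
    · intro c hc
      have h3 := (Finset.mem_filter.1 hc).2
      exact ⟨⟨c, fun k => c (c k), h3, h3⟩, Finset.mem_filter.2 ⟨Finset.mem_univ _, Equiv.ext h3⟩, rfl⟩
  rw [← h]
  simp only [↓Cfsg.Agent.PermCode.M, Cfsg.Agent.PermCode.P5.R, Cfsg.Agent.PermCode.B]
  decide +kernel

theorem dec2 : ∀ c : Fin 5 → Fin 5, (∀ k, c (c (c k)) = k) → (T2 c).card ≤ 4 := by
  have key : ∀ σ : Equiv.Perm (Fin 5), σ * σ * σ = 1 → (T2 σ).card ≤ 4 := by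
    simp only [↓Cfsg.Agent.PermCode.M, Cfsg.Agent.PermCode.P5.R, Cfsg.Agent.PermCode.B]
    decide +kernel
  intro c h3
  exact key ⟨c, fun k => c (c k), h3, h3⟩ (Equiv.ext h3)

end dec

theorem mem_T3 {c : Fin 5 → Fin 5} : c ∈ T3 ↔ ∀ k, c (c (c k)) = k := by
  rw [T3, Finset.mem_filter]; exact ⟨fun h => h.2, fun h => ⟨Finset.mem_univ _, h⟩⟩

theorem mem_T2 {c : Fin 5 → Fin 5} {e : Fin 5 → Bool} :
    e ∈ T2 c ↔ ∀ k, xor (e k) (xor (e (c k)) (e (c (c k)))) = false := by
  rw [T2, Finset.mem_filter]; exact ⟨fun h => h.2, fun h => ⟨Finset.mem_univ _, h⟩⟩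

attribute [irreducible] T3 T2

/-- the possible `(c, e)` for elements of order three -/
def P3 (ce : (Fin 5 → Fin 5) × (Fin 5 → Bool)) : Prop :=
  ∀ k, ce.1 (ce.1 (ce.1 k)) = k ∧ xor (ce.2 k) (xor (ce.2 (ce.1 k)) (ce.2 (ce.1 (ce.1 k)))) = false

theorem card_P3_aux (T : Finset (Fin 5 → Fin 5)) (S : Finset ((Fin 5 → Fin 5) × (Fin 5 → Bool)))
    (hS : ∀ ce ∈ S, P3 ce ∧ ce.1 ∈ T) : S.card ≤ 4 * T.card := by
  refine Finset.card_le_mul_card_image_of_maps_to (f := Prod.fst) (t := T)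
    (fun a ha => (hS a ha).2) 4 (fun c hc => ?_)
  by_cases hne : ∃ ce ∈ S, ce.1 = c
  · obtain ⟨ce₀, h1, h2⟩ := hne
    have h3 : ∀ k, c (c (c k)) = k := by
      intro k
      have := ((hS ce₀ h1).1 k).1
      rwa [h2] at this
    have h4 := dec2 c h3
    refine le_trans ?_ h4
    refine Finset.card_le_card_of_injOn (fun ce => ce.2) ?_ ?_
    · intro ce hce
      obtain ⟨h5, h6⟩ := Finset.mem_filter.1 (Finset.mem_coe.1 hce)
      refine Finset.mem_coe.2 (mem_T2.2 fun k => ?_)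
      have := ((hS ce h5).1 k).2
      rwa [h6] at this
    · intro a ha b hb hab
      have h5 := (Finset.mem_filter.1 (Finset.mem_coe.1 ha)).2
      have h6 := (Finset.mem_filter.1 (Finset.mem_coe.1 hb)).2
      exact Prod.ext (h5.trans h6.symm) hab
  · have h3 : S.filter (fun ce => ce.1 = c) = ∅ := by
      rw [Finset.filter_eq_empty_iff]
      intro ce h1 h2
      exact hne ⟨ce, h1, h2⟩
    rw [h3, Finset.card_empty]
    exact Nat.zero_le _

theorem card_P3 {S : Finset ((Fin 5 → Fin 5) × (Fin 5 → Bool))} (hS : ∀ ce ∈ S, P3 ce) : S.card ≤ 84 := by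
  have h1 := card_P3_aux T3 S (fun ce hce => ⟨hS ce hce, mem_T3.2 fun k => ((hS ce hce) k).1⟩)
  rw [dec1] at h1
  exact h1

theorem card_P3' {S : Finset ((Fin 5 → Fin 5) × (Fin 5 → Bool))} (hS : ∀ ce ∈ S, P3 ce ∧ ∃ k, ce.1 k ≠ k) :
    S.card ≤ 80 := by
  have h1 := card_P3_aux (T3.erase id) S (fun ce hce => ⟨(hS ce hce).1, Finset.mem_erase.2 ⟨?_,
    mem_T3.2 fun k => ((hS ce hce).1 k).1⟩⟩)
  · rw [Finset.card_erase_of_mem (mem_T3.2 fun k => rfl), dec1] at h1
    exact h1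
  · intro h3
    obtain ⟨k, hk⟩ := (hS ce hce).2
    apply hk
    rw [h3]; rfl

variable {p : ℕ} [Fact p.Prime] {V : Type u} [AddCommGroup V] [Module (ZMod p) V] [Finite V]
  {G A E : Subgroup (V ≃ₗ[ZMod p] V)} {h : ℕ} {t : Fin 5 → (V ≃ₗ[ZMod p] V)}

/-- `± 1` -/
def sgn (p : ℕ) [Fact p.Prime] (V : Type u) [AddCommGroup V] [Module (ZMod p) V] (b : Bool) : V ≃ₗ[ZMod p] V :=
  if b then ng p V else 1

theorem sgn_comm (b : Bool) (g : V ≃ₗ[ZMod p] V) : sgn p V b * g = g * sgn p V b := by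
  cases b
  · change (1 : V ≃ₗ[ZMod p] V) * g = g * 1
    rw [one_mul, mul_one]
  · exact ng_comm g

theorem sgn_mul (b b' : Bool) : sgn p V b * sgn p V b' = sgn p V (xor b b') := by
  cases b <;> cases b'
  · exact one_mul _
  · exact one_mul _
  · exact mul_one _
  · exact ng_mul_ng

theorem sgn_inv (b : Bool) : sgn p V b * sgn p V b = 1 := by
  rw [sgn_mul]; cases b <;> rfl

/-- `v = -v` implies `v = 0` -/
theorem zero_of_neg (hp : 3 ≤ p) {v : V} (h : v = -v) : v = 0 := by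
  have h8 : (2 : ZMod p) • v = 0 := by
    rw [two_smul]
    nth_rewrite 1 [h]
    exact neg_add_cancel _
  exact (smul_eq_zero.1 h8).resolve_left (two_ne' hp)

/-- a common eigenvector of `t j` and `t k` vanishes -/
theorem eig_zero (hp : 3 ≤ p) (ht : Frame5 t) {j k : Fin 5} (hjk : j ≠ k) {v : V} (b b' : Bool)
    (h1 : t j v = sgn p V b v) (h2 : t k v = sgn p V b' v) : v = 0 := by
  have h3 := ht.anti j k hjk v
  change t j (t k v) = -(t k (t j v)) at h3
  have h4 : t j (sgn p V b' v) = sgn p V b' (t j v) := by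
    have := LinearEquiv.congr_fun (sgn_comm (p := p) (V := V) b' (t j)) v
    exact this.symm
  have h5 : t k (sgn p V b v) = sgn p V b (t k v) := by
    have := LinearEquiv.congr_fun (sgn_comm (p := p) (V := V) b (t k)) v
    exact this.symm
  rw [h2, h4, h1, h5, h2] at h3
  have h6 : sgn p V b' (sgn p V b v) = sgn p V b (sgn p V b' v) := by
    have := LinearEquiv.congr_fun (sgn_comm (p := p) (V := V) b' (sgn p V b)) v
    exact this
  rw [h6] at h3
  have h7 := zero_of_neg hp h3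
  have h8 : sgn p V b' v = 0 := (LinearEquiv.map_eq_zero_iff _).1 h7
  exact (LinearEquiv.map_eq_zero_iff _).1 h8

/-- `g` permutes the `± t k` -/
def Rel (t : Fin 5 → (V ≃ₗ[ZMod p] V)) (g : V ≃ₗ[ZMod p] V) (c : Fin 5 → Fin 5) (e : Fin 5 → Bool) : Prop :=
  ∀ k, g * t k = sgn p V (e k) * (t (c k) * g)

theorem Rel.one : Rel t 1 id (fun _ => false) := by
  intro k
  change 1 * t k = 1 * (t k * 1)
  rw [one_mul, mul_one, one_mul]

theorem Rel.mul {g g' : V ≃ₗ[ZMod p] V} {c c' : Fin 5 → Fin 5} {e e' : Fin 5 → Bool} (h : Rel t g c e)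
    (h' : Rel t g' c' e') : Rel t (g * g') (fun k => c (c' k)) (fun k => xor (e' k) (e (c' k))) := by
  intro k
  change g * g' * t k = _
  rw [mul_assoc, h' k, ← mul_assoc g, ← sgn_comm, mul_assoc, ← mul_assoc g, h (c' k), ← sgn_mul]
  simp only [mul_assoc]

theorem sgn_inj (hp : 3 ≤ p) [Nontrivial V] (ht : Frame5 t) {j k : Fin 5} {b b' : Bool}
    (h : sgn p V b * t j = sgn p V b' * t k) : j = k ∧ b = b' := by
  have h1 : j = k := by
    by_contra hjk
    obtain ⟨v, hv, hvt⟩ := Frame5.exists_fix hp ht k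
    apply hv
    refine eig_zero hp ht hjk (xor b b') false ?_ hvt
    have h2 : t j = sgn p V (xor b b') * t k := by
      rw [← sgn_mul, mul_assoc, ← h, ← mul_assoc, sgn_inv, one_mul]
    have := LinearEquiv.congr_fun h2 v
    rw [this]
    change sgn p V (xor b b') (t k v) = _
    rw [hvt]
  subst h1
  refine ⟨rfl, ?_⟩
  have h2 : sgn p V b = sgn p V b' := mul_right_cancel h
  obtain ⟨v, hv⟩ := exists_ne (0 : V)
  have h3 := LinearEquiv.congr_fun h2 v
  cases b <;> cases b'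
  · rfl
  · exact absurd (zero_of_neg hp (show v = -v from h3)) hv
  · exact absurd (zero_of_neg hp (show v = -v from h3.symm)) hv
  · rfl

theorem Rel.unique (hp : 3 ≤ p) [Nontrivial V] (ht : Frame5 t) {g : V ≃ₗ[ZMod p] V} {c c' : Fin 5 → Fin 5}
    {e e' : Fin 5 → Bool} (h : Rel t g c e) (h' : Rel t g c' e') (k : Fin 5) : c k = c' k ∧ e k = e' k := by
  have h1 := (h k).symm.trans (h' k)
  rw [← mul_assoc, ← mul_assoc] at h1
  exact sgn_inj hp ht (mul_right_cancel h1)

theorem Rel.p3 (hp : 3 ≤ p) [Nontrivial V] (ht : Frame5 t) {g : V ≃ₗ[ZMod p] V} {c : Fin 5 → Fin 5}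
    {e : Fin 5 → Bool} (h : Rel t g c e) (h3 : g ^ 3 = 1) : P3 (c, e) := by
  intro k
  have h1 := h.mul (h.mul h)
  rw [show g * (g * g) = 1 by rw [← h3, pow_succ, pow_two, mul_assoc]] at h1
  obtain ⟨h4, h5⟩ := h1.unique hp ht Rel.one k
  refine ⟨h4, ?_⟩
  simp only at h5 ⊢
  rw [← h5]
  cases e k <;> cases e (c k) <;> cases e (c (c k)) <;> rfl

theorem p3_of (hp : 3 ≤ p) [Nontrivial V] (ht : Frame5 t) {g : V ≃ₗ[ZMod p] V}
    {ce : (Fin 5 → Fin 5) × (Fin 5 → Bool)} (h : Rel t g ce.1 ce.2) (h3 : g ^ 3 = 1) : P3 ce := by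
  obtain ⟨c, e⟩ := ce
  exact Rel.p3 hp ht h h3

/-- two elements with the same data -/
theorem Rel.comm {g g' : V ≃ₗ[ZMod p] V} {c : Fin 5 → Fin 5} {e : Fin 5 → Bool} (h : Rel t g c e)
    (h' : Rel t g' c e) (k : Fin 5) : (g⁻¹ * g') * t k = t k * (g⁻¹ * g') := by
  have h1 := h' k
  have h2 : sgn p V (e k) * t (c k) = g * t k * g⁻¹ := by rw [h k]; group
  rw [← mul_assoc, h2] at h1
  calc (g⁻¹ * g') * t k = g⁻¹ * (g' * t k) := by group
    _ = g⁻¹ * (g * t k * g⁻¹ * g') := by rw [h1]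
    _ = t k * (g⁻¹ * g') := by group

/-- the setting -/
structure Ef (G A E : Subgroup (V ≃ₗ[ZMod p] V)) (t : Fin 5 → (V ≃ₗ[ZMod p] V)) : Prop where
  frame : Frame5 t
  mem : ∀ k, t k ∈ E
  cl : E = Subgroup.closure (Set.range t)
  inv : ∀ x ∈ E, x * x = 1 → (∀ v : V, x v = v) ∨ (∀ v : V, x v = -v) ∨ ∃ k, x = t k ∨ ∀ v : V, x v = -(t k v)
  EG : E ≤ G
  AG : A ≤ G
  nE : ∀ g ∈ G, ∀ x ∈ E, g * x * g⁻¹ ∈ E
  nA : ∀ g ∈ G, ∀ a ∈ A, g * a * g⁻¹ ∈ A
  semi : ∀ a ∈ A, a ≠ 1 → ∀ v : V, a v = v → v = 0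
  cenA : ∀ a ∈ A, ∀ x ∈ E, a * x = x * a
  cen : ∀ g ∈ G, (∀ x ∈ E, g * x = x * g) → (∀ a ∈ A, g * a = a * g) → g ∈ A

theorem comm_E {E : Subgroup (V ≃ₗ[ZMod p] V)} (hcl : E = Subgroup.closure (Set.range t)) {g : V ≃ₗ[ZMod p] V}
    (hg : ∀ k, g * t k = t k * g) : ∀ x ∈ E, g * x = x * g := by
  intro x hx
  rw [hcl] at hx
  have hle : Subgroup.closure (Set.range t) ≤ Subgroup.centralizer {g} := by
    rw [Subgroup.closure_le]
    rintro _ ⟨k, rfl⟩
    rw [SetLike.mem_coe, Subgroup.mem_centralizer_singleton_iff]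
    exact (hg k).symm
  exact (Subgroup.mem_centralizer_singleton_iff.1 (hle hx)).symm

theorem Ef.exists_rel (H : Ef G A E t) (hp : 3 ≤ p) [Nontrivial V] {g : V ≃ₗ[ZMod p] V} (hg : g ∈ G) :
    ∃ (c : Fin 5 → Fin 5) (e : Fin 5 → Bool), Rel t g c e := by
  have hk : ∀ k, ∃ (j : Fin 5) (b : Bool), g * t k = sgn p V b * (t j * g) := by
    intro k
    have ht := H.frame
    have h3 : g * t k * g⁻¹ ∈ E := H.nE g hg _ (H.mem k)
    have h4 : (g * t k * g⁻¹) * (g * t k * g⁻¹) = 1 := by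
      have : (g * t k * g⁻¹) * (g * t k * g⁻¹) = g * (t k * t k) * g⁻¹ := by group
      rw [this, ht.sq k, mul_one, mul_inv_cancel]
    have hne : ∀ b : Bool, g * t k * g⁻¹ ≠ sgn p V b := by
      intro b hb
      have h5 : t k = sgn p V b := by
        have : t k = g⁻¹ * (g * t k * g⁻¹) * g := by group
        rw [this, hb, mul_assoc, sgn_comm, ← mul_assoc, inv_mul_cancel, one_mul]
      obtain ⟨j, hj⟩ : ∃ j : Fin 5, j ≠ k := exists_ne k
      obtain ⟨v, hv, hvt⟩ := Frame5.exists_fix hp ht j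
      apply hv
      refine eig_zero hp ht hj false b hvt ?_
      rw [h5]
    rcases H.inv _ h3 h4 with h5 | h5 | ⟨j, h5 | h5⟩
    · exact absurd (LinearEquiv.ext h5) (hne false)
    · exact absurd (LinearEquiv.ext h5) (hne true)
    · refine ⟨j, false, ?_⟩
      change g * t k = 1 * (t j * g)
      rw [one_mul, ← h5]; group
    · refine ⟨j, true, ?_⟩
      have h6 : g * t k * g⁻¹ = ng p V * t j := LinearEquiv.ext h5
      change g * t k = ng p V * (t j * g)
      rw [← mul_assoc, ← h6]; group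
  choose c e hce using hk
  exact ⟨c, e, hce⟩

section ks

variable {K : Type u} [Field K] [Module K V] {χ : A →* Kˣ} {σ : G →* (K ≃+* K)}

/-- the data of an element -/
noncomputable def dat (t : Fin 5 → (V ≃ₗ[ZMod p] V)) (g : V ≃ₗ[ZMod p] V) : (Fin 5 → Fin 5) × (Fin 5 → Bool) :=
  if h : ∃ ce : (Fin 5 → Fin 5) × (Fin 5 → Bool), Rel t g ce.1 ce.2 then h.choose else (id, fun _ => false)

theorem Ef.dat_spec (H : Ef G A E t) (hp : 3 ≤ p) [Nontrivial V] {g : V ≃ₗ[ZMod p] V} (hg : g ∈ G) :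
    Rel t g (dat t g).1 (dat t g).2 := by
  obtain ⟨c, e, h⟩ := H.exists_rel hp hg
  have h1 : ∃ ce : (Fin 5 → Fin 5) × (Fin 5 → Bool), Rel t g ce.1 ce.2 := ⟨(c, e), h⟩
  rw [dat, dif_pos h1]
  exact h1.choose_spec

attribute [irreducible] dat

/-- elements with the same data and the same action on `A` -/
theorem Ef.mem_A (H : Ef G A E t) (hK : KS G A K χ σ) (hp : 3 ≤ p) [Nontrivial V] {g g' : G} (h1 : σ g = σ g')
    (h2 : dat t (g : V ≃ₗ[ZMod p] V) = dat t (g' : V ≃ₗ[ZMod p] V)) :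
    (g : V ≃ₗ[ZMod p] V)⁻¹ * (g' : V ≃ₗ[ZMod p] V) ∈ A := by
  have h3 := H.dat_spec hp g.2
  have h4 := H.dat_spec hp g'.2
  rw [← h2] at h4
  refine H.cen _ (G.mul_mem (G.inv_mem g.2) g'.2) (comm_E H.cl (h3.comm h4)) ?_
  intro a ha
  have h5 : σ (g⁻¹ * g') = 1 := by rw [map_mul, map_inv, h1, inv_mul_cancel]
  exact (hK.cen _).1 h5 a ha

/-- fixed spaces of elements of order three moving the frame -/
theorem card_fx_lin (hp : 3 ≤ p) (ht : Frame5 t) {y : V ≃ₗ[ZMod p] V} {c : Fin 5 → Fin 5} {e : Fin 5 → Bool}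
    (h : Rel t y c e) {k : Fin 5} (hk : c k ≠ k) : Nat.card (fx y) ^ 2 ≤ Nat.card V := by
  apply card_sq_le (n := t k)
  intro w hw hnw
  rw [mem_fx] at hw hnw
  -- `t k w = ± t (c k) w`
  have h1 : y (t k w) = sgn p V (e k) (t (c k) (y w)) := LinearEquiv.congr_fun (h k) w
  rw [hnw, hw] at h1
  -- `u = t k w`: `t k u = w`, `t (c k) u = ± w`
  obtain ⟨b, hb⟩ : ∃ b, b = e k := ⟨_, rfl⟩
  rw [← hb] at h1
  have h2 : t (c k) (t k w) = sgn p V b w := by
    rw [h1]
    have h3 := LinearEquiv.congr_fun (sgn_comm (p := p) (V := V) b (t (c k))) (t (c k) w)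
    have h4 : t (c k) (sgn p V b (t (c k) w)) = sgn p V b (t (c k) (t (c k) w)) := h3.symm
    rw [h4]
    have h5 : t (c k) (t (c k) w) = w := LinearEquiv.congr_fun (ht.sq (c k)) w
    rw [h5]
  have h3 : t k (t k w) = w := LinearEquiv.congr_fun (ht.sq k) w
  have h4 := ht.anti (c k) k hk w
  change t (c k) (t k w) = -(t k (t (c k) w)) at h4
  have h5 : t k (t (c k) w) = sgn p V b w := by
    have h6 : t (c k) w = sgn p V b (t k w) := by
      rw [h1]
      have := LinearEquiv.congr_fun (sgn_inv (p := p) (V := V) b) (t (c k) w)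
      exact this.symm
    rw [h6]
    have h7 : t k (sgn p V b (t k w)) = sgn p V b (t k (t k w)) :=
      (LinearEquiv.congr_fun (sgn_comm (p := p) (V := V) b (t k)) (t k w)).symm
    rw [h7, h3]
  rw [h2, h5] at h4
  exact (LinearEquiv.map_eq_zero_iff _).1 (zero_of_neg hp h4)

theorem pow_eq_of {Γ : Type*} [Group Γ] {y : Γ} {r s : ℕ} (h : y ^ r = 1) (e : r = s) : y ^ s = 1 := by
  subst e; exact h

theorem xor3 : ∀ b : Bool, xor b (xor b b) = false → b = false := by decide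

/-- the data, on `G` -/
noncomputable def datG (t : Fin 5 → (V ≃ₗ[ZMod p] V)) (G : Subgroup (V ≃ₗ[ZMod p] V)) (y : G) :
    (Fin 5 → Fin 5) × (Fin 5 → Bool) := dat t (y : V ≃ₗ[ZMod p] V)

/-- elements of order three of `C_G(A)` move the frame -/
theorem Ef.moves (H : Ef G A E t) (hK : KS G A K χ σ) (hp3 : p = 3) [Nontrivial V] {y : G} (hy : orderOf y = 3)
    (hσ : σ y = 1) : P3 (dat t (y : V ≃ₗ[ZMod p] V)) ∧ ∃ k, (dat t (y : V ≃ₗ[ZMod p] V)).1 k ≠ k := by
  have hp : 3 ≤ p := by omega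
  have h1 := H.dat_spec hp y.2
  have h2 : P3 (dat t (y : V ≃ₗ[ZMod p] V)) := p3_of hp H.frame h1 (powo' hy)
  refine ⟨h2, ?_⟩
  by_contra hc
  push Not at hc
  have h3 : ∀ k, (dat t (y : V ≃ₗ[ZMod p] V)).2 k = false := by
    intro k
    have h4 := (h2 k).2
    rw [hc, hc] at h4
    exact xor3 _ h4
  have h4 : ∀ k, (y : V ≃ₗ[ZMod p] V) * t k = t k * (y : V ≃ₗ[ZMod p] V) := by
    intro k
    have h5 := h1 k
    rw [hc, h3] at h5
    rw [h5]
    exact one_mul _
  have h5 : (y : V ≃ₗ[ZMod p] V) ∈ A := H.cen _ y.2 (comm_E H.cl h4) ((hK.cen y).1 hσ)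
  have h6 := eq_one_of_pow (cop_of_semi H.semi) h5 (powo' (hy.trans hp3.symm))
  have h7 : y = 1 := Subtype.ext h6
  rw [h7, orderOf_one] at hy
  omega

/-- **the linear case** -/
theorem Ef.lin (H : Ef G A E t) (hK : KS G A K χ σ) (hh : Half G h) (hp3 : p = 3) [Nontrivial V]
    (hd : p ∣ Nat.card (G ⊓ Subgroup.centralizer (A : Set (V ≃ₗ[ZMod p] V)) :
      Subgroup (V ≃ₗ[ZMod p] V))) : Nat.card V < 6561 := by
  have hp : 3 ≤ p := by omega
  haveI := Fintype.ofFinite G
  have hAcop : ¬ p ∣ Nat.card A := cop_of_semi H.semi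
  have hP := pex_of_normal hh (inf_le_left : G ⊓ Subgroup.centralizer (A : Set (V ≃ₗ[ZMod p] V)) ≤ G)
    (cent_normal H.nA)
  have hcov : ∀ v : V, v ≠ 0 → ∃ y : G, (orderOf y = 3 ∧ σ y = 1) ∧ (y : V ≃ₗ[ZMod p] V) v = v := by
    intro v hv
    obtain ⟨y, hy, hyo, hyv⟩ := hP.exists_fix hd hv
    exact ⟨⟨y, hy.1⟩, ⟨by rw [Subgroup.orderOf_mk, hyo, hp3], sigma_one hK hy⟩, hyv⟩
  have hB : Nat.card {y : G // orderOf y = 3 ∧ σ y = 1} ≤ 80 := by
    rw [Nat.card_eq_fintype_card, Fintype.card_subtype]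
    have h1 : ((Finset.univ.filter (fun y : G => orderOf y = 3 ∧ σ y = 1)).image
        (datG t G)).card ≤ 80 := by
      refine card_P3' ?_
      intro ce hce
      obtain ⟨y, hy, rfl⟩ := Finset.mem_image.1 hce
      have h2 := (Finset.mem_filter.1 hy).2
      exact H.moves hK hp3 h2.1 h2.2
    rw [Finset.card_image_of_injOn] at h1
    · exact h1
    · intro a ha b hb hab
      have h2 := (Finset.mem_filter.1 (Finset.mem_coe.1 ha)).2
      have h3 := (Finset.mem_filter.1 (Finset.mem_coe.1 hb)).2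
      have h4 := H.mem_A hK hp (h2.2.trans h3.2.symm) hab
      have hc : Commute (a : V ≃ₗ[ZMod p] V) ((a : V ≃ₗ[ZMod p] V)⁻¹ * (b : V ≃ₗ[ZMod p] V)) :=
        (hK.cen a).1 h2.2 _ h4
      have e1 : (b : V ≃ₗ[ZMod p] V) = (a : V ≃ₗ[ZMod p] V) * ((a : V ≃ₗ[ZMod p] V)⁻¹ *
        (b : V ≃ₗ[ZMod p] V)) := by group
      have e2 : (b : V ≃ₗ[ZMod p] V) ^ p = 1 := powo' (h3.1.trans hp3.symm)
      have e3 : (a : V ≃ₗ[ZMod p] V) ^ p = 1 := powo' (h2.1.trans hp3.symm)
      rw [e1, hc.mul_pow, e3, one_mul] at e2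
      have e4 := eq_one_of_pow hAcop h4 e2
      have e5 : (b : V ≃ₗ[ZMod p] V) = a := by rw [e1, e4, mul_one]
      exact Subtype.ext e5.symm
  have hw : ∀ y : G, (orderOf y = 3 ∧ σ y = 1) →
      Nat.card (fx (y : V ≃ₗ[ZMod p] V)) ≤ Nat.sqrt (Nat.card V) := by
    intro y hy
    obtain ⟨h1, k, hk⟩ := H.moves hK hp3 hy.1 hy.2
    have h2 := card_fx_lin hp H.frame (H.dat_spec hp y.2) hk
    rw [pow_two] at h2
    exact Nat.le_sqrt.2 h2
  have h1 := cover hcov hB hw
  have h2 := Nat.sqrt_le (Nat.card V)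
  have h3 : Nat.sqrt (Nat.card V) ≤ 79 := by
    by_contra hc
    push Not at hc
    obtain ⟨k, hk⟩ := Nat.exists_eq_add_of_le hc
    rw [hk] at h1 h2
    have h4 : 80 * (79 + 1 + k - 1) + 1 = 80 * k + 6321 := by omega
    rw [h4] at h1
    nlinarith only [h2, h1]
  have h4 : 80 * (Nat.sqrt (Nat.card V) - 1) ≤ 80 * 78 := Nat.mul_le_mul_left _ (by omega)
  omega

/-- one coset of `A`, semilinear elements -/
theorem coset_sm [Nontrivial V] (hnA : ∀ g ∈ G, ∀ a ∈ A, g * a * g⁻¹ ∈ A) (hK : KS G A K χ σ) {r : ℕ}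
    (hr : r.Prime) {q₀ : ℕ} (hq : Nat.card K = q₀ ^ r) {y₁ : G} (h1 : y₁ ^ r = 1) (h2 : σ y₁ ≠ 1) :
    Nat.card {y : G // y ^ r = 1 ∧ (y₁ : V ≃ₗ[ZMod p] V)⁻¹ * (y : V ≃ₗ[ZMod p] V) ∈ A} ≤
      (q₀ ^ r - 1) / (q₀ - 1) := by
  haveI := hK.fin
  have hit : ∀ (g : V ≃ₗ[ZMod p] V) (k : ℕ) (v : V), (fun w : V => g w)^[k] v = (g ^ k) v := by
    intro g k v
    induction k with
    | zero => rfl
    | succ k ih =>
      rw [Function.iterate_succ', Function.comp_apply, ih, pow_succ']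
      rfl
  have h1' : (y₁ : V ≃ₗ[ZMod p] V) ^ r = 1 := congrArg Subtype.val h1
  obtain ⟨q, hq1, hq2, hq3⟩ := Cfsg.Agent.H528.HT.card_norm_semi' (K := K) (W := V) (σ y₁) h2 hr
    (y₁ : V ≃ₗ[ZMod p] V).toAddEquiv (fun k w => hK.semi y₁ k w) (fun w => by
      have := hit (y₁ : V ≃ₗ[ZMod p] V) r w
      rw [h1'] at this
      exact this)
  have e : q = q₀ := by
    rw [hq] at hq2
    exact (Nat.pow_left_injective hr.ne_zero hq2).symm
  rw [e] at hq3 hq1
  rw [Nat.le_div_iff_mul_le (by omega), mul_comm]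
  refine le_trans (Nat.mul_le_mul_left _ ?_) hq3
  have hkf : Finite Kˣ := inferInstance
  have hmem : ∀ y : {y : G // y ^ r = 1 ∧ (y₁ : V ≃ₗ[ZMod p] V)⁻¹ * (y : V ≃ₗ[ZMod p] V) ∈ A},
      (y.1 : V ≃ₗ[ZMod p] V) * (y₁ : V ≃ₗ[ZMod p] V)⁻¹ ∈ A := by
    intro y
    have h3 := hnA y₁ y₁.2 _ y.2.2
    have h4 : (y₁ : V ≃ₗ[ZMod p] V) * ((y₁ : V ≃ₗ[ZMod p] V)⁻¹ * (y.1 : V ≃ₗ[ZMod p] V)) *
      (y₁ : V ≃ₗ[ZMod p] V)⁻¹ = (y.1 : V ≃ₗ[ZMod p] V) * (y₁ : V ≃ₗ[ZMod p] V)⁻¹ := by group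
    rwa [h4] at h3
  refine Nat.card_le_card_of_injective
    (fun y => ⟨χ ⟨(y.1 : V ≃ₗ[ZMod p] V) * (y₁ : V ≃ₗ[ZMod p] V)⁻¹, hmem y⟩, ?_⟩) ?_
  · intro w
    have h3 : (fun w : V => ((χ ⟨(y.1 : V ≃ₗ[ZMod p] V) * (y₁ : V ≃ₗ[ZMod p] V)⁻¹, hmem y⟩ : Kˣ) : K) •
        (y₁ : V ≃ₗ[ZMod p] V).toAddEquiv w) = fun w : V => (y.1 : V ≃ₗ[ZMod p] V) w := by
      funext w
      have h4 := hK.act ⟨(y.1 : V ≃ₗ[ZMod p] V) * (y₁ : V ≃ₗ[ZMod p] V)⁻¹, hmem y⟩ ((y₁ : V ≃ₗ[ZMod p] V) w)
      have h5 : ((y.1 : V ≃ₗ[ZMod p] V) * (y₁ : V ≃ₗ[ZMod p] V)⁻¹) ((y₁ : V ≃ₗ[ZMod p] V) w) =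
          (y.1 : V ≃ₗ[ZMod p] V) w := by
        rw [← LinearEquiv.mul_apply, inv_mul_cancel_right]
      exact h4.symm.trans h5
    have h6 : (y.1 : V ≃ₗ[ZMod p] V) ^ r = 1 := congrArg Subtype.val y.2.1
    rw [h3, hit, h6]
    rfl
  · intro a b h
    have h5 := hK.inj (congrArg Subtype.val h)
    have h6 := congrArg Subtype.val h5
    have h7 : (a.1 : V ≃ₗ[ZMod p] V) = b.1 := mul_right_cancel h6
    exact Subtype.ext (Subtype.ext h7)

/-- `3 ^ b ≡ 1 mod 16` -/
theorem four_dvd_of {b : ℕ} (h : 32 ∣ 10 * (3 ^ b - 1)) : 4 ∣ b := by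
  have h1 : 3 ^ b % 16 = 1 := by
    have h2 : 1 ≤ 3 ^ b := Nat.one_le_pow _ _ (by norm_num)
    omega
  rcases Nat.eq_zero_or_pos b with rfl | hb
  · exact dvd_zero 4
  · have key : ∀ k : ℕ, 3 ^ (4 * k) % 16 = 1 := by
      intro k
      induction k with
      | zero => rfl
      | succ k ih =>
        rw [Nat.mul_succ, pow_add, Nat.mul_mod, ih]
        norm_num
    obtain ⟨k, r, hr, rfl⟩ : ∃ k r, r < 4 ∧ b = 4 * k + r := ⟨b / 4, b % 4, Nat.mod_lt _ (by norm_num), by omega⟩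
    rw [pow_add, Nat.mul_mod, key] at h1
    interval_cases r
    · exact ⟨k, by omega⟩
    · norm_num at h1
    · norm_num at h1
    · norm_num at h1

/-- **the semilinear case** -/
theorem Ef.semil (H : Ef G A E t) (hK : KS G A K χ σ) (hh : Half G h) (hp3 : p = 3) [Nontrivial V]
    (hG : p ∣ Nat.card G)
    (hd : ¬ p ∣ Nat.card (G ⊓ Subgroup.centralizer (A : Set (V ≃ₗ[ZMod p] V)) :
      Subgroup (V ≃ₗ[ZMod p] V))) {Q : ℕ} (hQ : Nat.card V = Q ^ 2) (hQ' : Q = 9 ∨ 32 ∣ 10 * (Q - 1)) : False := by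
  have hp : 3 ≤ p := by omega
  haveI := Fintype.ofFinite G
  haveI := hK.fin
  haveI : Module.Finite K V := Module.Finite.of_finite
  obtain ⟨s, hs, hcov⟩ := exists_semi hK hh hG hd
  have hpp : p.Prime := Fact.out
  obtain ⟨v₀, hv₀⟩ := exists_ne (0 : V)
  obtain ⟨y₀, ⟨hy1, hy2⟩, -⟩ := hcov v₀ hv₀
  obtain ⟨q₀, hq2, hqK⟩ := exists_q0 hK hpp hy1 (by rw [hy2]; exact hs)
  have hσt : ∀ k, σ ⟨t k, H.EG (H.mem k)⟩ = 1 := by
    intro k
    rw [hK.cen]
    intro x hx
    exact (H.cenA x hx _ (H.mem k)).symm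
  have hd2 : 2 ≤ Module.finrank K V := by
    refine K_sq_le hK (hσt 0) (hσt 1) ?_
    intro h2
    have h2' : t 0 * t 1 = t 1 * t 0 := h2
    have h3 := H.frame.anti 0 1 (by decide) v₀
    rw [h2'] at h3
    have h4 := zero_of_neg hp h3
    exact hv₀ ((LinearEquiv.map_eq_zero_iff _).1 h4)
  obtain ⟨X, hX⟩ : ∃ X, X = q₀ ^ Module.finrank K V := ⟨_, rfl⟩
  have hVX : Nat.card V = X ^ p := by
    have h1 : Nat.card V = Nat.card K ^ Module.finrank K V := Module.natCard_eq_pow_finrank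
    rw [h1, hqK, hX, ← pow_mul, ← pow_mul, mul_comm]
  have hXq : q₀ ^ 2 ≤ X := by rw [hX]; exact Nat.pow_le_pow_right (by omega) hd2
  have hw : ∀ y : G, (y ^ p = 1 ∧ σ y = s) → Nat.card (fx (y : V ≃ₗ[ZMod p] V)) ≤ X := by
    intro y hy
    have h1 := card_fx_semi hK hpp hy.1 (by rw [hy.2]; exact hs)
    rw [hVX] at h1
    exact (Nat.pow_le_pow_iff_left hpp.ne_zero).1 h1
  have hB : Nat.card {y : G // y ^ p = 1 ∧ σ y = s} ≤ (q₀ ^ p - 1) / (q₀ - 1) * 84 := by
    have h1 : ((Finset.univ.filter (fun y : G => y ^ p = 1 ∧ σ y = s)).image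
        (datG t G)).card ≤ 84 := by
      refine card_P3 ?_
      intro ce hce
      obtain ⟨y, hy, rfl⟩ := Finset.mem_image.1 hce
      have h2 := (Finset.mem_filter.1 hy).2
      refine p3_of hp H.frame (H.dat_spec hp y.2) ?_
      have h3 : y ^ 3 = 1 := pow_eq_of h2.1 hp3
      exact congrArg Subtype.val h3
    have h2 := card_le_mul_of (S := fun y : G => y ^ p = 1 ∧ σ y = s) (datG t G)
      ((Finset.univ.filter (fun y : G => y ^ p = 1 ∧ σ y = s)).image (datG t G))
      (fun y hy => Finset.mem_image.2 ⟨y, Finset.mem_filter.2 ⟨Finset.mem_univ _, hy⟩, rfl⟩)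
      ((q₀ ^ p - 1) / (q₀ - 1)) (fun b hb => by
        obtain ⟨y₁, hy₁, rfl⟩ := Finset.mem_image.1 hb
        have h3 := (Finset.mem_filter.1 hy₁).2
        refine le_trans (Nat.card_le_card_of_injective (fun y : {y : G // (y ^ p = 1 ∧ σ y = s) ∧
          dat t (y : V ≃ₗ[ZMod p] V) = dat t (y₁ : V ≃ₗ[ZMod p] V)} =>
          (⟨y.1, y.2.1.1, H.mem_A hK hp (h3.2.trans y.2.1.2.symm) y.2.2.symm⟩ :
          {y : G // y ^ p = 1 ∧ (y₁ : V ≃ₗ[ZMod p] V)⁻¹ * (y : V ≃ₗ[ZMod p] V) ∈ A})) ?_)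
          (coset_sm H.nA hK hpp hqK h3.1 (by rw [h3.2]; exact hs))
        intro a b hab
        have := congrArg (fun z : {y : G // y ^ p = 1 ∧ (y₁ : V ≃ₗ[ZMod p] V)⁻¹ * (y : V ≃ₗ[ZMod p] V) ∈ A} =>
          z.1) hab
        exact Subtype.ext this)
    exact h2.trans (Nat.mul_le_mul_left _ h1)
  have h1 := cover hcov hB hw
  -- numbers
  have hX3 : Nat.card V = X ^ 3 := by rw [hVX, hp3]
  have hdiv : (q₀ ^ p - 1) / (q₀ - 1) = q₀ ^ 2 + q₀ + 1 := by
    rw [hp3]
    obtain ⟨k, rfl⟩ := Nat.exists_eq_add_of_le' (show 1 ≤ q₀ by omega)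
    have h1 : (k + 1) ^ 3 - 1 = k * ((k + 1) ^ 2 + (k + 1) + 1) := by
      rw [show (k + 1) ^ 3 = k * ((k + 1) ^ 2 + (k + 1) + 1) + 1 by ring]
      rfl
    rw [h1, Nat.add_sub_cancel, Nat.mul_div_cancel_left _ (by omega)]
  rw [hX3, hdiv] at h1
  have hX1 : 1 ≤ X := le_trans (by nlinarith only [hq2]) hXq
  have h2 : q₀ ^ 2 + q₀ + 1 ≤ 2 * X := by nlinarith only [hq2, hXq]
  have h3 : X ^ 3 ≤ 168 * (X * X) := by
    calc X ^ 3 ≤ (q₀ ^ 2 + q₀ + 1) * 84 * (X - 1) + 1 := h1
      _ ≤ 2 * X * 84 * (X - 1) + 1 := by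
        have := Nat.mul_le_mul_right (84 * (X - 1)) h2
        linarith only [this]
      _ ≤ 2 * X * 84 * X := by
        obtain ⟨Y, rfl⟩ := Nat.exists_eq_add_of_le' hX1
        rw [Nat.add_sub_cancel]
        linarith only []
      _ = 168 * (X * X) := by ring
  have h4 : X ≤ 168 := by
    have : X * (X * X) ≤ 168 * (X * X) := by
      calc X * (X * X) = X ^ 3 := by ring
        _ ≤ _ := h3
    exact Nat.le_of_mul_le_mul_right this (by (clear * - hX1; positivity))
  -- powers of three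
  have hp3' : Nat.Prime 3 := by norm_num
  have hV3 : Nat.card V = 3 ^ Module.finrank (ZMod p) V := by
    rw [card_eq_pow (p := p) V]
    congr 1
  obtain ⟨b, -, hb⟩ := (Nat.dvd_prime_pow hp3').1 (show Q ∣ 3 ^ Module.finrank (ZMod p) V from by
    rw [← hV3, hQ]; exact dvd_pow_self Q (by norm_num))
  obtain ⟨a, -, ha⟩ := (Nat.dvd_prime_pow hp3').1 (show X ∣ 3 ^ Module.finrank (ZMod p) V from by
    rw [← hV3, hX3]; exact dvd_pow_self X (by norm_num))
  have hab : 3 ^ (a * 3) = 3 ^ (b * 2) := by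
    rw [pow_mul, pow_mul, ← ha, ← hb, ← hX3, hQ]
  have hab' : a * 3 = b * 2 := Nat.pow_right_injective (le_refl 2 |> fun _ => by norm_num) hab
  have hV1 : 1 < Nat.card V := Finite.one_lt_card
  have hb0 : b ≠ 0 := by
    rintro rfl
    rw [pow_zero] at hb
    rw [hQ, hb] at hV1
    omega
  have h4b : 4 ∣ b ∨ b = 2 := by
    rcases hQ' with h5 | h5
    · right
      have h6 : 3 ^ b = 3 ^ 2 := by rw [← hb, h5]; norm_num
      exact Nat.pow_right_injective (by norm_num) h6
    · left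
      rw [hb] at h5
      exact four_dvd_of h5
  have ha8 : 8 ≤ a := by (clear * - hab' hb0 h4b; omega)
  have h5 : 3 ^ 8 ≤ X := by rw [ha]; exact Nat.pow_le_pow_right (by norm_num) ha8
  omega

end ks

/-- the elements of `E` commute with `t k` up to sign -/
theorem E_sign {E : Subgroup (V ≃ₗ[ZMod p] V)} (hcl : E = Subgroup.closure (Set.range t)) (ht : Frame5 t) {x : V ≃ₗ[ZMod p] V}
    (hx : x ∈ E) (k : Fin 5) : ∃ b, t k * x = sgn p V b * (x * t k) := by
  rw [hcl] at hx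
  induction hx using Subgroup.closure_induction with
  | mem x hx =>
    obtain ⟨j, rfl⟩ := hx
    by_cases hjk : j = k
    · subst hjk
      exact ⟨false, (one_mul _).symm⟩
    · refine ⟨true, LinearEquiv.ext fun v => ?_⟩
      exact ht.anti k j (Ne.symm hjk) v
  | one => exact ⟨false, by rw [mul_one, one_mul]; exact (one_mul _).symm⟩
  | mul x y _ _ hx hy =>
    obtain ⟨b, hb⟩ := hx
    obtain ⟨b', hb'⟩ := hy
    refine ⟨xor b b', ?_⟩
    rw [← mul_assoc, hb, mul_assoc (sgn p V b), mul_assoc x, hb', ← sgn_mul, mul_assoc (sgn p V b)]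
    congr 1
    rw [← mul_assoc x, ← sgn_comm]
    simp only [mul_assoc]
  | inv x _ hx =>
    obtain ⟨b, hb⟩ := hx
    refine ⟨b, ?_⟩
    have h1 : x * t k = sgn p V b * (t k * x) := by
      rw [hb, ← mul_assoc, sgn_inv, one_mul]
    have h2 : t k * x⁻¹ = x⁻¹ * (x * t k) * x⁻¹ := by group
    rw [h2, h1]
    calc x⁻¹ * (sgn p V b * (t k * x)) * x⁻¹ = (x⁻¹ * sgn p V b) * t k := by group
      _ = sgn p V b * x⁻¹ * t k := by rw [sgn_comm]
      _ = sgn p V b * (x⁻¹ * t k) := by rw [mul_assoc]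

/-- the stabiliser in `E` of a non-zero vector has at most two elements -/
theorem stab_le_two {E : Subgroup (V ≃ₗ[ZMod p] V)} (hp : 3 ≤ p) (ht : Frame5 t) (Hs : Sym 2 2 E V)
    (hinv : ∀ x ∈ E, x * x = 1 → (∀ v : V, x v = v) ∨ (∀ v : V, x v = -v) ∨ ∃ k, x = t k ∨ ∀ v : V, x v = -(t k v))
    {v : V} (hv : v ≠ 0) : Nat.card (MulAction.stabilizer E v) ≤ 2 := by
  have h1 := Hs.stab_inf hv
  -- every non-trivial element of the stabiliser is `± t k`
  have key : ∀ x : E, x ∈ MulAction.stabilizer E v → x ≠ 1 → ∃ k b, (x : V ≃ₗ[ZMod p] V) = sgn p V b * t k := by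
    intro x hx hx1
    have h2 : x ^ 2 = 1 := Hs.expS h1 hx
    have h3 : (x : V ≃ₗ[ZMod p] V) * x = 1 := by
      rw [pow_two] at h2
      exact congrArg Subtype.val h2
    have hxv : (x : V ≃ₗ[ZMod p] V) v = v := hx
    rcases hinv x x.2 h3 with h4 | h4 | ⟨k, h4 | h4⟩
    · exact absurd (Subtype.ext (LinearEquiv.ext h4) : x = 1) hx1
    · exact absurd (zero_of_neg hp (hxv.symm.trans (h4 v))) hv
    · exact ⟨k, false, by rw [h4]; exact (one_mul _).symm⟩
    · exact ⟨k, true, LinearEquiv.ext h4⟩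
  have key2 : ∀ x y : E, x ∈ MulAction.stabilizer E v → y ∈ MulAction.stabilizer E v → x ≠ 1 → y ≠ 1 → x = y := by
    intro x y hx hy hx1 hy1
    obtain ⟨j, b, hj⟩ := key x hx hx1
    obtain ⟨k, b', hk⟩ := key y hy hy1
    have hxv : (x : V ≃ₗ[ZMod p] V) v = v := hx
    have hyv : (y : V ≃ₗ[ZMod p] V) v = v := hy
    have e1 : t j v = sgn p V b v := by
      have h2 : t j = sgn p V b * (x : V ≃ₗ[ZMod p] V) := by rw [hj, ← mul_assoc, sgn_inv, one_mul]
      rw [h2]
      change sgn p V b ((x : V ≃ₗ[ZMod p] V) v) = _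
      rw [hxv]
    have e2 : t k v = sgn p V b' v := by
      have h2 : t k = sgn p V b' * (y : V ≃ₗ[ZMod p] V) := by rw [hk, ← mul_assoc, sgn_inv, one_mul]
      rw [h2]
      change sgn p V b' ((y : V ≃ₗ[ZMod p] V) v) = _
      rw [hyv]
    have hjk : j = k := by
      by_contra hne
      exact hv (eig_zero hp ht hne b b' e1 e2)
    subst hjk
    have e3 : sgn p V b v = sgn p V b' v := e1.symm.trans e2
    have hbb : b = b' := by
      cases b <;> cases b'
      · rfl
      · exact absurd (zero_of_neg hp (show v = -v from e3)) hv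
      · exact absurd (zero_of_neg hp (show v = -v from e3.symm)) hv
      · rfl
    subst hbb
    exact Subtype.ext (hj.trans hk.symm)
  by_contra hc
  push Not at hc
  haveI := Fintype.ofFinite (MulAction.stabilizer E v)
  rw [Nat.card_eq_fintype_card, Fintype.two_lt_card_iff] at hc
  obtain ⟨a, b, c, hab, hac, hbc⟩ := hc
  have hE : ∀ x : MulAction.stabilizer E v, (x : E) = 1 → x = 1 := fun x hx => Subtype.ext hx
  by_cases ha : a = 1
  · subst ha
    exact hbc (Subtype.ext (key2 b c b.2 c.2 (fun h => hab (hE b h).symm) (fun h => hac (hE c h).symm)))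
  · by_cases hb : b = 1
    · subst hb
      exact hac (Subtype.ext (key2 a c a.2 c.2 (fun h => ha (hE a h)) (fun h => hbc (hE c h).symm)))
    · exact hab (Subtype.ext (key2 a b a.2 b.2 (fun h => ha (hE a h)) (fun h => hb (hE b h))))

/-- **the case `|V| = 81`** -/
theorem Ef.tra (H : Ef G A E t) (Hs : Sym 2 2 E V) (hz : Nat.card (Subgroup.center E) = 2) (hh : Half G h)
    (hp3 : p = 3) [Nontrivial V] (hG : p ∣ Nat.card G) (hhom : AllHomog G) (hV : Nat.card V = 81) : Tra G := by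
  have hp : 3 ≤ p := by omega
  have ht := H.frame
  obtain ⟨v₀, hv₀⟩ := exists_ne (0 : V)
  obtain ⟨m, hm, hm0⟩ := exists_m hh ⟨v₀, hv₀⟩
  have h0 := h_pos hh hv₀
  have hE32 : Nat.card E = 32 := by rw [Hs.card, hz]; norm_num
  have horb : ∀ v : V, v ≠ 0 → 16 ≤ Nat.card (MulAction.orbit E v) ∧ Nat.card (MulAction.orbit E v) ∣ 32 := by
    intro v hv
    have h1 := Nat.card_congr (MulAction.orbitProdStabilizerEquivGroup E v)
    rw [Nat.card_prod, hE32] at h1
    have h2 := stab_le_two hp ht Hs H.inv hv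
    refine ⟨?_, Dvd.intro _ h1⟩
    by_contra hc
    push Not at hc
    have : Nat.card (MulAction.orbit E v) * Nat.card (MulAction.stabilizer E v) ≤ 15 * 2 :=
      Nat.mul_le_mul (by omega) h2
    omega
  have h16 : 16 ∣ m := by
    obtain ⟨h1, h2⟩ := horb v₀ hv₀
    have h3 : 16 ∣ Nat.card (MulAction.orbit E v₀) := by
      have h4 := Nat.le_of_dvd (by norm_num) h2
      obtain ⟨k, hk⟩ := h2
      have h5 : k ≤ 2 := by
        by_contra hc
        push Not at hc
        have : 16 * 3 ≤ Nat.card (MulAction.orbit E v₀) * k := Nat.mul_le_mul h1 hc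
        omega
      interval_cases k
      · omega
      · exact ⟨2, by omega⟩
      · exact ⟨1, by omega⟩
    exact h3.trans (orbit_normal_dvd_m hh h0 hm E H.EG H.nE hv₀)
  have h80 : m ∣ 80 := by
    have := dvd_card_sub_one hh h0 hm
    rwa [hV] at this
  have hcases : m = 16 ∨ m = 80 := by
    obtain ⟨k, rfl⟩ := h16
    obtain ⟨j, hj⟩ := h80
    have h5 : k * j = 5 := by
      have : 16 * (k * j) = 16 * 5 := by rw [← mul_assoc]; omega
      omega
    have h6 : k ∣ 5 := Dvd.intro _ h5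
    rcases (Nat.dvd_prime (by norm_num)).1 h6 with h7 | h7
    · left; omega
    · right; omega
  rcases hcases with h1 | h1
  swap
  · exact tra_of_card hh h0 hm (by omega)
  exfalso
  -- an element of order three moving the frame
  have hP : PEx G := pex_of_normal hh le_rfl (fun g hg n hn => G.mul_mem (G.mul_mem hg hn) (G.inv_mem hg))
  obtain ⟨y, hy, hyo, -⟩ := hP.exists_fix hG hv₀
  obtain ⟨c, e, hce⟩ := H.exists_rel hp hy
  have hy3 : y ^ 3 = 1 := pow_eq_of (powo hyo) hp3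
  have h3 : P3 (c, e) := hce.p3 hp ht hy3
  obtain ⟨k, hk⟩ : ∃ k, c k ≠ k := by
    by_contra hcon
    push Not at hcon
    have h4 : ∀ k, y * t k = t k * y := by
      intro k
      have h5 := hce k
      have h6 : e k = false := by
        have h7 := (h3 k).2
        simp only [hcon] at h7
        exact xor3 _ h7
      rw [hcon, h6] at h5
      rw [h5]; exact one_mul _
    have h5 := comm_E H.cl h4
    have hnc : ∃ a ∈ E, ∃ b ∈ E, a * b ≠ b * a := by
      refine ⟨t 0, H.mem 0, t 1, H.mem 1, fun h2 => ?_⟩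
      have h3 := H.frame.anti 0 1 (by decide) v₀
      rw [h2] at h3
      have h4 := zero_of_neg hp h3
      exact hv₀ ((LinearEquiv.map_eq_zero_iff _).1 h4)
    apply cent_cop hh hG hhom H.nE hnc
    have h6 : y ∈ G ⊓ Subgroup.centralizer (E : Set (V ≃ₗ[ZMod p] V)) := by
      refine ⟨hy, ?_⟩
      change y ∈ Subgroup.centralizer (E : Set (V ≃ₗ[ZMod p] V))
      rw [Subgroup.mem_centralizer_iff]
      intro x hx
      exact (h5 x hx).symm
    have h7 := orderOf_dvd_natCard (⟨y, h6⟩ : (G ⊓ Subgroup.centralizer (E : Set (V ≃ₗ[ZMod p] V)) :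
      Subgroup (V ≃ₗ[ZMod p] V)))
    rwa [Subgroup.orderOf_mk, hyo] at h7
  -- a vector fixed by `t k`
  obtain ⟨v, hv, hvt⟩ := Frame5.exists_fix hp ht k
  have h5 : (MulAction.orbit E v : Set V) ⊆ MulAction.orbit G v := by
    rintro _ ⟨x, rfl⟩
    exact ⟨⟨x, H.EG x.2⟩, rfl⟩
  have h6 : (MulAction.orbit E v : Set V) = MulAction.orbit G v := by
    apply Set.eq_of_subset_of_ncard_le h5 ?_ (Set.toFinite _)
    have h7 := orbit_card hh h0 hm hv
    have h8 := (horb v hv).1
    rw [← Nat.card_coe_set_eq, ← Nat.card_coe_set_eq, h7]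
    omega
  have h7 : y v ∈ (MulAction.orbit E v : Set V) := by
    rw [h6]
    exact ⟨⟨y, hy⟩, rfl⟩
  obtain ⟨x, hx⟩ := h7
  have hx' : (x : V ≃ₗ[ZMod p] V) v = y v := hx
  obtain ⟨b, hb⟩ := E_sign H.cl ht x.2 k
  -- `t k (y v) = ± y v`
  have e1 : t k (y v) = sgn p V b (y v) := by
    rw [← hx']
    have := LinearEquiv.congr_fun hb v
    change t k ((x : V ≃ₗ[ZMod p] V) v) = sgn p V b ((x : V ≃ₗ[ZMod p] V) (t k v)) at this
    rw [this, hvt]
  have e2 : t (c k) (y v) = sgn p V (e k) (y v) := by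
    have h8 : t (c k) * y = sgn p V (e k) * (y * t k) := by
      rw [hce k, ← mul_assoc, sgn_inv, one_mul]
    have := LinearEquiv.congr_fun h8 v
    change t (c k) (y v) = sgn p V (e k) (y (t k v)) at this
    rw [this, hvt]
  have h8 := eig_zero hp ht (Ne.symm hk) b (e k) e1 e2
  exact hv ((LinearEquiv.map_eq_zero_iff _).1 h8)

end Cfsg.Agent.H19.HT

private theorem dce_3d43298caca0 : _root_.True := by
  try have : _root_.True := by simp only [_root_.Cfsg.Agent.H19.HT.dat.eq_1]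
  try have : _root_.True := by simp only [_root_.Cfsg.Agent.H19.HT.T2.eq_1]
  try have : _root_.True := by simp only [_root_.Cfsg.Agent.H19.HT.T3.eq_1]
  exact _root_.True.intro
end

-- part: H337/HT/BridgeP
section
set_option linter.all false
open scoped Cfsg.Agent.FastGrp

/-!
# S3512: from `DeadP` to transitivity
-/

set_option autoImplicit false

universe u w

namespace Cfsg.Agent.H337.HT

open Cfsg.Agent.H828.HT Cfsg.Agent.H19.HT

variable {p : ℕ} [Fact p.Prime] {K : Type w} [Field K] {V : Type u} [AddCommGroup V] [Module (ZMod p) V] [Finite V]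
    [Module K V] {G L : Subgroup (V ≃ₗ[ZMod p] V)} {h : ℕ}

theorem QSP.ql (H : QSP p K V G L h) : H742.HT.QL p K V G L h :=
  ⟨H.half, H.le, H.nrm, H.perf, H.simple, H.nonab, H.lin, H.endo, H.irr⟩

/-- no numerical candidate: transitive -/
theorem QSP.tra_of_deadP (H : QSP p K V G L h)
    (hd : DeadP p (Module.finrank K V) (L ⧸ Subgroup.center L)) : Tra G := by
  by_contra hn
  obtain ⟨m, -, hc, -⟩ := H192.Ht.QN.cp (QSP.ql H) H.dvd hn
  obtain ⟨k, hk, hk0⟩ := H192.Ht.QN.exists_card (QSP.ql H)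
  rw [hk] at hc
  exact hd k m h hk0 hc

end Cfsg.Agent.H337.HT
end

-- part: H192/Ht/Free
section
set_option linter.all false
open scoped Cfsg.Agent.FastGrp

/-!
# S3512: Frobenius freeness (helper192)

* `free`: `z ^ r = 1`, `r` prime, `y z y⁻¹ = z ^ a`, `a` of order `e` modulo `r`, `y ^ e = 1`, `C_V(z) = 0`: then
  `e * dim C_V(y) = dim V` (the characteristic may divide `e`);
* `frob`: the same for elements of `L` in the setting `QL` / `QSP`, `|C_V(y)| ^ e = |V|`;
* `frob'`: `x^j` (`0 < j < e`) does not centralise `a`.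
-/

set_option autoImplicit false
set_option linter.unusedSectionVars false
set_option linter.style.haveILetI false

universe u v w

namespace Cfsg.Agent.H192.Ht

open Module Cfsg.Agent.H952.F4 Cfsg.Agent.H333.QS6.Rep
open Cfsg.Agent.H828.HT hiding ev
open Cfsg.Agent.H742.HT

section gen

variable {K : Type u} {V : Type v} [Field K] [AddCommGroup V] [Module K V] [FiniteDimensional K V]
  {Γ : Type w} [Group Γ]

/-- **Frobenius freeness.** -/
theorem free (ρ : Representation K Γ V) {r : ℕ} (hr : r.Prime) (hrK : (r : K) ≠ 0) {z y : Γ} {a e : ℕ}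
    (hz : z ^ r = 1) (hyz : y * z * y⁻¹ = z ^ a) (he : orderOf (a : ZMod r) = e) (he0 : 0 < e) (hy : y ^ e = 1)
    (h0 : ev (ρ z) 1 = 0) : e * ev (ρ y) 1 = finrank K V := by
  have h1 := Cfsg.Agent.H952.F4.Eig.frob (bar ρ) hr (by
    rw [← map_natCast (algebraMap K (AlgebraicClosure K))]
    exact fun h => hrK ((algebraMap K (AlgebraicClosure K)).injective (by rw [h, map_zero]))) hz hyz he he0 hy
    (μ := 1) (one_pow e)
  rw [ev_bar_one, ev_bar_one, h0, add_zero, finrank_fin_fun] at h1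
  have h2 : finrank (AlgebraicClosure K) ↥(es (bar ρ z) 1 ⊓ es (bar ρ y) 1) = 0 := by
    have h3 : finrank (AlgebraicClosure K) ↥(es (bar ρ z) 1 ⊓ es (bar ρ y) 1) ≤ ev (bar ρ z) 1 :=
      Submodule.finrank_mono inf_le_left
    rw [ev_bar_one, h0] at h3
    omega
  rw [h2, mul_zero, zero_add] at h1
  exact h1

end gen

/-- the order of `k` modulo `r` -/
theorem order_of_conj {Γ : Type w} [Group Γ] {r : ℕ} (hr : r.Prime) {a x : Γ} {k e : ℕ} (ha : a ^ r = 1) (ha1 : a ≠ 1)
    (hxa : x * a * x⁻¹ = a ^ k) (he0 : 0 < e) (hx : x ^ e = 1)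
    (hj : ∀ j, 0 < j → j < e → x ^ j * a ≠ a * x ^ j) : orderOf (k : ZMod r) = e := by
  have hf : Fact r.Prime := ⟨hr⟩
  have hpow : ∀ j : ℕ, x ^ j * a * (x ^ j)⁻¹ = a ^ (k ^ j) := by
    intro j
    induction j with
    | zero => simp
    | succ j ih =>
      have : x ^ (j + 1) * a * (x ^ (j + 1))⁻¹ = x * (x ^ j * a * (x ^ j)⁻¹) * x⁻¹ := by
        rw [pow_succ']; group
      rw [this, ih, ← conj_pow, hxa, ← pow_mul, pow_succ']
  have hord : orderOf a = r := orderOf_eq_prime ha ha1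
  have hiff : ∀ j : ℕ, (k : ZMod r) ^ j = 1 ↔ x ^ j * a = a * x ^ j := by
    intro j
    have h1 : (k : ZMod r) ^ j = 1 ↔ k ^ j ≡ 1 [MOD r] := by
      rw [← ZMod.natCast_eq_natCast_iff, Nat.cast_pow, Nat.cast_one]
    have h2 : x ^ j * a = a * x ^ j ↔ a ^ (k ^ j) = a ^ 1 := by
      rw [← hpow, pow_one]
      exact mul_inv_eq_iff_eq_mul.symm
    rw [h1, h2, pow_eq_pow_iff_modEq, hord]
  rw [orderOf_eq_iff he0]
  refine ⟨(hiff e).2 (by rw [hx]; group), fun j hlt hj0 h => hj j hj0 hlt ((hiff j).1 h)⟩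

section ql

variable {p : ℕ} [Fact p.Prime] {K : Type w} [Field K] {V : Type u} [AddCommGroup V] [Module (ZMod p) V] [Finite V]
    [Module K V] {G L : Subgroup (V ≃ₗ[ZMod p] V)} {h : ℕ}

/-- the representation of `L` on `V` over `K` -/
def repL (hlin : ∀ l ∈ L, ∀ (c : K) (v : V), l (c • v) = c • l v) : Representation K L V where
  toFun l :=
    { toFun := fun v => (l : V ≃ₗ[ZMod p] V) v
      map_add' := fun x y => map_add _ x y
      map_smul' := fun c v => hlin l l.2 c v }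
  map_one' := rfl
  map_mul' _ _ := rfl

theorem ev_eq_finrank (hlin : ∀ l ∈ L, ∀ (c : K) (v : V), l (c • v) = c • l v) (l : L) :
    Nat.card K ^ ev (repL hlin l) 1 = Nat.card (fx (l : V ≃ₗ[ZMod p] V)) := by
  have : Module.Finite K V := Module.Finite.of_finite
  unfold ev
  rw [← Module.natCard_eq_pow_finrank]
  refine Nat.card_congr ⟨fun v => ⟨v.1, ?_⟩, fun v => ⟨v.1, ?_⟩, fun _ => rfl, fun _ => rfl⟩
  · have := Module.End.mem_eigenspace_iff.1 v.2
    rw [one_smul] at this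
    exact mem_fx.2 this
  · rw [Module.End.mem_eigenspace_iff, one_smul]
    exact mem_fx.1 v.2

theorem ev_eq_zero_iff [Finite K] [Nontrivial V] (hlin : ∀ l ∈ L, ∀ (c : K) (v : V), l (c • v) = c • l v) (l : L) :
    ev (repL hlin l) 1 = 0 ↔ ∀ v : V, (l : V ≃ₗ[ZMod p] V) v = v → v = 0 := by
  have h1 := ev_eq_finrank hlin l
  have hK : 1 < Nat.card K := Finite.one_lt_card
  constructor
  · intro h v hv
    rw [h, pow_zero] at h1
    have : Subsingleton (fx (l : V ≃ₗ[ZMod p] V)) := (Nat.card_eq_one_iff_unique.1 h1.symm).1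
    have h2 := Subsingleton.elim (⟨v, mem_fx.2 hv⟩ : fx (l : V ≃ₗ[ZMod p] V)) 0
    exact congrArg Subtype.val h2
  · intro h
    have h2 : Nat.card (fx (l : V ≃ₗ[ZMod p] V)) = 1 := by
      rw [Nat.card_eq_one_iff_unique]
      refine ⟨⟨fun a b => ?_⟩, ⟨0⟩⟩
      apply Subtype.ext
      rw [h a (mem_fx.1 a.2), h b (mem_fx.1 b.2)]
    rw [h2] at h1
    by_contra h3
    have h4 := Nat.one_lt_pow h3 hK
    omega

theorem natCast_ne_zero_of (hV : ∃ v : V, v ≠ 0) {r : ℕ} (hr : r.Prime) (hrp : r ≠ p) : (r : K) ≠ 0 := by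
  obtain ⟨v, hv⟩ := hV
  intro h0
  have h1 : (p : K) = 0 := by
    have h2 : (p : ℕ) • v = 0 := by
      rw [← Nat.cast_smul_eq_nsmul (ZMod p), ZMod.natCast_self, zero_smul]
    rw [← Nat.cast_smul_eq_nsmul K] at h2
    exact (smul_eq_zero.1 h2).resolve_right hv
  have hc : r.Coprime p := (Nat.coprime_primes hr Fact.out).2 hrp
  have h3 := Nat.isCoprime_iff_coprime.2 hc
  obtain ⟨x, y, hxy⟩ := h3
  have h4 := congrArg (Int.cast : ℤ → K) hxy
  push_cast at h4
  rw [h0, h1, mul_zero, mul_zero, add_zero] at h4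
  exact zero_ne_one h4

/-- **Frobenius freeness for elements of `L`**, dimension form -/
theorem frobL [Finite K] (hV : ∃ v : V, v ≠ 0) (hlin : ∀ l ∈ L, ∀ (c : K) (v : V), l (c • v) = c • l v)
    {r : ℕ} (hr : r.Prime) (hrp : r ≠ p) {z y : L} {a e : ℕ} (hz : z ^ r = 1) (hyz : y * z * y⁻¹ = z ^ a)
    (he : orderOf (a : ZMod r) = e) (he0 : 0 < e) (hy : y ^ e = 1)
    (h0 : ∀ v : V, (z : V ≃ₗ[ZMod p] V) v = v → v = 0) :
    e * ev (repL hlin y) 1 = finrank K V := by
  have : Module.Finite K V := Module.Finite.of_finite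
  obtain ⟨v, hv⟩ := hV
  have : Nontrivial V := ⟨⟨v, 0, hv⟩⟩
  exact free (repL hlin) hr (natCast_ne_zero_of ⟨v, hv⟩ hr hrp) hz hyz he he0 hy
    ((ev_eq_zero_iff hlin z).2 h0)

/-- **Frobenius freeness in the setting `QL`** -/
theorem frob (H : QL p K V G L h) {r : ℕ} (hr : r.Prime) (hrp : r ≠ p) {z y : L} {a e : ℕ} (hz : z ^ r = 1)
    (hyz : y * z * y⁻¹ = z ^ a) (he : orderOf (a : ZMod r) = e) (he0 : 0 < e) (hy : y ^ e = 1)
    (h0 : ∀ v : V, (z : V ≃ₗ[ZMod p] V) v = v → v = 0) :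
    ∃ c, e * c = finrank K V ∧ Nat.card (fx (y : V ≃ₗ[ZMod p] V)) = Nat.card K ^ c ∧
      Nat.card (fx (y : V ≃ₗ[ZMod p] V)) ^ e = Nat.card V := by
  have := QN.finiteK H
  have h1 := frobL (QN.exists_ne H) H.lin hr hrp hz hyz he he0 hy h0
  refine ⟨ev (repL H.lin y) 1, h1, (ev_eq_finrank H.lin y).symm, ?_⟩
  rw [← ev_eq_finrank H.lin y, ← pow_mul, mul_comm, h1, ← QN.card_V H]

/-- **Frobenius freeness**, `x ^ j`, `0 < j < e`, does not centralise `a` -/
theorem frob' (H : QL p K V G L h) {r : ℕ} (hr : r.Prime) (hrp : r ≠ p) {a x : L} {k e : ℕ} (ha : a ^ r = 1)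
    (ha1 : a ≠ 1) (hxa : x * a * x⁻¹ = a ^ k) (he0 : 0 < e) (hx : x ^ e = 1)
    (hj : ∀ j, 0 < j → j < e → x ^ j * a ≠ a * x ^ j)
    (h0 : ∀ v : V, (a : V ≃ₗ[ZMod p] V) v = v → v = 0) :
    ∃ c, e * c = finrank K V ∧ Nat.card (fx (x : V ≃ₗ[ZMod p] V)) = Nat.card K ^ c ∧
      Nat.card (fx (x : V ≃ₗ[ZMod p] V)) ^ e = Nat.card V :=
  frob H hr hrp ha hxa (order_of_conj hr ha ha1 hxa he0 hx hj) he0 hx h0

end ql

/-! ### From `QSP` to `QL`, elements without fixed vectors -/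

section qsp

variable {p : ℕ} [Fact p.Prime] {K : Type w} [Field K] {V : Type u} [AddCommGroup V] [Module (ZMod p) V]
    [Module K V] {G L : Subgroup (V ≃ₗ[ZMod p] V)} {h : ℕ}

theorem toQL (H : Cfsg.Agent.H19.HT.QSP p K V G L h) : QL p K V G L h :=
  ⟨H.half, H.le, H.nrm, H.perf, H.simple, H.nonab, H.lin, H.endo, H.irr⟩

/-- an element of prime order `r` of `G` with `r ∤ h` has no non-zero fixed vector -/
theorem fpf_of_not_dvd [Finite V] (hh : Half G h) {r : ℕ} [Fact r.Prime] (hr : ¬ r ∣ h) {g : V ≃ₗ[ZMod p] V} (hg : g ∈ G)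
    (h1 : g ^ r = 1) (hne : g ≠ 1) {v : V} (hv : g v = v) : v = 0 := by
  by_contra hv0
  have h2 : orderOf (⟨g, hg⟩ : G) = r := by
    rw [← Subgroup.orderOf_coe]
    exact orderOf_eq_prime h1 hne
  exact hr (dvd_h hh h2 hv0 hv)

end qsp

end Cfsg.Agent.H192.Ht
end

-- part: H192/Ht/Tools
section
prune_inst 0x2
set_option linter.all false
open scoped Cfsg.Agent.FastGrp

-- part: H192/Ht/RTwo
section
/-!
# S3512: non-cyclic Sylow subgroups (helper192)

* `sylow_of_not_dvd`: if `r ∤ h`, the Sylow `r`-subgroups of `L` are cyclic or (`r = 2`) generalized quaternion;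
* `dvd_h_of_noncyclic`: if `L / Z(L)` has a non-cyclic Sylow `r`-subgroup, `r ≠ 2`, then `r ∣ h`.
-/

set_option autoImplicit false
set_option linter.unusedSectionVars false
set_option linter.style.haveILetI false

universe u v w

namespace Cfsg.Agent.H192.Ht

open Cfsg.Agent.H828.HT
open Cfsg.Agent.H742.HT

variable {p : ℕ} [Fact p.Prime] {K : Type w} [Field K] {V : Type u} [AddCommGroup V] [Module (ZMod p) V] [Finite V]
    {G L : Subgroup (V ≃ₗ[ZMod p] V)} {h : ℕ}

/-- the action on `V`, written multiplicatively -/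
def actV (L : Subgroup (V ≃ₗ[ZMod p] V)) : L →* MulAut (Multiplicative V) where
  toFun l := AddEquiv.toMultiplicative (l : V ≃ₗ[ZMod p] V).toAddEquiv
  map_one' := by ext v; rfl
  map_mul' a b := by ext v; rfl

/-- if `r ∤ h`, non-trivial `r`-elements of `G` have no non-zero fixed vectors -/
theorem fpf_of_relem (hh : Half G h) {r : ℕ} [hr : Fact r.Prime] (hrh : ¬ r ∣ h) {g : V ≃ₗ[ZMod p] V} (hg : g ∈ G)
    {k : ℕ} (h1 : g ^ r ^ k = 1) (hne : g ≠ 1) {v : V} (hv : g v = v) : v = 0 := by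
  have hpow : ∀ n : ℕ, (g ^ n) v = v := by
    intro n
    induction n with
    | zero => rfl
    | succ n ih =>
      rw [pow_succ]
      change (g ^ n) (g v) = v
      rw [hv, ih]
  have hex : ∃ j, g ^ r ^ j = 1 := ⟨k, h1⟩
  classical
  obtain ⟨j, hj, hmin⟩ : ∃ j, g ^ r ^ j = 1 ∧ ∀ i < j, g ^ r ^ i ≠ 1 :=
    ⟨Nat.find hex, Nat.find_spec hex, fun i hi => Nat.find_min hex hi⟩
  rcases Nat.eq_zero_or_pos j with rfl | hj0
  · rw [pow_zero, pow_one] at hj
    exact absurd hj hne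
  · obtain ⟨i, rfl⟩ : ∃ i, j = i + 1 := ⟨j - 1, by omega⟩
    refine fpf_of_not_dvd hh hrh (G.pow_mem hg (r ^ i)) ?_ (hmin i (by omega)) (hpow _)
    rw [← pow_mul, ← pow_succ, hj]

/-- **Sylow subgroups for primes not dividing `h`** -/
theorem sylow_of_not_dvd (hh : Half G h) (hLG : L ≤ G) (hV : ∃ v : V, v ≠ 0) {r : ℕ} [hr : Fact r.Prime]
    (hrh : ¬ r ∣ h) (P : Sylow r L) :
    IsCyclic P ∨ (r = 2 ∧ ∃ n : ℕ, 1 ≤ n ∧ Nonempty (P ≃* QuaternionGroup (2 ^ n))) := by
  obtain ⟨v, hv⟩ := hV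
  have : Nontrivial V := ⟨⟨v, 0, hv⟩⟩
  have : Nontrivial (Multiplicative V) := inferInstanceAs (Nontrivial V)
  -- the group `P` acting on `V`
  let φ : P →* MulAut (Multiplicative V) := (actV L).comp (P : Subgroup L).subtype
  have hφ : ∀ g : P, g ≠ 1 → ∀ v : Multiplicative V, φ g v = v → v = 1 := by
    intro g hg v hv
    obtain ⟨k, hk⟩ := P.isPGroup' g
    have h1 : (((g : L) : V ≃ₗ[ZMod p] V)) ^ r ^ k = 1 := by
      have h2 := congrArg (fun x : P => ((x : L) : V ≃ₗ[ZMod p] V)) hk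
      simpa using h2
    have h2 : ((g : L) : V ≃ₗ[ZMod p] V) ≠ 1 := by
      intro h3
      apply hg
      apply Subtype.ext
      apply Subtype.ext
      exact h3
    have h3 := fpf_of_relem hh hrh (hLG (g : L).2) h1 h2 (v := Multiplicative.toAdd v) (congrArg Multiplicative.toAdd hv)
    exact congrArg Multiplicative.ofAdd h3
  obtain ⟨S, hS⟩ : ∃ S : Sylow r P, (S : Subgroup P) = ⊤ := by
    have h1 : IsPGroup r (⊤ : Subgroup P) := P.isPGroup'.to_subgroup ⊤
    obtain ⟨S, hS⟩ := h1.exists_le_sylow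
    exact ⟨S, top_le_iff.1 hS⟩
  have e : S ≃* P := (MulEquiv.subgroupCongr hS).trans Subgroup.topEquiv
  rcases Cfsg.Agent.PermutationGroups.ZassReduction.sylow_cyclic_or_quaternion φ hφ r S with h1 | ⟨h1, n, hn, ⟨e'⟩⟩
  · exact Or.inl (isCyclic_of_surjective e e.surjective)
  · exact Or.inr ⟨h1, n, hn, ⟨e.symm.trans e'⟩⟩

/-- **a non-cyclic Sylow `r`-subgroup of `L / Z(L)`, `r` odd, forces `r ∣ h`** -/
theorem dvd_h_of_noncyclic (hh : Half G h) (hLG : L ≤ G) (hV : ∃ v : V, v ≠ 0) {r : ℕ} [hr : Fact r.Prime] (hr2 : r ≠ 2)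
    {T : Type v} [Group T] [Finite T] (f : L →* T) (hf : Function.Surjective f)
    (hT : ∃ Q : Sylow r T, ¬ IsCyclic Q) : r ∣ h := by
  by_contra hrh
  obtain ⟨Q, hQ⟩ := hT
  apply hQ
  obtain ⟨P⟩ : Nonempty (Sylow r L) := inferInstance
  obtain ⟨g, hg⟩ := MulAction.exists_smul_eq T (P.mapSurjective hf) Q
  have hc : IsCyclic P := by
    rcases sylow_of_not_dvd hh hLG hV hrh P with h1 | ⟨h1, -⟩
    · exact h1
    · exact absurd h1 hr2
  have h1 : IsCyclic (P.mapSurjective hf) := by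
    have h2 : ((P.mapSurjective hf : Sylow r T) : Subgroup T) = (P : Subgroup L).map f := rfl
    have h3 : IsCyclic ((P : Subgroup L).map f) := by
      refine isCyclic_of_surjective (f.subgroupMap (P : Subgroup L)) (f.subgroupMap_surjective _)
    exact h3
  rw [← hg]
  exact isCyclic_of_surjective (Sylow.equivSMul (P.mapSurjective hf) g) (Sylow.equivSMul (P.mapSurjective hf) g).surjective

end Cfsg.Agent.H192.Ht
end

-- part: H192/Ht/Tools
section
/-!
# S3512: small tools for the survivor rows (helper192)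
-/

set_option autoImplicit false
set_option linter.unusedSectionVars false
set_option linter.style.haveILetI false

universe u v w

namespace Cfsg.Agent.H192.Ht

open Module Cfsg.Agent.H952.F4 Cfsg.Agent.H333.QS6.Rep
open Cfsg.Agent.H828.HT hiding ev
open Cfsg.Agent.H742.HT Cfsg.Agent.H333.QS6

section gen

variable {K : Type u} {V : Type v} [Field K] [AddCommGroup V] [Module K V] [FiniteDimensional K V]
  {Γ : Type w} [Group Γ]

/-- orbits of eigenvalues, any field -/
theorem orb (ρ : Representation K Γ V) {r : ℕ} (hr : r.Prime) (hrK : (r : K) ≠ 0) {z y : Γ} {a e : ℕ}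
    (hz : z ^ r = 1) (hyz : y * z * y⁻¹ = z ^ a) (he : orderOf (a : ZMod r) = e) (he0 : 0 < e) :
    ∃ c, finrank K V = ev (ρ z) 1 + e * c := by
  obtain ⟨c, hc, -⟩ := Eig.orbits (bar ρ) hr (by
    rw [← map_natCast (algebraMap K (AlgebraicClosure K))]
    exact fun h => hrK ((algebraMap K (AlgebraicClosure K)).injective (by rw [h, map_zero]))) hz hyz he he0
  rw [ev_bar_one, finrank_fin_fun] at hc
  exact ⟨c, hc⟩

end gen

variable {p : ℕ} [Fact p.Prime] {K : Type w} [Field K] {V : Type u} [AddCommGroup V] [Module (ZMod p) V] [Finite V]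
    [Module K V] {G L : Subgroup (V ≃ₗ[ZMod p] V)} {h : ℕ}

theorem finite_L : Finite L := by
  have : Finite (V ≃ₗ[ZMod p] V) := Finite.of_injective (fun f : V ≃ₗ[ZMod p] V => (f : V → V)) DFunLike.coe_injective
  infer_instance

/-- dimension of the fixed space of an element of `L` -/
noncomputable def fd (hlin : ∀ l ∈ L, ∀ (c : K) (v : V), l (c • v) = c • l v) (l : L) : ℕ := ev (repL hlin l) 1

theorem card_fx_eq_fd (hlin : ∀ l ∈ L, ∀ (c : K) (v : V), l (c • v) = c • l v) (l : L) :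
    Nat.card (fx (l : V ≃ₗ[ZMod p] V)) = Nat.card K ^ fd hlin l := (ev_eq_finrank hlin l).symm

/-- orbits of eigenvalues for elements of `L` -/
theorem orbL (H : QL p K V G L h) {r : ℕ} (hr : r.Prime) (hrp : r ≠ p) {z y : L} {a e : ℕ} (hz : z ^ r = 1)
    (hyz : y * z * y⁻¹ = z ^ a) (he : orderOf (a : ZMod r) = e) (he0 : 0 < e) :
    ∃ c, finrank K V = fd H.lin z + e * c := by
  have := QN.finiteDim H
  exact orb (repL H.lin) hr (natCast_ne_zero_of (QN.exists_ne H) hr hrp) hz hyz he he0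

/-- a non-trivial element has a proper fixed space -/
theorem fd_lt (H : QL p K V G L h) {z : L} (hz : z ≠ 1) : fd H.lin z < finrank K V := by
  have hK := QN.finiteK H
  have h1 := card_fx_eq_fd H.lin z
  have hK1 : 1 < Nat.card K := Finite.one_lt_card
  have h2 : Nat.card (fx (z : V ≃ₗ[ZMod p] V)) ≤ Nat.card V := Finite.card_subtype_le _
  rw [h1, QN.card_V H] at h2
  have h3 := (Nat.pow_le_pow_iff_right hK1).1 h2
  refine lt_of_le_of_ne h3 fun h4 => hz ?_
  rw [h4, ← QN.card_V H] at h1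
  apply Subtype.ext
  ext v
  have h5 : (fx (z : V ≃ₗ[ZMod p] V)) = ⊤ := by
    apply SetLike.coe_injective
    rw [Submodule.top_coe]
    refine Set.eq_of_subset_of_ncard_le (Set.subset_univ _) ?_ Set.finite_univ
    rw [Set.ncard_univ, ← Nat.card_coe_set_eq]
    exact h1.ge
  have h6 : v ∈ fx (z : V ≃ₗ[ZMod p] V) := by rw [h5]; trivial
  exact mem_fx.1 h6

theorem fd_eq_zero (H : QL p K V G L h) {z : L} (hz : ∀ v : V, (z : V ≃ₗ[ZMod p] V) v = v → v = 0) :
    fd H.lin z = 0 := by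
  have hK := QN.finiteK H
  obtain ⟨v, hv⟩ := QN.exists_ne H
  have : Nontrivial V := ⟨⟨v, 0, hv⟩⟩
  exact (ev_eq_zero_iff H.lin z).2 hz

/-- the degree is at least `e` -/
theorem le_finrank (H : QL p K V G L h) {r : ℕ} (hr : r.Prime) (hrp : r ≠ p) {z y : L} {a e : ℕ} (hz : z ^ r = 1)
    (hz1 : z ≠ 1) (hyz : y * z * y⁻¹ = z ^ a) (he : orderOf (a : ZMod r) = e) (he0 : 0 < e) : e ≤ finrank K V := by
  obtain ⟨c, hc⟩ := orbL H hr hrp hz hyz he he0
  have h1 := fd_lt H hz1
  rcases Nat.eq_zero_or_pos c with rfl | hc0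
  · omega
  · have : e * 1 ≤ e * c := Nat.mul_le_mul_left e hc0
    omega

/-- if `z` is fixed-point-free the degree is divisible by `e` -/
theorem dvd_finrank (H : QL p K V G L h) {r : ℕ} (hr : r.Prime) (hrp : r ≠ p) {z y : L} {a e : ℕ} (hz : z ^ r = 1)
    (h0 : ∀ v : V, (z : V ≃ₗ[ZMod p] V) v = v → v = 0) (hyz : y * z * y⁻¹ = z ^ a) (he : orderOf (a : ZMod r) = e)
    (he0 : 0 < e) : e ∣ finrank K V := by
  obtain ⟨c, hc⟩ := orbL H hr hrp hz hyz he he0
  rw [fd_eq_zero H h0, zero_add] at hc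
  exact ⟨c, hc⟩

/-- central elements with non-zero fixed vectors are trivial -/
theorem central_fixed (H : QL p K V G L h) {z : L} (hz : z ∈ Subgroup.center L) {v : V} (hv : v ≠ 0)
    (hzv : (z : V ≃ₗ[ZMod p] V) v = v) : z = 1 := by
  have hc := Subgroup.mem_center_iff.1 hz
  rcases H.irr (fx (z : V ≃ₗ[ZMod p] V)) (by
    intro g hg w hw
    rw [mem_fx] at hw ⊢
    have h1 : ((z * ⟨g, hg⟩ : L) : V ≃ₗ[ZMod p] V) w = ((⟨g, hg⟩ * z : L) : V ≃ₗ[ZMod p] V) w := by
      rw [hc ⟨g, hg⟩]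
    change (z : V ≃ₗ[ZMod p] V) (g w) = g ((z : V ≃ₗ[ZMod p] V) w) at h1
    rw [h1, hw]) with h | h
  · exact absurd ((Submodule.mem_bot _).1 (h ▸ mem_fx.2 hzv)) hv
  · apply Subtype.ext
    ext w
    have : w ∈ fx (z : V ≃ₗ[ZMod p] V) := by rw [h]; trivial
    exact mem_fx.1 this

/-- an element of `L` fixing `v ≠ 0` whose `r`-th power is central: `r ∤ h` implies it is `1` -/
theorem eq_one_of_fix (H : QL p K V G L h) {r : ℕ} [Fact r.Prime] (hrh : ¬ r ∣ h) {x : L} (hx : x ^ r ∈ Subgroup.center L)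
    {v : V} (hv : v ≠ 0) (hxv : (x : V ≃ₗ[ZMod p] V) v = v) : x = 1 := by
  have hpow : ∀ n : ℕ, ((x ^ n : L) : V ≃ₗ[ZMod p] V) v = v := by
    intro n
    induction n with
    | zero => rfl
    | succ n ih =>
      rw [pow_succ]
      change ((x ^ n : L) : V ≃ₗ[ZMod p] V) ((x : V ≃ₗ[ZMod p] V) v) = v
      rw [hxv, ih]
  have h1 := central_fixed H hx hv (hpow r)
  by_contra hne
  refine hv (fpf_of_not_dvd H.half hrh (H.le x.2) ?_ (fun h2 => hne (Subtype.ext h2)) hxv)
  exact congrArg Subtype.val h1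

end Cfsg.Agent.H192.Ht
end
end

-- part: H192/Ht/AFive
section
prune_inst 0xc1202a440440000000000002402000242000052000400000080206400302526005802800400009040a0080010001004000080010000000000a0004000000000000aa460033340108000096000080000000000000000000000000000000041000000000002
set_option linter.all false
open scoped Cfsg.Agent.FastGrp

/-!
# S3512: the row `L / Z(L) = A₅`, `p = 3` (helper192)

* `alt_false`: `A₅` does not act irreducibly on an `𝔽₃`-space with all non-zero vectors in orbits of length prime to 3;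
* `sl_case`: if `SL(2,5)` does, then `|V| = 81` and all orbits have length 40;
* `row`: the row.
-/

set_option autoImplicit false
set_option linter.unusedSectionVars false
set_option linter.style.haveILetI false
set_option linter.style.setOption false

namespace Cfsg.Agent.H192.Ht.AFive

open Cfsg.Agent.H828.HT Cfsg.Agent.H19.HT Cfsg.Agent.H742.HT
open Cfsg.Agent.H960.HT (Irr)
open Cfsg.Agent.H308.AltFive Cfsg.Agent.PermutationGroups.AutSL25

universe u w

/-! ### Submodules with trivial intersection -/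

theorem card_mul_le {R : Type*} [Ring R] {V : Type u} [AddCommGroup V] [Module R V] [Finite V]
    {A B U : Submodule R V} (hA : A ≤ U) (hB : B ≤ U) (hd : ∀ v ∈ A, v ∈ B → v = 0) :
    Nat.card A * Nat.card B ≤ Nat.card U := by
  rw [← Nat.card_prod]
  refine Nat.card_le_card_of_injective (fun x : A × B => (⟨x.1 + x.2, U.add_mem (hA x.1.2) (hB x.2.2)⟩ : U)) ?_
  rintro ⟨a, b⟩ ⟨a', b'⟩ hab
  have h1 : (a : V) + b = a' + b' := congrArg Subtype.val hab
  have h2 : (a : V) - a' = b' - b := by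
    rw [sub_eq_sub_iff_add_eq_add, h1, add_comm]
  have h3 := hd _ (A.sub_mem a.2 a'.2) (h2 ▸ B.sub_mem b'.2 b.2)
  have h4 : (b' : V) - b = 0 := by rw [← h2, h3]
  exact Prod.ext (Subtype.ext (sub_eq_zero.1 h3)) (Subtype.ext (sub_eq_zero.1 h4).symm)

theorem card_fx_mul_cm {p : ℕ} [Fact p.Prime] {V : Type u} [AddCommGroup V] [Module (ZMod p) V] [Finite V]
    (g : V ≃ₗ[ZMod p] V) : Nat.card (fx g) * Nat.card (cm g) = Nat.card V := by
  rw [Submodule.card_eq_card_quotient_mul_card (fx g)]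
  congr 1
  exact (Nat.card_congr (LinearMap.quotKerEquivRange
    ((g : V →ₗ[ZMod p] V) - LinearMap.id)).toEquiv).symm

/-! ### Permutations of five points -/


set_option maxRecDepth 100000 in
set_option maxHeartbeats 4000000 in
theorem quad_dec : ∀ c : Fin 5 → ZMod 3, (∀ i j, c i = c j) ∨
    ∃ i j : Fin 5, c i ≠ c j ∧ ∃ a b : Fin 5, (c a = c b ∧ a ≠ b) ∧ (a ≠ i ∧ a ≠ j) ∧ b ≠ i ∧ b ≠ j := by
  set_option synthInstance.maxSize 20000 in open scoped Cfsg.Agent.Lib.MatDec in decide +kernel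

theorem rel_dec : ∀ c : Fin 5 → ZMod 3, (∀ i j, c i = c j) ∨
    ∃ σ : Equiv.Perm (Fin 5), Equiv.Perm.sign σ = 1 ∧ ∃ i j : Fin 5, i ≠ j ∧ ∃ s : ZMod 3, s ≠ 0 ∧
      ∀ k, c k - c (σ k) = (if k = i then s else 0) - (if k = j then s else 0) := by
  intro c
  rcases quad_dec c with h | ⟨i, j, hij, a, b, ⟨hab, hne⟩, ⟨hai, haj⟩, hbi, hbj⟩
  · exact Or.inl h
  · have hij' : i ≠ j := fun h => hij (by rw [h])
    refine Or.inr ⟨Equiv.swap i j * Equiv.swap a b, ?_, i, j, hij', c i - c j, sub_ne_zero.2 hij, fun k => ?_⟩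
    · rw [map_mul, Equiv.Perm.sign_swap hij', Equiv.Perm.sign_swap hne]; rfl
    · rw [Equiv.Perm.mul_apply]
      by_cases h1 : k = i
      · subst h1
        rw [Equiv.swap_apply_of_ne_of_ne hai.symm hbi.symm, Equiv.swap_apply_left, if_pos rfl, if_neg hij', sub_zero]
      by_cases h2 : k = j
      · subst h2
        rw [Equiv.swap_apply_of_ne_of_ne haj.symm hbj.symm, Equiv.swap_apply_right, if_neg h1, if_pos rfl, zero_sub,
          neg_sub]
      rw [if_neg h1, if_neg h2, sub_zero]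
      by_cases h3 : k = a
      · subst h3
        rw [Equiv.swap_apply_left, Equiv.swap_apply_of_ne_of_ne hbi hbj, hab, sub_self]
      by_cases h4 : k = b
      · subst h4
        rw [Equiv.swap_apply_right, Equiv.swap_apply_of_ne_of_ne hai haj, hab, sub_self]
      rw [Equiv.swap_apply_of_ne_of_ne h3 h4, Equiv.swap_apply_of_ne_of_ne h1 h2, sub_self]

/-- the coefficients of the vector without a fixing element of order 3 -/
def c0 : Fin 5 → ZMod 3 := ![1, 1, 2, 2, 0]

set_option maxRecDepth 100000 in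
theorem c0_dec : ∀ σ : Equiv.Perm (Fin 5), σ ^ 3 = 1 → σ ≠ 1 →
    ∃ i j, c0 i - c0 (σ i) ≠ c0 j - c0 (σ j) := by
  set_option synthInstance.maxSize 9000 in open scoped Cfsg.Agent.Lib.FastPerm in decide +kernel

theorem c0_ne : ¬ ∀ i j, c0 i = c0 j := by decide

/-! ### The alternating group -/

section

variable {V : Type u} [AddCommGroup V] [Module (ZMod 3) V] [Finite V] {L : Subgroup (V ≃ₗ[ZMod 3] V)}

/-- the vectors fixed by `L` -/
theorem no_fixed (hirr : Irr L) (hn : ∃ l ∈ L, l ≠ 1) {v : V} (hv : ∀ l ∈ L, l v = v) : v = 0 := by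
  let W : Submodule (ZMod 3) V := ⨅ l : L, fx (l : V ≃ₗ[ZMod 3] V)
  have hW : ∀ w, w ∈ W ↔ ∀ l ∈ L, l w = w := by
    intro w
    simp only [W, Submodule.mem_iInf, _root_.Cfsg.Agent.H828.HT.mem_fx, _root_.Subtype.forall]
  rcases hirr W (by
    intro g hg w hw
    rw [hW] at hw ⊢
    intro l hl
    rw [hw g hg, hw l hl]) with h | h
  · have : v ∈ W := (hW v).2 hv
    rw [h] at this
    exact (Submodule.mem_bot _).1 this
  · exfalso
    obtain ⟨l, hl, hl1⟩ := hn
    apply hl1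
    ext w
    have : w ∈ W := by rw [h]; trivial
    exact (hW w).1 this l hl

theorem card_stab_mul (v : V) :
    Nat.card (MulAction.orbit L v) * Nat.card (MulAction.stabilizer L v) = Nat.card L := by
  classical
  have := Fintype.ofFinite L
  have h2 := MulAction.card_orbit_mul_card_stabilizer_eq_card_group L v
  rwa [← Nat.card_eq_fintype_card, ← Nat.card_eq_fintype_card, ← Nat.card_eq_fintype_card] at h2

theorem three_dvd (hP : PEx L) (h3 : 3 ∣ Nat.card L) {v : V} (hv : v ≠ 0) :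
    3 ∣ Nat.card (MulAction.stabilizer L v) := by
  have h1 := card_stab_mul (L := L) v
  rw [← h1] at h3
  rcases (Nat.Prime.dvd_mul Nat.prime_three).1 h3 with h | h
  · exact absurd h (hP v hv)
  · exact h

theorem card_fx_conj (g a : V ≃ₗ[ZMod 3] V) : Nat.card (fx (g * a * g⁻¹)) = Nat.card (fx a) := by
  refine (Nat.card_congr (Equiv.ofBijective
    (fun v : fx a => (⟨g v, by
      rw [mem_fx]
      change g (a ((g⁻¹ * g) v)) = g v
      rw [inv_mul_cancel]
      change g (a (v : V)) = g v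
      rw [mem_fx.1 v.2]⟩ : fx (g * a * g⁻¹))) ⟨?_, ?_⟩)).symm
  · intro v w hvw
    exact Subtype.ext (g.injective (congrArg Subtype.val hvw))
  · rintro ⟨w, hw⟩
    rw [mem_fx] at hw
    refine ⟨⟨g⁻¹ w, ?_⟩, Subtype.ext ?_⟩
    · rw [mem_fx]
      apply g.injective
      change (g * a * g⁻¹) w = (g * g⁻¹) w
      rw [hw, mul_inv_cancel]; rfl
    · change (g * g⁻¹) w = w
      rw [mul_inv_cancel]; rfl

variable (e : L ≃* alternatingGroup (Fin 5))

/-- the element of `L` -/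
def el (x : alternatingGroup (Fin 5)) : V ≃ₗ[ZMod 3] V := (e.symm x : L)

theorem el_mul (x y : alternatingGroup (Fin 5)) : el e (x * y) = el e x * el e y := by
  simp [el]

theorem el_inv (x : alternatingGroup (Fin 5)) : el e x⁻¹ = (el e x)⁻¹ := by
  simp only [el, _root_.map_inv, _root_.InvMemClass.coe_inv]

theorem el_one : el e 1 = 1 := by simp only [el, _root_.map_one, _root_.OneMemClass.coe_one]

theorem el_apply_mul (x y : alternatingGroup (Fin 5)) (v : V) : el e (x * y) v = el e x (el e y v) := by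
  rw [el_mul]; rfl

theorem exists_el {l : V ≃ₗ[ZMod 3] V} (hl : l ∈ L) : ∃ x, el e x = l :=
  ⟨e ⟨l, hl⟩, by simp [el]⟩

include e in
theorem card_L : Nat.card L = 60 := by rw [Nat.card_congr e.toEquiv, card_A5]

/-- the stabiliser as a subgroup of `A₅` -/
def st (v : V) : Subgroup (alternatingGroup (Fin 5)) := (MulAction.stabilizer L v).map (e : L →* _)

theorem mem_st {v : V} {x : alternatingGroup (Fin 5)} : x ∈ st e v ↔ el e x v = v := by
  constructor
  · rintro ⟨l, hl, rfl⟩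
    have : el e (e l) = l := by simp [el]
    change el e (e l) v = v
    rw [this]
    exact hl
  · intro h
    exact ⟨e.symm x, h, by simp⟩

theorem card_st (v : V) : Nat.card (st e v) = Nat.card (MulAction.stabilizer L v) :=
  (Nat.card_congr ((MulAction.stabilizer L v).equivMapOfInjective _ e.injective).toEquiv).symm

theorem index_st (v : V) : (st e v).index = Nat.card (MulAction.orbit L v) := by
  have h1 := (st e v).card_mul_index
  have h2 := card_stab_mul (L := L) v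
  rw [card_st, card_A5] at h1
  rw [card_L e, mul_comm, ← h1] at h2
  exact (Nat.eq_of_mul_eq_mul_left Nat.card_pos h2).symm

include e in
theorem exists_ne_one : ∃ l ∈ L, l ≠ 1 := by
  haveI : Nontrivial L := Finite.one_lt_card_iff_nontrivial.1 (by rw [card_L e]; norm_num)
  obtain ⟨l, hl⟩ := exists_ne (1 : L)
  exact ⟨l, l.2, fun h => hl (Subtype.ext h)⟩

theorem st_ne_top (hirr : Irr L) {v : V} (hv : v ≠ 0) : st e v ≠ ⊤ := by
  intro h
  apply hv
  apply no_fixed hirr (exists_ne_one e)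
  intro l hl
  obtain ⟨x, rfl⟩ := exists_el e hl
  exact (mem_st e).1 (by rw [h]; trivial)

theorem index_ge (hirr : Irr L) {v : V} (hv : v ≠ 0) : 5 ≤ (st e v).index := by
  by_contra hlt
  exact st_ne_top e hirr hv (eq_top_of_index (by omega))

theorem three_dvd_st (hP : PEx L) {v : V} (hv : v ≠ 0) : 3 ∣ Nat.card (st e v) := by
  rw [card_st]
  exact three_dvd hP (by rw [card_L e]; norm_num) hv

/-- elements of order 5 have no fixed vectors -/
theorem five_fpf (hirr : Irr L) (hP : PEx L) {x : alternatingGroup (Fin 5)} (hx5 : x ^ 5 = 1) (hx1 : x ≠ 1) {v : V}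
    (hxv : el e x v = v) : v = 0 := by
  by_contra hv
  have h1 := index_ge e hirr hv
  have h2 := three_dvd_st e hP hv
  have h3 : 5 ∣ Nat.card (st e v) := by
    have h4 : orderOf x = 5 := orderOf_eq_prime hx5 hx1
    have h5 : orderOf (⟨x, (mem_st e).2 hxv⟩ : st e v) = 5 := by rw [← Subgroup.orderOf_coe, h4]
    have h6 := orderOf_dvd_natCard (⟨x, (mem_st e).2 hxv⟩ : st e v)
    rwa [h5] at h6
  have h6 : 15 ∣ Nat.card (st e v) := Nat.Coprime.mul_dvd_of_dvd_of_dvd (by norm_num : Nat.Coprime 3 5) h2 h3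
  have h7 := (st e v).card_mul_index
  rw [card_A5] at h7
  have h8 := Nat.le_of_dvd Nat.card_pos h6
  nlinarith only [h1, h7, h8]

theorem three_eq_zero (v : V) : v + v + v = 0 := by
  have h : (3 : ZMod 3) • v = 0 := by
    rw [show (3 : ZMod 3) = 0 by decide, zero_smul]
  rw [← h, show (3 : ZMod 3) = 1 + 1 + 1 by decide, add_smul, add_smul, one_smul]

theorem mem_cm_of_neg {g : V ≃ₗ[ZMod 3] V} {v : V} (h : g v = -v) : v ∈ cm g := by
  rw [mem_cm]
  refine ⟨v, ?_⟩
  rw [h]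
  exact (eq_neg_of_add_eq_zero_left (three_eq_zero v)).symm

theorem neg_of_mem_cm {g : V ≃ₗ[ZMod 3] V} (hg : ∀ v, g (g v) = v) {v : V} (h : v ∈ cm g) : g v = -v := by
  obtain ⟨w, hw⟩ := mem_cm.1 h
  have h1 : v = g w - w := by rw [hw]; abel
  rw [h1, map_sub, hg]
  abel

theorem sq_el {x : alternatingGroup (Fin 5)} (hx : x * x = 1) (v : V) : el e x (el e x v) = v := by
  rw [← el_apply_mul, hx, el_one]; rfl

theorem card_fx_eq {x y : alternatingGroup (Fin 5)} (hx : x * x = 1) (hx1 : x ≠ 1) (hy : y * y = 1) (hy1 : y ≠ 1) :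
    Nat.card (fx (el e x)) = Nat.card (fx (el e y)) := by
  obtain ⟨g, rfl⟩ := invol_conj x y hx hx1 hy hy1
  rw [el_mul, el_mul, el_inv, card_fx_conj]

/-- `|V| = |C_V(x)|²` for an involution `x` (one half) -/
theorem card_cm_sq (hirr : Irr L) (hP : PEx L) {x : alternatingGroup (Fin 5)} (hx : x * x = 1) (hx1 : x ≠ 1) :
    Nat.card (cm (el e x)) * Nat.card (cm (el e x)) ≤ Nat.card V := by
  obtain ⟨g, h5, h1⟩ := five_prod x hx hx1
  set y := g * x * g⁻¹ with hy
  have hyy : y * y = 1 := by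
    rw [hy]
    calc g * x * g⁻¹ * (g * x * g⁻¹) = g * (x * x) * g⁻¹ := by group
      _ = 1 := by rw [hx]; group
  have hy1 : y ≠ 1 := by
    intro h
    apply hx1
    have : x = g⁻¹ * y * g := by rw [hy]; group
    rw [this, h]; group
  have h2 : Nat.card (cm (el e y)) = Nat.card (cm (el e x)) := by
    have h3 := card_fx_mul_cm (el e x)
    have h4 := card_fx_mul_cm (el e y)
    rw [card_fx_eq e hyy hy1 hx hx1, ← h3] at h4
    exact Nat.eq_of_mul_eq_mul_left Nat.card_pos h4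
  have h3 : Nat.card (cm (el e x)) * Nat.card (cm (el e y)) ≤ Nat.card (⊤ : Submodule (ZMod 3) V) := by
    refine card_mul_le le_top le_top fun v hv hv' => ?_
    refine five_fpf e hirr hP h5 h1 (v := v) ?_
    rw [el_apply_mul, neg_of_mem_cm (sq_el e hyy) hv', map_neg, neg_of_mem_cm (sq_el e hx) hv, neg_neg]
  rw [h2] at h3
  rwa [Nat.card_congr (Submodule.topEquiv (R := ZMod 3) (M := V)).toEquiv] at h3

/-- the four-group -/
def xa : alternatingGroup (Fin 5) := ⟨Equiv.swap 0 1 * Equiv.swap 2 3, mem_iff.2 (by decide)⟩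
/-- the four-group -/
def xb : alternatingGroup (Fin 5) := ⟨Equiv.swap 0 2 * Equiv.swap 1 3, mem_iff.2 (by decide)⟩

theorem xa_sq : xa * xa = 1 := by decide +kernel
theorem xb_sq : xb * xb = 1 := by decide +kernel
theorem xa_ne : xa ≠ 1 := by decide +kernel
theorem xb_ne : xb ≠ 1 := by decide +kernel
theorem xab : xa * xb = xb * xa := by decide +kernel
theorem xab_ne : xa * xb ≠ 1 := by decide +kernel

theorem xab_sq : xa * xb * (xa * xb) = 1 := by decide +kernel

/-- a four-group has a non-zero fixed vector -/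
theorem exists_fixed [Nontrivial V] (hirr : Irr L) (hP : PEx L) :
    ∃ v : V, v ≠ 0 ∧ el e xa v = v ∧ el e xb v = v := by
  by_contra hcon
  push Not at hcon
  have key : ∀ v : V, el e xa v = v → el e xb v = v → v = 0 := by
    intro v ha hb
    by_contra hv
    exact hcon v hv ha hb
  have hB : fx (el e xb) ≤ cm (el e xa) := by
    intro v hv
    rw [mem_fx] at hv
    apply mem_cm_of_neg
    have h1 : v + el e xa v = 0 := by
      apply key
      · rw [map_add, sq_el e xa_sq, add_comm]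
      · rw [map_add, ← el_apply_mul, ← xab, el_apply_mul, hv]
    exact eq_neg_of_add_eq_zero_right h1
  have hC : fx (el e (xa * xb)) ≤ cm (el e xa) := by
    intro v hv
    rw [mem_fx, el_apply_mul] at hv
    apply mem_cm_of_neg
    have h2 : el e xb v = el e xa v := by
      have := congrArg (el e xa) hv
      rwa [sq_el e xa_sq] at this
    have h1 : v + el e xa v = 0 := by
      apply key
      · rw [map_add, sq_el e xa_sq, add_comm]
      · rw [map_add, ← h2, sq_el e xb_sq, add_comm]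
    exact eq_neg_of_add_eq_zero_right h1
  have h1 : Nat.card (fx (el e xb)) * Nat.card (fx (el e (xa * xb))) ≤ Nat.card (cm (el e xa)) := by
    refine card_mul_le hB hC fun v hv hv' => ?_
    rw [mem_fx] at hv hv'
    rw [el_apply_mul, hv] at hv'
    exact key v hv' hv
  rw [card_fx_eq e xb_sq xb_ne xa_sq xa_ne, card_fx_eq e xab_sq xab_ne xa_sq xa_ne] at h1
  have h2 := card_fx_mul_cm (el e xa)
  have h3 := card_cm_sq e hirr hP xa_sq xa_ne
  have hV : 1 < Nat.card V := Finite.one_lt_card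
  set a := Nat.card (fx (el e xa))
  set b := Nat.card (cm (el e xa))
  have ha : 0 < a := Nat.card_pos
  have hb : 0 < b := Nat.card_pos
  -- a * b = V, b * b ≤ V, a * a ≤ b
  rw [← h2] at h3 hV
  have h4 : b ≤ a := Nat.le_of_mul_le_mul_right h3 hb
  have h5 : a * a ≤ a * 1 := by omega
  have h6 : a ≤ 1 := Nat.le_of_mul_le_mul_left h5 ha
  have h7 : a = 1 := by omega
  have h8 : b = 1 := by omega
  rw [h7, h8] at hV
  omega

/-- the four-group as a subgroup -/
def E4 : Subgroup (alternatingGroup (Fin 5)) where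
  carrier := fun x => x = 1 ∨ x = xa ∨ x = xb ∨ x = xa * xb
  mul_mem' := by
    rintro _ _ (rfl | rfl | rfl | rfl) (rfl | rfl | rfl | rfl) <;>
    · change _ ∨ _ ∨ _ ∨ _
      decide +kernel
  one_mem' := Or.inl rfl
  inv_mem' := by
    rintro _ (rfl | rfl | rfl | rfl) <;>
    · change _ ∨ _ ∨ _ ∨ _
      decide +kernel

instance : DecidablePred (· ∈ E4) := fun x => inferInstanceAs (Decidable (x = 1 ∨ x = xa ∨ x = xb ∨ x = xa * xb))

theorem card_E4 : Nat.card E4 = 4 := by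
  rw [Nat.card_eq_fintype_card]
  set_option synthInstance.maxSize 9000 in open scoped Cfsg.Agent.Lib.FastPerm in decide +kernel

theorem index_five (hirr : Irr L) (hP : PEx L) {v : V} (hv : v ≠ 0) (ha : el e xa v = v) (hb : el e xb v = v) :
    (st e v).index = 5 := by
  have h1 := index_ge e hirr hv
  have h2 := three_dvd_st e hP hv
  have h3 : Nat.card E4 ∣ Nat.card (st e v) := by
    refine Subgroup.card_dvd_of_le ?_
    rintro x (rfl | rfl | rfl | rfl)
    · exact one_mem _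
    · exact (mem_st e).2 ha
    · exact (mem_st e).2 hb
    · rw [mem_st, el_apply_mul, hb, ha]
  rw [card_E4] at h3
  have h6 : 3 * 4 ∣ Nat.card (st e v) := Nat.Coprime.mul_dvd_of_dvd_of_dvd (by norm_num) h2 h3
  have h7 := (st e v).card_mul_index
  rw [card_A5] at h7
  have h8 := Nat.le_of_dvd Nat.card_pos h6
  nlinarith

include e in
/-- **`A₅` is impossible.** -/
theorem alt_false [Nontrivial V] (hirr : Irr L) (hP : PEx L) : False := by
  classical
  obtain ⟨v, hv, ha, hb⟩ := exists_fixed e hirr hP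
  have h5 := index_five e hirr hP hv ha hb
  have hO : Nat.card (MulAction.orbit L v) = 5 := by rw [← index_st e, h5]
  let eO : MulAction.orbit L v ≃ Fin 5 := Finite.equivFinOfCardEq hO
  let ψ : L →* Equiv.Perm (Fin 5) :=
    (eO.permCongrHom.toMonoidHom).comp (MulAction.toPermHom L (MulAction.orbit L v))
  let φ : alternatingGroup (Fin 5) →* Equiv.Perm (Fin 5) := ψ.comp e.symm.toMonoidHom
  let vv : Fin 5 → V := fun i => (eO.symm i : V)
  have hvv : Function.Injective vv := fun i j hij => eO.symm.injective (Subtype.ext hij)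
  have hact : ∀ x i, el e x (vv i) = vv (φ x i) := by
    intro x i
    have h1 : φ x i = eO ((e.symm x) • eO.symm i) := rfl
    change _ = ((eO.symm (φ x i) : MulAction.orbit L v) : V)
    rw [h1, Equiv.symm_apply_apply]
    rfl
  have hinj : Function.Injective φ := by
    rw [← MonoidHom.ker_eq_bot_iff]
    rcases (inferInstance : φ.ker.Normal).eq_bot_or_eq_top with h | h
    · exact h
    · exfalso
      apply st_ne_top e hirr hv
      rw [eq_top_iff]
      intro x _
      rw [mem_st]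
      have h1 : φ x = 1 := by
        rw [← MonoidHom.mem_ker, h]; trivial
      have h2 := hact x (eO ⟨v, MulAction.mem_orbit_self v⟩)
      rw [h1] at h2
      have h3 : vv (eO ⟨v, MulAction.mem_orbit_self v⟩) = v := by
        change ((eO.symm (eO ⟨v, MulAction.mem_orbit_self v⟩) : MulAction.orbit L v) : V) = v
        rw [Equiv.symm_apply_apply]
      rw [Equiv.Perm.one_apply, h3] at h2
      exact h2
  have hsign : ∀ x, Equiv.Perm.sign (φ x) = 1 := by
    intro x
    let f : alternatingGroup (Fin 5) →* ℤˣ := Equiv.Perm.sign.comp φ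
    rcases (inferInstance : f.ker.Normal).eq_bot_or_eq_top with h | h
    · exfalso
      have h1 := Nat.card_le_card_of_injective f (MonoidHom.ker_eq_bot_iff f |>.1 h)
      rw [card_A5, Nat.card_eq_fintype_card] at h1
      have : Fintype.card ℤˣ = 2 := by decide
      omega
    · have : x ∈ f.ker := by rw [h]; trivial
      exact this
  have hsurj : ∀ σ : Equiv.Perm (Fin 5), Equiv.Perm.sign σ = 1 → ∃ x, φ x = σ := by
    intro σ hσ
    let f : alternatingGroup (Fin 5) → alternatingGroup (Fin 5) := fun x => ⟨φ x, mem_iff.2 (hsign x)⟩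
    have hf : Function.Injective f := fun x y hxy => hinj (congrArg Subtype.val hxy)
    obtain ⟨x, hx⟩ := (Finite.injective_iff_surjective.1 hf) ⟨σ, mem_iff.2 hσ⟩
    exact ⟨x, congrArg Subtype.val hx⟩
  have hshift : ∀ (c : Fin 5 → ZMod 3) (x), el e x (∑ k, c k • vv k) = ∑ k, c ((φ x)⁻¹ k) • vv k := by
    intro c x
    rw [map_sum, ← Equiv.sum_comp (φ x) (fun k => c ((φ x)⁻¹ k) • vv k)]
    refine Finset.sum_congr rfl fun k _ => ?_
    rw [map_smul, hact, show (φ x)⁻¹ (φ x k) = k from (φ x).symm_apply_apply k]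
  have hrel : ∀ c : Fin 5 → ZMod 3, ∑ k, c k • vv k = 0 → ∀ i j, c i = c j := by
    intro c hc
    rcases rel_dec c with h | ⟨σ, hσ, i, j, hij, s, hs, hk⟩
    · exact h
    · exfalso
      obtain ⟨x, hx⟩ := hsurj σ⁻¹ (by rw [Equiv.Perm.sign_inv, hσ])
      have h1 := hshift c x
      rw [hc, map_zero, hx, inv_inv] at h1
      have h2 : ∑ k, (c k - c (σ k)) • vv k = 0 := by
        simp_rw [sub_smul]
        rw [Finset.sum_sub_distrib, hc, ← h1, sub_zero]
      simp_rw [hk, sub_smul, ite_smul, zero_smul] at h2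
      rw [Finset.sum_sub_distrib, Finset.sum_ite_eq', Finset.sum_ite_eq', if_pos (Finset.mem_univ _),
        if_pos (Finset.mem_univ _), ← smul_sub] at h2
      rcases smul_eq_zero.1 h2 with h3 | h3
      · exact hs h3
      · exact hij (hvv (sub_eq_zero.1 h3))
  let w : V := ∑ k, c0 k • vv k
  have hw : w ≠ 0 := fun h => c0_ne (hrel c0 h)
  obtain ⟨⟨x, hxw⟩, hx3⟩ := exists_prime_orderOf_dvd_card' (G := st e w) 3 (three_dvd_st e hP hw)
  rw [← Subgroup.orderOf_coe] at hx3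
  change orderOf x = 3 at hx3
  rw [mem_st] at hxw
  have h1 : ∑ k, (c0 k - c0 ((φ x)⁻¹ k)) • vv k = 0 := by
    simp_rw [sub_smul]
    rw [Finset.sum_sub_distrib, ← hshift, sub_eq_zero]
    exact hxw.symm
  obtain ⟨i, j, hij⟩ := c0_dec (φ x)⁻¹ (by
    rw [inv_pow, ← map_pow, ← hx3, pow_orderOf_eq_one, map_one, inv_one]) (by
    intro h
    have h2 : φ x = 1 := inv_eq_one.1 h
    have h3 : x = 1 := hinj (by rw [h2, map_one])
    rw [h3, orderOf_one] at hx3
    omega)
  exact hij (hrel _ h1 i j)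

end

/-! ### `SL(2,5)` -/

/-- an element of order three -/
def R3 : SL25 := ⟨!![0, 1; -1, -1], by decide⟩


set_option maxRecDepth 100000 in
set_option maxHeartbeats 4000000 in
theorem conj_R3 : ∀ x : SL25, x * x * x = 1 → x ≠ 1 → ∃ g : SL25, g * x = R3 * g := by set_option synthInstance.maxSize 20000 in open scoped Cfsg.Agent.Lib.MatDec in decide +kernel

set_option maxRecDepth 100000 in
set_option maxHeartbeats 4000000 in
theorem card_T3 : Fintype.card {x : SL25 // x * x * x = 1 ∧ x ≠ 1} = 20 := by set_option synthInstance.maxSize 20000 in open scoped Cfsg.Agent.Lib.MatDec in decide +kernel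

theorem num {N c : ℕ} (hN : 1 ≤ N) (hcN : c ≤ N) (h : 10 * (3 ^ c - 1) = 3 ^ N - 1) : 3 ^ N = 81 := by
  have h0 : 1 ≤ 3 ^ N := Nat.one_le_pow _ _ (by norm_num)
  have h1 : 1 ≤ 3 ^ c := Nat.one_le_pow _ _ (by norm_num)
  have h2 : 10 * 3 ^ c = 3 ^ N + 9 := by omega
  rcases Nat.lt_or_ge c 3 with hc | hc
  · interval_cases c
    · have h3 : 3 ^ 1 ≤ 3 ^ N := Nat.pow_le_pow_right (by norm_num) hN
      omega
    · have h3 : 3 ^ N = 21 := by omega
      rcases Nat.lt_or_ge N 3 with hN3 | hN3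
      · interval_cases N <;> omega
      · have h4 : 3 ^ 3 ≤ 3 ^ N := Nat.pow_le_pow_right (by norm_num) hN3
        omega
    · omega
  · obtain ⟨c, rfl⟩ : ∃ c', c = c' + 3 := ⟨c - 3, by omega⟩
    obtain ⟨N, rfl⟩ : ∃ N', N = N' + 3 := ⟨N - 3, by omega⟩
    rw [pow_add, pow_add] at h2
    omega

section

variable {V : Type u} [AddCommGroup V] [Module (ZMod 3) V] [Finite V] {L : Subgroup (V ≃ₗ[ZMod 3] V)}

/-- central elements with non-zero fixed vectors are trivial -/
theorem central_fixed (hirr : Irr L) {z : L} (hz : z ∈ Subgroup.center L) {v : V} (hv : v ≠ 0)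
    (hzv : (z : V ≃ₗ[ZMod 3] V) v = v) : z = 1 := by
  have hc := Subgroup.mem_center_iff.1 hz
  rcases hirr (fx (z : V ≃ₗ[ZMod 3] V)) (by
    intro g hg w hw
    rw [mem_fx] at hw ⊢
    have h1 : ((z * ⟨g, hg⟩ : L) : V ≃ₗ[ZMod 3] V) w = ((⟨g, hg⟩ * z : L) : V ≃ₗ[ZMod 3] V) w := by
      rw [hc ⟨g, hg⟩]
    change (z : V ≃ₗ[ZMod 3] V) (g w) = g ((z : V ≃ₗ[ZMod 3] V) w) at h1
    rw [h1, hw]) with h | h
  · exact absurd ((Submodule.mem_bot _).1 (h ▸ mem_fx.2 hzv)) hv
  · apply Subtype.ext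
    ext w
    have : w ∈ fx (z : V ≃ₗ[ZMod 3] V) := by rw [h]; trivial
    exact mem_fx.1 this

/-- `|V| = 81`, orbits of length 40 -/
theorem sl_case [Nontrivial V] (hirr : Irr L) (hP : PEx L) (e : L ≃* SL25)
    (e' : L ⧸ Subgroup.center L ≃* alternatingGroup (Fin 5)) :
    Nat.card V = 81 ∧ ∀ v : V, v ≠ 0 → Nat.card (MulAction.orbit L v) = 40 := by
  classical
  have hL : Nat.card L = 120 := by rw [Nat.card_congr e.toEquiv, natCard]
  have hst : ∀ v : V, v ≠ 0 → Nat.card (MulAction.stabilizer L v) = 3 := by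
    intro v hv
    set S := MulAction.stabilizer L v with hS
    have h3 : 3 ∣ Nat.card S := three_dvd hP (by rw [hL]; norm_num) hv
    have h2 : ¬ 2 ∣ Nat.card S := by
      intro hd
      obtain ⟨⟨s, hs⟩, hs2⟩ := exists_prime_orderOf_dvd_card' (G := S) 2 hd
      rw [← Subgroup.orderOf_coe] at hs2
      change orderOf s = 2 at hs2
      have hs1 : e s ≠ 1 := by
        intro h
        rw [(MulEquiv.map_eq_one_iff e).1 h, orderOf_one] at hs2
        omega
      have hss : e s * e s = 1 := by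
        have h4 := pow_orderOf_eq_one s
        rw [hs2, pow_two] at h4
        rw [← map_mul, h4, map_one]
      have h4 := eq_neg_one (e s) hss hs1
      have h5 : s ∈ Subgroup.center L := by
        rw [Subgroup.mem_center_iff]
        intro g
        apply e.injective
        rw [map_mul, map_mul, h4, mul_neg, neg_mul, mul_one, one_mul]
      have h6 := central_fixed hirr h5 hv hs
      exact hs1 (by rw [h6, map_one])
    have hd : Nat.card S ∣ 120 := hL ▸ Subgroup.card_subgroup_dvd_card S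
    have hd15 : Nat.card S ∣ 15 := by
      have h4 : Nat.Coprime (Nat.card S) (2 ^ 3) :=
        Nat.Coprime.pow_right 3 ((Nat.coprime_comm.1 ((Nat.Prime.coprime_iff_not_dvd Nat.prime_two).2 h2)))
      exact h4.dvd_of_dvd_mul_left (hd.trans (by norm_num))
    have h5 : ¬ 5 ∣ Nat.card S := by
      intro h5
      have h15 : Nat.card S = 15 :=
        Nat.dvd_antisymm hd15 (Nat.Coprime.mul_dvd_of_dvd_of_dvd (by norm_num : Nat.Coprime 3 5) h3 h5)
      let π : L →* alternatingGroup (Fin 5) := e'.toMonoidHom.comp (QuotientGroup.mk' (Subgroup.center L))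
      have hinj : Function.Injective (π.comp S.subtype) := by
        rw [injective_iff_map_eq_one]
        rintro ⟨s, hs⟩ h6
        have h7 : (QuotientGroup.mk' (Subgroup.center L)) s = 1 := (MulEquiv.map_eq_one_iff e').1 h6
        have h8 : s ∈ Subgroup.center L := (QuotientGroup.eq_one_iff s).1 h7
        exact Subtype.ext (central_fixed hirr h8 hv hs)
      have h6 : Nat.card (π.comp S.subtype).range = 15 := by
        rw [← h15]
        exact (Nat.card_congr (MonoidHom.ofInjective hinj).toEquiv).symm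
      have h7 := (π.comp S.subtype).range.card_mul_index
      rw [h6, card_A5] at h7
      have h8 := eq_top_of_index (H := (π.comp S.subtype).range) (by omega)
      rw [h8, Subgroup.index_top] at h7
      omega
    have h9 : Nat.card S ∣ 3 := by
      have h4 : Nat.Coprime (Nat.card S) 5 :=
        Nat.coprime_comm.1 ((Nat.Prime.coprime_iff_not_dvd Nat.prime_five).2 h5)
      exact h4.dvd_of_dvd_mul_left (hd15.trans (by norm_num))
    exact Nat.dvd_antisymm h9 h3
  refine ⟨?_, ?_⟩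
  swap
  · intro v hv
    have h1 := card_stab_mul (L := L) v
    rw [hst v hv, hL] at h1
    omega
  -- double counting
  haveI := Fintype.ofFinite L
  haveI := Fintype.ofFinite V
  let T : Finset L := Finset.univ.filter fun x => x * x * x = 1 ∧ x ≠ 1
  have hT : T.card = 20 := by
    rw [← card_T3, ← Fintype.card_subtype]
    refine Fintype.card_congr (e.toEquiv.subtypeEquiv fun x : L => ?_)
    constructor
    · rintro ⟨h1, h2⟩
      refine ⟨?_, fun h => h2 ((MulEquiv.map_eq_one_iff e).1 h)⟩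
      change e x * e x * e x = 1
      rw [← map_mul, ← map_mul, h1, map_one]
    · rintro ⟨h1, h2⟩
      refine ⟨?_, fun h => h2 (by rw [h]; exact map_one e)⟩
      apply e.injective
      rw [map_mul, map_mul, map_one]
      exact h1
  have hfx : ∀ x ∈ T, Nat.card (fx (x : V ≃ₗ[ZMod 3] V)) =
      Nat.card (fx ((e.symm R3 : L) : V ≃ₗ[ZMod 3] V)) := by
    intro x hx
    obtain ⟨h1, h2⟩ := (Finset.mem_filter.1 hx).2
    obtain ⟨g, hg⟩ := conj_R3 (e x) (by rw [← map_mul, ← map_mul, h1, map_one])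
      (fun h => h2 ((MulEquiv.map_eq_one_iff e).1 h))
    have h3 : e.symm R3 = e.symm g * x * (e.symm g)⁻¹ := by
      apply e.injective
      rw [map_mul, map_mul, map_inv, MulEquiv.apply_symm_apply, MulEquiv.apply_symm_apply, hg, mul_inv_cancel_right]
    rw [h3]
    exact (card_fx_conj _ _).symm
  have hcount : ∀ v : V, v ≠ 0 → (T.filter fun x : L => (x : V ≃ₗ[ZMod 3] V) v = v).card = 2 := by
    intro v hv
    have h1 := hst v hv
    have h2 : (Finset.univ.filter fun x : L => (x : V ≃ₗ[ZMod 3] V) v = v).card =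
        Nat.card (MulAction.stabilizer L v) := by
      rw [Nat.card_eq_fintype_card, ← Fintype.card_subtype]
      exact Fintype.card_congr (Equiv.subtypeEquivRight fun x => Iff.rfl)
    rw [h1] at h2
    have h3 : (T.filter fun x : L => (x : V ≃ₗ[ZMod 3] V) v = v) =
        (Finset.univ.filter fun x : L => (x : V ≃ₗ[ZMod 3] V) v = v).erase 1 := by
      ext x
      simp only [T, Finset.mem_filter, Finset.mem_univ, true_and, Finset.mem_erase]
      constructor
      · rintro ⟨⟨-, h⟩, h'⟩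
        exact ⟨h, h'⟩
      · rintro ⟨h, h'⟩
        refine ⟨⟨?_, h⟩, h'⟩
        have h4 : (⟨x, h'⟩ : MulAction.stabilizer L v) ^ Nat.card (MulAction.stabilizer L v) = 1 :=
          pow_card_eq_one'
        rw [h1] at h4
        have h5 := congrArg Subtype.val h4
        change x ^ 3 = 1 at h5
        rw [← h5, pow_succ, pow_two]
    rw [h3, Finset.card_erase_of_mem (by simp only [_root_.Finset.mem_filter, _root_.Finset.mem_univ, _root_.OneMemClass.coe_one, _root_.LinearEquiv.coe_one, _root_.id_eq, _root_.and_self]), h2]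
  have hsum : ∑ x ∈ T, (Nat.card (fx (x : V ≃ₗ[ZMod 3] V)) - 1) = ∑ _v ∈ (Finset.univ.erase (0 : V)), 2 := by
    have h1 : ∀ g : L, Nat.card (fx (g : V ≃ₗ[ZMod 3] V)) - 1 =
        ∑ v ∈ Finset.univ.erase (0 : V), if (g : V ≃ₗ[ZMod 3] V) v = v then 1 else 0 := by
      intro g
      rw [Finset.sum_boole, Nat.cast_id, Nat.card_eq_fintype_card, Fintype.card_subtype]
      rw [← Finset.card_erase_of_mem (a := (0 : V)) (by simp)]
      congr 1
      ext v
      simp only [Finset.mem_erase, Finset.mem_filter, Finset.mem_univ, true_and, mem_fx, and_comm]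
    simp_rw [h1]
    rw [Finset.sum_comm]
    refine Finset.sum_congr rfl fun v hv => ?_
    rw [← Finset.card_filter]
    exact hcount v (Finset.ne_of_mem_erase hv)
  rw [Finset.sum_congr rfl (fun x hx => by rw [hfx x hx]), Finset.sum_const, Finset.sum_const, hT,
    Finset.card_erase_of_mem (Finset.mem_univ _), Finset.card_univ, ← Nat.card_eq_fintype_card, smul_eq_mul,
    smul_eq_mul] at hsum
  have hV : Nat.card V = 3 ^ Module.finrank (ZMod 3) V := card_eq_pow (p := 3) V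
  have hF : Nat.card (fx ((e.symm R3 : L) : V ≃ₗ[ZMod 3] V)) =
      3 ^ Module.finrank (ZMod 3) (fx ((e.symm R3 : L) : V ≃ₗ[ZMod 3] V)) := card_eq_pow (p := 3) _
  rw [hV]
  rw [hF, hV] at hsum
  refine num ?_ (Submodule.finrank_le _) (c := Module.finrank (ZMod 3) (fx ((e.symm R3 : L) : V ≃ₗ[ZMod 3] V))) (by omega)
  exact Module.finrank_pos

end

/-- **The row `A₅`, `p = 3`.** -/
theorem row {K : Type w} [Field K] {V : Type u} [AddCommGroup V] [Module (ZMod 3) V] [Finite V] [Module K V]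
    {G L : Subgroup (V ≃ₗ[ZMod 3] V)} {h : ℕ} (H : QSP 3 K V G L h)
    (e : L ⧸ Subgroup.center L ≃* alternatingGroup (Fin 5)) : Tra G ∨ Exc G := by
  classical
  have hh := H.half
  have hne : ∃ v : V, v ≠ 0 := by
    obtain ⟨a, -, b, -, hab⟩ := H.nonab
    by_contra hcon
    push Not at hcon
    exact hab (LinearEquiv.ext fun v => by rw [hcon ((a * b) v), hcon ((b * a) v)])
  obtain ⟨v₀, hv₀⟩ := hne
  haveI : Nontrivial V := ⟨⟨v₀, 0, hv₀⟩⟩
  have hirr : Irr L := H.irr
  have hP : PEx L := pex_of_normal hh H.le H.nrm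
  rcases Cfsg.Agent.H981.CentAlt5.alt5 H.perf e with h1 | ⟨⟨e'⟩⟩
  · exfalso
    let e2 : L ≃* alternatingGroup (Fin 5) :=
      (QuotientGroup.quotientBot (G := L)).symm.trans ((QuotientGroup.quotientMulEquivOfEq h1.symm).trans e)
    exact alt_false e2 hirr hP
  · obtain ⟨hV, ho⟩ := sl_case hirr hP e' e
    have h0 : 0 < h := by have := H.two_le; omega
    obtain ⟨m, hm, hm0⟩ := exists_m hh ⟨v₀, hv₀⟩
    have h40 : 40 ∣ m := by
      rw [← ho v₀ hv₀]
      exact orbit_normal_dvd_m hh h0 hm L H.le H.nrm hv₀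
    have h80 : m ∣ 80 := by
      have := dvd_card_sub_one hh h0 hm
      rwa [hV] at this
    have hcases : m = 40 ∨ m = 80 := by
      obtain ⟨k, rfl⟩ := h40
      have h2 : 40 * k ≤ 80 := Nat.le_of_dvd (by norm_num) h80
      omega
    have horb : ∀ v : V, v ≠ 0 → (MulAction.orbit G v).ncard = m := by
      intro v hv
      rw [← Nat.card_coe_set_eq]
      exact orbit_card hh h0 hm hv
    have h0n : ∀ v : V, v ≠ 0 → MulAction.orbit G v ⊆ {x : V | x ≠ 0} := by
      rintro v hv _ ⟨g, rfl⟩ hz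
      exact hv ((g : V ≃ₗ[ZMod 3] V).map_eq_zero_iff.1 hz)
    have hnz : ({x : V | x ≠ 0} : Set V).ncard = 80 := by
      have h3 : {x : V | x ≠ 0} = {(0 : V)}ᶜ := by ext; simp
      rw [h3]
      have := Set.ncard_add_ncard_compl {(0 : V)}
      rw [Set.ncard_singleton, hV] at this
      omega
    rcases hcases with hm' | hm'
    · -- `m = 40`
      right
      subst hm'
      have hset : ∀ v : V, {u : V | ∃ g ∈ G, g v = u} = MulAction.orbit G v := by
        intro v
        ext u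
        constructor
        · rintro ⟨g, hg, rfl⟩
          exact ⟨⟨g, hg⟩, rfl⟩
        · rintro ⟨g, rfl⟩
          exact ⟨g, g.2, rfl⟩
      refine ⟨rfl, hV, ⟨L, H.le, H.nrm, ⟨e'⟩⟩, ?_, ?_⟩
      swap
      · intro v hv
        rw [hset, Nat.card_coe_set_eq]
        exact horb v hv
      obtain ⟨w₀, hw₀, hw₁⟩ : ∃ w : V, w ≠ 0 ∧ w ∉ MulAction.orbit G v₀ := by
        by_contra hcon
        push Not at hcon
        have h1 := Set.ncard_le_ncard (s := {x : V | x ≠ 0}) (t := MulAction.orbit G v₀)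
          (fun x hx => hcon x hx) (Set.toFinite _)
        rw [hnz, horb v₀ hv₀] at h1
        omega
      refine ⟨v₀, w₀, hv₀, hw₀, ?_, ?_⟩
      · rintro ⟨g, hg, hgv⟩
        exact hw₁ ⟨⟨g, hg⟩, hgv⟩
      · intro u hu
        have hd : Disjoint (MulAction.orbit G v₀) (MulAction.orbit G w₀) := by
          rw [Set.disjoint_left]
          intro x hx hx'
          apply hw₁
          rw [← MulAction.orbit_eq_iff] at hx hx' ⊢
          rw [← hx', hx]
        have h1 : MulAction.orbit G v₀ ∪ MulAction.orbit G w₀ = {x : V | x ≠ 0} := by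
          refine Set.eq_of_subset_of_ncard_le (Set.union_subset (h0n v₀ hv₀) (h0n w₀ hw₀)) ?_ (Set.toFinite _)
          rw [Set.ncard_union_eq hd (Set.toFinite _) (Set.toFinite _), horb v₀ hv₀, horb w₀ hw₀, hnz]
        have h2 : u ∈ MulAction.orbit G v₀ ∪ MulAction.orbit G w₀ := by rw [h1]; exact hu
        rcases h2 with ⟨g, hg⟩ | ⟨g, hg⟩
        · exact ⟨g, g.2, Or.inl hg⟩
        · exact ⟨g, g.2, Or.inr hg⟩
    · -- `m = 80`
      left
      subst hm'
      intro v w hv hw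
      have h1 : MulAction.orbit G v = {x : V | x ≠ 0} := by
        refine Set.eq_of_subset_of_ncard_le (h0n v hv) ?_ (Set.toFinite _)
        rw [hnz, horb v hv]
      have h2 : w ∈ MulAction.orbit G v := by rw [h1]; exact hw
      obtain ⟨g, hg⟩ := h2
      exact ⟨g, g.2, hg⟩

end Cfsg.Agent.H192.Ht.AFive

private theorem dce_c023be3f8919 : _root_.True := by
  try have : _root_.True := by simp only [_root_.Cfsg.Agent.H192.Ht.AFive.el.eq_1]
  exact _root_.True.intro
end

-- part: H19/RP/Two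
section
set_option linter.all false
open scoped Cfsg.Agent.FastGrp

/-!
# S3512, the rows of degree two (helper19)

`two_row` : `QL p K V G L h`, `finrank K V = 2`, `p ∣ |L|`, `L / Z(L)` not of Lie type in characteristic `p`:
`p = 3` and `L / Z(L) ≃* A₅`.
-/

set_option autoImplicit false
set_option linter.style.haveILetI false

open Cfsg Matrix
open Cfsg.Agent.H742.HT Cfsg.Agent.H192.Ht.QN

namespace Cfsg.Agent.H19.RP

universe u w

variable {p : ℕ} [Fact p.Prime] {K : Type w} [Field K] {V : Type u} [AddCommGroup V] [Module (ZMod p) V]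
  [Module K V] [Finite V] {G L : Subgroup (V ≃ₗ[ZMod p] V)} {h : ℕ}

/-- `L` as a group of matrices of determinant one -/
noncomputable def toSL (H : QL p K V G L h) {n : ℕ} (b : Module.Basis (Fin n) K V) :
    L →* SpecialLinearGroup (Fin n) K where
  toFun l := ⟨LinearMap.toMatrixAlgEquiv b ((toK H l : V ≃ₗ[K] V) : V →ₗ[K] V), by
    have h1 := det_toK H l
    have h2 : LinearMap.det ((toK H l : V ≃ₗ[K] V) : V →ₗ[K] V) = 1 := by
      rw [← LinearEquiv.coe_det, h1]; rfl
    rw [← h2]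
    exact LinearMap.det_toMatrix b _⟩
  map_one' := by
    apply Subtype.ext
    change LinearMap.toMatrixAlgEquiv b ((toK H 1 : V ≃ₗ[K] V) : V →ₗ[K] V) = 1
    rw [map_one]
    exact map_one _
  map_mul' x y := by
    apply Subtype.ext
    change LinearMap.toMatrixAlgEquiv b ((toK H (x * y) : V ≃ₗ[K] V) : V →ₗ[K] V) = _
    rw [map_mul]
    exact map_mul (LinearMap.toMatrixAlgEquiv b) _ _

theorem toSL_injective (H : QL p K V G L h) {n : ℕ} (b : Module.Basis (Fin n) K V) :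
    Function.Injective (toSL H b) := by
  intro x y hxy
  apply toK_injective H
  have h1 := congrArg Subtype.val hxy
  have h2 := (LinearMap.toMatrixAlgEquiv b).injective h1
  exact LinearEquiv.toLinearMap_injective h2

/-- the kernel on `PSL` is the centre -/
theorem ker_toPSL (H : QL p K V G L h) {n : ℕ} (b : Module.Basis (Fin n) K V) :
    ((QuotientGroup.mk' (Subgroup.center (SpecialLinearGroup (Fin n) K))).comp (toSL H b)).ker =
      Subgroup.center L := by
  ext x
  rw [MonoidHom.mem_ker, MonoidHom.comp_apply, QuotientGroup.mk'_apply, QuotientGroup.eq_one_iff]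
  constructor
  · intro hx
    rw [Subgroup.mem_center_iff]
    intro g
    apply toSL_injective H b
    rw [map_mul, map_mul]
    exact Subgroup.mem_center_iff.1 hx _
  · intro hx
    obtain ⟨c, hc⟩ := H.endo (x : V ≃ₗ[ZMod p] V) (fun l hl v => by
      have h1 := Subgroup.mem_center_iff.1 hx ⟨l, hl⟩
      have h2 : l * (x : V ≃ₗ[ZMod p] V) = x * l := congrArg Subtype.val h1
      exact (LinearEquiv.congr_fun h2 v).symm)
    have h3 : ((toK H x : V ≃ₗ[K] V) : V →ₗ[K] V) = c • LinearMap.id := LinearMap.ext hc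
    have h4 : ((toSL H b x : SpecialLinearGroup (Fin n) K) : Matrix (Fin n) (Fin n) K) = c • 1 := by
      change LinearMap.toMatrixAlgEquiv b ((toK H x : V ≃ₗ[K] V) : V →ₗ[K] V) = _
      rw [h3, map_smul]
      congr 1
      exact map_one _
    rw [Subgroup.mem_center_iff]
    intro g
    apply Subtype.ext
    change (g : Matrix (Fin n) (Fin n) K) * ((toSL H b x : SpecialLinearGroup (Fin n) K) : Matrix (Fin n) (Fin n) K) =
      ((toSL H b x : SpecialLinearGroup (Fin n) K) : Matrix (Fin n) (Fin n) K) * (g : Matrix (Fin n) (Fin n) K)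
    rw [h4, Matrix.mul_smul, Matrix.smul_mul, mul_one, one_mul]

/-- **degree two** -/
theorem two_row (H : QL p K V G L h) (h2 : Module.finrank K V = 2) (hp : p ∣ Nat.card L)
    (hn : ¬ IsLieTypeChar p (L ⧸ Subgroup.center L)) :
    p = 3 ∧ Nonempty (L ⧸ Subgroup.center L ≃* alternatingGroup (Fin 5)) := by
  haveI := finiteK H
  haveI := finiteDim H
  haveI := Fintype.ofFinite K
  haveI := H.simple
  obtain ⟨k, hk, hk0⟩ := exists_card H
  haveI : CharP K p := charP_of_card_eq_prime_pow (by rw [← Nat.card_eq_fintype_card]; exact hk)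
  let b : Module.Basis (Fin 2) K V := Module.finBasisOfFinrankEq K V h2
  set ψ := (QuotientGroup.mk' (Subgroup.center (SpecialLinearGroup (Fin 2) K))).comp (toSL H b) with hψ
  have hker : ψ.ker = Subgroup.center L := ker_toPSL H b
  let e : L ⧸ Subgroup.center L ≃* ψ.range :=
    (QuotientGroup.quotientMulEquivOfEq hker.symm).trans (QuotientGroup.quotientKerEquivRange ψ)
  haveI hs : IsSimpleGroup ψ.range := e.symm.isSimpleGroup
  -- noncommutative
  have hnc : ¬ IsMulCommutative ψ.range := by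
    intro hc
    obtain ⟨x, hx, y, hy, hxy⟩ := H.nonab
    have h1 : ∀ a b : L ⧸ Subgroup.center L, a * b = b * a := by
      intro a b
      apply e.injective
      rw [map_mul, map_mul]
      exact hc.is_comm.comm _ _
    have h3 : commutator L ≤ Subgroup.center L := by
      rw [commutator_def, Subgroup.commutator_le]
      intro a _ b _
      rw [← QuotientGroup.eq_one_iff, commutatorElement_def, QuotientGroup.mk_mul, QuotientGroup.mk_mul,
        QuotientGroup.mk_mul, h1 (QuotientGroup.mk a), QuotientGroup.mk_inv, QuotientGroup.mk_inv]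
      group
    rw [H.perf] at h3
    have h4 := Subgroup.mem_center_iff.1 (h3 (Subgroup.mem_top (⟨x, hx⟩ : L))) ⟨y, hy⟩
    exact hxy (congrArg Subtype.val h4).symm
  -- the order
  have hZ : ¬ p ∣ Nat.card (Subgroup.center L) := by
    intro hd
    obtain ⟨z, hz⟩ := exists_prime_orderOf_dvd_card' p hd
    obtain ⟨c, hc⟩ := H.endo ((z : L) : V ≃ₗ[ZMod p] V) (fun l hl v => by
      have h1 := Subgroup.mem_center_iff.1 z.2 ⟨l, hl⟩
      have h2 : l * ((z : L) : V ≃ₗ[ZMod p] V) = ((z : L) : V ≃ₗ[ZMod p] V) * l := congrArg Subtype.val h1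
      exact (LinearEquiv.congr_fun h2 v).symm)
    have hc' : ∀ v : V, ((z : L) : V ≃ₗ[ZMod p] V) v = c • v := hc
    have h3 : ∀ (j : ℕ) (v : V), (((z : L) : V ≃ₗ[ZMod p] V) ^ j) v = c ^ j • v := by
      intro j
      induction j with
      | zero => intro v; simp
      | succ j ih =>
        intro v
        rw [pow_succ', LinearEquiv.mul_apply, ih, hc', smul_smul, pow_succ']
    have h5 : z ^ p = 1 := orderOf_dvd_iff_pow_eq_one.1 (dvd_of_eq hz)
    have h4 : (((z : L) : V ≃ₗ[ZMod p] V) ^ p) = 1 :=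
      congrArg (fun t : Subgroup.center L => ((t : L) : V ≃ₗ[ZMod p] V)) h5
    haveI : Nontrivial V := Module.nontrivial_of_finrank_pos (R := K) (by omega)
    obtain ⟨v, hv⟩ := exists_ne (0 : V)
    have h5 : c ^ p = 1 := by
      have h6 : v = c ^ p • v := by
        have h6 := h3 p v
        rw [h4] at h6
        exact h6
      have h7 : (c ^ p - 1) • v = 0 := by rw [sub_smul, one_smul, ← h6, sub_self]
      rcases smul_eq_zero.1 h7 with h8 | h8
      · exact sub_eq_zero.1 h8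
      · exact absurd h8 hv
    have h6 : c = 1 := by
      have h7 : (c - 1) ^ p = 0 := by rw [sub_pow_char, h5, one_pow, sub_self]
      exact sub_eq_zero.1 (pow_eq_zero_iff (Fact.out : p.Prime).ne_zero |>.1 h7)
    have h7 : z = 1 := by
      apply Subtype.ext
      apply Subtype.ext
      apply LinearEquiv.ext
      intro v
      have h8 := hc' v
      rw [h6, one_smul] at h8
      exact h8
    rw [h7, orderOf_one] at hz
    exact (Fact.out : p.Prime).one_lt.ne hz
  have hpr : p ∣ Nat.card ψ.range := by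
    rw [← Nat.card_congr e.toEquiv]
    have h1 := Subgroup.card_eq_card_quotient_mul_card_subgroup (Subgroup.center L)
    rw [h1] at hp
    exact ((Fact.out : p.Prime).dvd_mul.1 hp).resolve_right hZ
  rcases psl_sub p ψ.range hs hnc hpr with h1 | ⟨h1, ⟨f⟩⟩
  · exfalso
    apply hn
    left
    obtain ⟨F, i1, i2, i3, n, hn1, hn2, ⟨f⟩⟩ := h1
    exact ⟨F, i1, i2, i3, n, hn1, hn2, ⟨e.trans f⟩⟩
  · exact ⟨h1, ⟨e.trans f⟩⟩

end Cfsg.Agent.H19.RP
end
end
end
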